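import Mathlib.RingTheory.Smooth.IntegralClosure
import Mathlib.RingTheory.Unramified.Field
import Mathlib.RingTheory.Unramified.Finite
import Mathlib.RingTheory.SimpleModule.Basic
import Mathlib.Algebra.CharP.Reduced
import Groth.Prelude.Def_CAlg2

/-!
# Geometrically unibranch local domains and étale local algebras over them
-/

namespace Groth.Agent.EtStruct

open TensorProduct

universe u

/-- Every residue field of `N` is purely inseparable over the image of `A`. -/
def PIResidue {A N : Type u} [CommRing A] [CommRing N] (f : A →+* N) : Prop :=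
  ∀ (m : Ideal N) [m.IsMaximal], ∀ x : N, ∃ (n : ℕ) (a : A),
    Ideal.Quotient.mk m (f a) = (Ideal.Quotient.mk m x) ^ (ringExpChar (N ⧸ m)) ^ n

theorem PIResidue.map {A B N N' : Type u} [CommRing A] [CommRing B] [CommRing N] [CommRing N']
    {f : A →+* N} {g : B →+* N'} (e : N ≃+* N')
    (hfg : ∀ a, e (f a) ∈ g.range) (h : PIResidue f) : PIResidue g := by
  intro m hm x
  have : (m.comap e.toRingHom).IsMaximal := Ideal.comap_isMaximal_of_surjective _ e.surjective
  let ē : N ⧸ m.comap e.toRingHom ≃+* N' ⧸ m :=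
    Ideal.quotientEquiv _ _ e (Ideal.map_comap_of_surjective _ e.surjective m).symm
  have hchar : ringExpChar (N' ⧸ m) = ringExpChar (N ⧸ m.comap e.toRingHom) := by
    let := Ideal.Quotient.field (m.comap e.toRingHom)
    let := Ideal.Quotient.field m
    have := expChar_of_injective_ringHom ē.injective (ringExpChar (N ⧸ m.comap e.toRingHom))
    exact ringExpChar.eq _ _
  obtain ⟨n, a, ha⟩ := h (m.comap e.toRingHom) (e.symm x)
  obtain ⟨b, hb⟩ := hfg a
  refine ⟨n, b, ?_⟩
  rw [hb, hchar]
  have := congrArg ē ha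
  rw [map_pow] at this
  change Ideal.Quotient.mk m (e (f a)) = Ideal.Quotient.mk m (e (e.symm x)) ^ _ at this
  rwa [RingEquiv.apply_symm_apply] at this

/-- Geometrically unibranch domains, through the integral closure in any fraction field. -/
theorem isGeomUnibranch_iff (A : Type u) [CommRing A] [IsLocalRing A] [IsDomain A] (K : Type u)
    [Field K] [Algebra A K] [IsFractionRing A K] :
    CAlg2.IsGeomUnibranch A ↔ IsLocalRing (integralClosure A K) ∧
      PIResidue (algebraMap A (integralClosure A K)) := by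
  let qe : A ≃+* CAlg2.red A :=
    ((Ideal.quotEquivOfEq (nilradical_eq_zero A)).trans (RingEquiv.quotientBot A)).symm
  have hqe : ∀ a, qe a = Ideal.Quotient.mk (nilradical A) a := fun a ↦ by
    apply qe.symm.injective
    rw [RingEquiv.symm_apply_apply]
    simp [qe]
  have hdom : IsDomain (CAlg2.red A) := qe.symm.toMulEquiv.isDomain_iff.mpr inferInstance
  let : Algebra (CAlg2.red A) K := ((algebraMap A K).comp qe.symm.toRingHom).toAlgebra
  have : IsScalarTower A (CAlg2.red A) K := .of_algebraMap_eq fun a ↦ by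
    rw [Ideal.Quotient.algebraMap_eq, ← hqe, RingHom.algebraMap_toAlgebra]
    simp
  have : IsFractionRing (CAlg2.red A) K := by
    have h := IsLocalization.isLocalization_of_base_ringEquiv (nonZeroDivisors A) K qe
    have hM : (nonZeroDivisors A).map (qe : A →+* CAlg2.red A).toMonoidHom =
        nonZeroDivisors (CAlg2.red A) :=
      MulEquivClass.map_nonZeroDivisors qe.toMulEquiv
    convert h
    exact hM.symm
  let eN := (FractionRing.algEquiv (CAlg2.red A) K).mapIntegralClosure
  have hint : ∀ x : K, IsIntegral (CAlg2.red A) x ↔ IsIntegral A x := fun x ↦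
    ⟨fun h ↦ isIntegral_trans x h, fun h ↦ h.tower_top⟩
  let eA : integralClosure (CAlg2.red A) K ≃+* integralClosure A K :=
    { toFun := fun x ↦ ⟨x.1, (hint _).mp x.2⟩
      invFun := fun x ↦ ⟨x.1, (hint _).mpr x.2⟩
      left_inv := fun _ ↦ rfl
      right_inv := fun _ ↦ rfl
      map_mul' := fun _ _ ↦ rfl
      map_add' := fun _ _ ↦ rfl }
  let e : CAlg2.normRed A ≃+* integralClosure A K := eN.toRingEquiv.trans eA
  have hcomm : ∀ a, e (algebraMap (CAlg2.red A) (CAlg2.normRed A) (Ideal.Quotient.mk _ a)) =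
      algebraMap A (integralClosure A K) a := fun a ↦ by
    show eA (eN (algebraMap _ _ _)) = _
    rw [AlgEquiv.commutes]
    apply Subtype.ext
    show algebraMap (CAlg2.red A) K (Ideal.Quotient.mk _ a) = algebraMap A K a
    exact (IsScalarTower.algebraMap_apply A (CAlg2.red A) K a).symm
  constructor
  · rintro ⟨⟨-, hloc⟩, hpi⟩
    refine ⟨RingEquiv.isLocalRing e, ?_⟩
    refine PIResidue.map (f := (algebraMap (CAlg2.red A) (CAlg2.normRed A)).comp
      (Ideal.Quotient.mk (nilradical A))) e (fun a ↦ ⟨a, (hcomm a).symm⟩) ?_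
    intro m _ x
    obtain ⟨n, a, ha⟩ := hpi m (Ideal.Quotient.mk m x)
    exact ⟨n, a, ha⟩
  · rintro ⟨hloc, hpi⟩
    refine ⟨⟨hdom, RingEquiv.isLocalRing e.symm⟩, fun m _ x ↦ ?_⟩
    have h := hpi.map (g := (algebraMap (CAlg2.red A) (CAlg2.normRed A)).comp
      (Ideal.Quotient.mk (nilradical A))) e.symm
      (fun a ↦ ⟨a, e.injective (by rw [e.apply_symm_apply]; exact hcomm a)⟩)
    obtain ⟨x, rfl⟩ := Ideal.Quotient.mk_surjective x
    obtain ⟨n, a, ha⟩ := h m x
    exact ⟨n, a, ha⟩

/-- Being a geometrically unibranch domain is invariant under isomorphisms. -/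
theorem isGeomUnibranch_of_ringEquiv {A B : Type u} [CommRing A] [IsLocalRing A] [IsDomain A]
    [CommRing B] [IsLocalRing B] [IsDomain B] (e : A ≃+* B) (h : CAlg2.IsGeomUnibranch A) :
    CAlg2.IsGeomUnibranch B := by
  let K := FractionRing A
  let : Algebra B K := ((algebraMap A K).comp e.symm.toRingHom).toAlgebra
  have : IsFractionRing B K := by
    have h' := IsLocalization.isLocalization_of_base_ringEquiv (nonZeroDivisors A) K e
    have hM : (nonZeroDivisors A).map (e : A →+* B).toMonoidHom = nonZeroDivisors B :=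
      MulEquivClass.map_nonZeroDivisors e.toMulEquiv
    convert h'
    exact hM.symm
  obtain ⟨hloc, hpi⟩ := (isGeomUnibranch_iff A K).mp h
  let : Algebra A B := e.toRingHom.toAlgebra
  have : IsScalarTower A B K := .of_algebraMap_eq fun a ↦ by
    simp [RingHom.algebraMap_toAlgebra]
  have : Algebra.IsIntegral A B := ⟨fun b ↦ by
    obtain ⟨a, rfl⟩ := e.surjective b
    exact isIntegral_algebraMap (R := A) (A := B) (x := a)⟩
  let eA : integralClosure A K ≃+* integralClosure B K :=
    { toFun := fun x ↦ ⟨x.1, x.2.tower_top⟩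
      invFun := fun x ↦ ⟨x.1, isIntegral_trans x.1 x.2⟩
      left_inv := fun _ ↦ rfl
      right_inv := fun _ ↦ rfl
      map_mul' := fun _ _ ↦ rfl
      map_add' := fun _ _ ↦ rfl }
  refine (isGeomUnibranch_iff B K).mpr ⟨RingEquiv.isLocalRing eA, hpi.map eA fun a ↦ ⟨e a, ?_⟩⟩
  apply Subtype.ext
  exact (IsScalarTower.algebraMap_apply A B K a).symm

set_option backward.isDefEq.respectTransparency false in
/-- A local flat unramified algebra over a geometrically unibranch local domain, along which
integral closure commutes with base change, is a geometrically unibranch domain. -/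
theorem isDomain_and_isGeomUnibranch_of_etale {A S K : Type u} [CommRing A] [IsLocalRing A]
    [IsDomain A] [Field K] [Algebra A K] [IsFractionRing A K] [CommRing S] [IsLocalRing S]
    [Algebra A S] [Module.Flat A S] [IsLocalHom (algebraMap A S)]
    [Algebra.FormallyUnramified A S] [Algebra.EssFiniteType A S]
    (hbc : Function.Bijective (TensorProduct.toIntegralClosure A S K))
    (hA : CAlg2.IsGeomUnibranch A) :
    IsDomain S ∧ CAlg2.IsGeomUnibranch S := by
  obtain ⟨hA'loc, hA'pi⟩ := (isGeomUnibranch_iff A K).mp hA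
  let A' := integralClosure A K
  have hinj : Function.Injective (algebraMap S (S ⊗[A] K)) := by
    have h1 : Function.Injective (LinearMap.lTensor S (Algebra.linearMap A K)) :=
      Module.Flat.lTensor_preserves_injective_linearMap _ (IsFractionRing.injective A K)
    intro a b h
    have : a ⊗ₜ[A] (1 : A) = b ⊗ₜ[A] (1 : A) := h1 (by simpa using h)
    simpa using congr(TensorProduct.rid A S $this)
  have : Algebra.IsIntegral S (S ⊗[A] A') := inferInstance
  have : Nontrivial (S ⊗[A] A') := by
    have : Nontrivial (S ⊗[A] K) := hinj.nontrivial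
    exact (Function.Injective.nontrivial (f := fun x : S ↦ x ⊗ₜ[A] (1 : A')) fun a b h ↦ hinj (by
      have := congrArg (fun z ↦ ((TensorProduct.toIntegralClosure A S K z :
        integralClosure S (S ⊗[A] K)) : S ⊗[A] K)) h
      simpa [TensorProduct.toIntegralClosure] using this))
  -- all maximal ideals of `S ⊗ A'` lie over the maximal ideal of `A'`
  have hover : ∀ M : Ideal (S ⊗[A] A'), M.IsMaximal →
      M.comap (algebraMap S (S ⊗[A] A')) = IsLocalRing.maximalIdeal S ∧
      M.comap (Algebra.TensorProduct.includeRight : A' →ₐ[A] S ⊗[A] A').toRingHom =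
        IsLocalRing.maximalIdeal A' := by
    intro M hM
    have h1 : M.comap (algebraMap S (S ⊗[A] A')) = IsLocalRing.maximalIdeal S :=
      IsLocalRing.eq_maximalIdeal (Ideal.isMaximal_comap_of_isIntegral_of_isMaximal (R := S) M)
    refine ⟨h1, IsLocalRing.eq_maximalIdeal ?_⟩
    have : (M.comap (Algebra.TensorProduct.includeRight : A' →ₐ[A] S ⊗[A] A').toRingHom).IsPrime :=
      Ideal.IsPrime.comap _
    refine Ideal.isMaximal_of_isIntegral_of_isMaximal_comap (R := A) _ ?_
    have : (M.comap (Algebra.TensorProduct.includeRight : A' →ₐ[A] S ⊗[A] A').toRingHom).comap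
        (algebraMap A A') = (M.comap (algebraMap S (S ⊗[A] A'))).comap (algebraMap A S) := by
      rw [Ideal.comap_comap, Ideal.comap_comap]
      congr 1
      ext a
      simp [← IsScalarTower.algebraMap_apply A S (S ⊗[A] A')]
    rw [this, h1, (((IsLocalRing.local_hom_TFAE _).out 0 4 rfl rfl).mp ‹_› :
      (IsLocalRing.maximalIdeal S).comap (algebraMap A S) = IsLocalRing.maximalIdeal A)]
    infer_instance
  let J : Ideal (S ⊗[A] A') := (IsLocalRing.maximalIdeal A').map
    (Algebra.TensorProduct.includeRight : A' →ₐ[A] S ⊗[A] A').toRingHom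
  have hJ : ∀ M : Ideal (S ⊗[A] A'), M.IsMaximal → J ≤ M := fun M hM ↦
    Ideal.map_le_iff_le_comap.mpr (hover M hM).2.ge
  let p := ringExpChar (A' ⧸ IsLocalRing.maximalIdeal A')
  -- modulo `J`, some `p`-power of any element comes from `S`
  have hpow : ∀ z : S ⊗[A] A', ∃ (n : ℕ) (s : S),
      Ideal.Quotient.mk J (algebraMap S (S ⊗[A] A') s) = Ideal.Quotient.mk J z ^ p ^ n := by
    obtain ⟨M₀, hM₀⟩ := Ideal.exists_maximal (S ⊗[A] A')
    let := Ideal.Quotient.field (IsLocalRing.maximalIdeal A')
    have : Nontrivial ((S ⊗[A] A') ⧸ J) :=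
      Ideal.Quotient.nontrivial_iff.mpr (ne_top_of_le_ne_top hM₀.ne_top (hJ M₀ hM₀))
    let κ : A' ⧸ IsLocalRing.maximalIdeal A' →+* (S ⊗[A] A') ⧸ J :=
      Ideal.quotientMap J _ Ideal.le_comap_map
    have : ExpChar ((S ⊗[A] A') ⧸ J) p := expChar_of_injective_ringHom κ.injective p
    intro z
    induction z with
    | zero => exact ⟨0, 0, by simp⟩
    | tmul s x =>
      obtain ⟨n, a, ha⟩ := hA'pi (IsLocalRing.maximalIdeal A') x
      refine ⟨n, s ^ p ^ n * algebraMap A S a, ?_⟩
      have hx : Ideal.Quotient.mk J ((1 : S) ⊗ₜ[A] algebraMap A A' a) =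
          Ideal.Quotient.mk J ((1 : S) ⊗ₜ[A] x) ^ p ^ n := by
        have := congrArg κ ha
        rw [map_pow] at this
        rw [Ideal.quotientMap_mk, Ideal.quotientMap_mk] at this
        exact this
      rw [show s ⊗ₜ[A] x = algebraMap S (S ⊗[A] A') s * ((1 : S) ⊗ₜ[A] x) by simp,
        ← map_pow (Ideal.Quotient.mk J), mul_pow, map_mul, map_mul, map_mul,
        map_pow (Ideal.Quotient.mk J), map_pow (Ideal.Quotient.mk J), ← hx,
        map_pow (algebraMap S (S ⊗[A] A')), map_pow (Ideal.Quotient.mk J)]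
      congr 2
      rw [← IsScalarTower.algebraMap_apply A S (S ⊗[A] A'),
        ← (Algebra.TensorProduct.includeRight : A' →ₐ[A] S ⊗[A] A').commutes a]
      rfl
    | add z w hz hw =>
      obtain ⟨n, s, hs⟩ := hz
      obtain ⟨m, t, ht⟩ := hw
      refine ⟨n + m, s ^ p ^ m + t ^ p ^ n, ?_⟩
      rw [map_add, map_add, map_pow, map_pow, map_pow, map_pow, hs, ht, ← pow_mul, ← pow_mul,
        ← pow_add, ← pow_add, add_comm m n, map_add]
      exact (add_pow_expChar_pow (Ideal.Quotient.mk J z) (Ideal.Quotient.mk J w) p (n + m)).symm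
  have hlocal : IsLocalRing (S ⊗[A] A') := by
    obtain ⟨M₀, hM₀⟩ := Ideal.exists_maximal (S ⊗[A] A')
    refine IsLocalRing.of_unique_max_ideal ⟨M₀, hM₀, fun M hM ↦ ?_⟩
    refine hM.eq_of_le hM₀.ne_top fun z hz ↦ ?_
    obtain ⟨n, s, hs⟩ := hpow z
    have hp : p ^ n ≠ 0 := pow_ne_zero _ (by
      let := Ideal.Quotient.field (IsLocalRing.maximalIdeal A')
      exact (expChar_pos (A' ⧸ IsLocalRing.maximalIdeal A') p).ne')
    rw [← map_pow, Ideal.Quotient.eq] at hs
    have h1 : algebraMap S (S ⊗[A] A') s ∈ M :=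
      (sub_add_cancel (algebraMap S (S ⊗[A] A') s) (z ^ p ^ n)) ▸
        M.add_mem (hJ M hM hs) (M.pow_mem_of_mem hz _ (Nat.pos_of_ne_zero hp))
    have h2 : s ∈ IsLocalRing.maximalIdeal S := (hover M hM).1 ▸ h1
    have h3 : algebraMap S (S ⊗[A] A') s ∈ M₀ := by
      rw [← Ideal.mem_comap, (hover M₀ hM₀).1]; exact h2
    refine hM₀.isPrime.mem_of_pow_mem (p ^ n) ?_
    exact (sub_sub_cancel (algebraMap S (S ⊗[A] A') s) (z ^ p ^ n)) ▸
      M₀.sub_mem h3 (hJ M₀ hM₀ hs)
  let Θ := AlgEquiv.ofBijective _ hbc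
  have hlocB : IsLocalRing (integralClosure S (S ⊗[A] K)) := RingEquiv.isLocalRing Θ.toRingEquiv
  -- `S ⊗ K` is a field
  have hfield : IsField (S ⊗[A] K) := by
    have : Nontrivial (S ⊗[A] K) := hinj.nontrivial
    let e := Algebra.TensorProduct.comm A S K
    refine MulEquiv.isField ?_ e.toMulEquiv
    have : Nontrivial (K ⊗[A] S) := e.injective.nontrivial
    have : IsReduced (K ⊗[A] S) := Algebra.FormallyUnramified.isReduced_of_field K (K ⊗[A] S)
    have : Module.Finite K (K ⊗[A] S) :=
      Algebra.FormallyUnramified.finite_of_free K (K ⊗[A] S)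
    have : IsArtinianRing (K ⊗[A] S) := IsArtinianRing.of_finite K (K ⊗[A] S)
    have : IsSemisimpleRing (K ⊗[A] S) := IsArtinianRing.isSemisimpleRing_of_isReduced _
    by_contra hnf
    obtain ⟨I, hI0, hI1⟩ := Ring.not_isField_iff_exists_ideal_bot_lt_and_lt_top.mp hnf
    obtain ⟨ε, hε, rfl⟩ := IsSemisimpleRing.ideal_eq_span_idempotent I
    have hε' : IsIdempotentElem (e.symm ε) := hε.map e.symm.toAlgHom
    let ε₁ : integralClosure S (S ⊗[A] K) := ⟨e.symm ε, ⟨Polynomial.X ^ 2 - Polynomial.X,
      (Polynomial.monic_X_pow 2).sub_of_left (by simp), by simp [pow_two, hε'.eq]⟩⟩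
    have hε₁ : IsIdempotentElem ε₁ := Subtype.ext hε'
    rcases IsLocalRing.isUnit_or_isUnit_one_sub_self ε₁ with h | h
    · have h' : ε₁ = 1 := (IsIdempotentElem.iff_eq_one_of_isUnit h).mp hε₁
      have : ε = 1 := e.symm.injective ((congrArg Subtype.val h').trans (map_one _).symm)
      simp [this] at hI1
    · have h' : ε₁ = 0 := by simpa using (IsIdempotentElem.iff_eq_one_of_isUnit h).mp hε₁.one_sub
      have : ε = 0 := e.symm.injective ((congrArg Subtype.val h').trans (map_zero _).symm)
      simp [this] at hI0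
  let := hfield.toField
  have hdom : IsDomain S := hinj.isDomain
  refine ⟨hdom, ?_⟩
  have : FaithfulSMul S (S ⊗[A] K) := (faithfulSMul_iff_algebraMap_injective _ _).mpr hinj
  have : IsFractionRing S (S ⊗[A] K) := by
    refine IsFractionRing.of_field S (S ⊗[A] K) fun z ↦ ?_
    have : ∃ (a : A) (s : S), a ≠ 0 ∧
        algebraMap A (S ⊗[A] K) a * z = algebraMap S (S ⊗[A] K) s := by
      induction z with
      | zero => exact ⟨1, 0, one_ne_zero, by simp⟩
      | tmul s k =>
        obtain ⟨b, a, ha, rfl⟩ := IsFractionRing.div_surjective (A := A) k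
        refine ⟨a, algebraMap A S b * s, nonZeroDivisors.ne_zero ha, ?_⟩
        rw [Algebra.TensorProduct.algebraMap_apply, Algebra.TensorProduct.tmul_mul_tmul,
          Algebra.TensorProduct.algebraMap_apply, Algebra.algebraMap_self, RingHom.id_apply,
          one_mul, ← Algebra.smul_def, ← Algebra.smul_def, TensorProduct.smul_tmul,
          TensorProduct.smul_tmul, Algebra.smul_def a, mul_div_cancel₀ _
          (IsFractionRing.to_map_ne_zero_of_mem_nonZeroDivisors ha), Algebra.smul_def, mul_one]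
      | add z w hz hw =>
        obtain ⟨a, s, ha, hs⟩ := hz
        obtain ⟨b, t, hb, ht⟩ := hw
        refine ⟨a * b, algebraMap A S b * s + algebraMap A S a * t, mul_ne_zero ha hb, ?_⟩
        rw [map_mul, map_add, map_mul, map_mul, ← hs, ← ht,
          ← IsScalarTower.algebraMap_apply, ← IsScalarTower.algebraMap_apply]
        ring
    obtain ⟨a, s, ha, hs⟩ := this
    refine ⟨s, algebraMap A S a, (eq_div_iff ?_).mpr ?_⟩
    · intro h0
      have h1 : algebraMap A S a = 0 := hinj (by simpa using h0)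
      have h2 : algebraMap A (S ⊗[A] K) a = 0 := by
        rw [IsScalarTower.algebraMap_apply A S (S ⊗[A] K), h1, map_zero]
      have h3 : (Algebra.TensorProduct.includeRight : K →ₐ[A] S ⊗[A] K) (algebraMap A K a) = 0 := by
        rw [AlgHom.commutes, h2]
      exact ha ((IsFractionRing.to_map_eq_zero_iff).mp
        ((map_eq_zero _).mp h3))
    · rw [← IsScalarTower.algebraMap_apply A S (S ⊗[A] K), mul_comm, hs]
  refine (isGeomUnibranch_iff S (S ⊗[A] K)).mpr ⟨hlocB, ?_⟩
  refine PIResidue.map (f := algebraMap S (S ⊗[A] A')) Θ.toRingEquiv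
    (fun s ↦ ⟨s, (Θ.commutes s).symm⟩) ?_
  intro M hM z
  obtain ⟨n, s, hs⟩ := hpow z
  refine ⟨n, s, ?_⟩
  have hchar : ringExpChar ((S ⊗[A] A') ⧸ M) = p := by
    let := Ideal.Quotient.field (IsLocalRing.maximalIdeal A')
    let κ : A' ⧸ IsLocalRing.maximalIdeal A' →+* (S ⊗[A] A') ⧸ M :=
      Ideal.quotientMap M _ (hover M hM).2.ge
    have : ExpChar ((S ⊗[A] A') ⧸ M) p := expChar_of_injective_ringHom κ.injective p
    exact ringExpChar.eq _ _
  rw [hchar]
  have := congrArg (Ideal.Quotient.factor (hJ M hM)) hs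
  simpa using this

end Groth.Agent.EtStruct
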