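import Mathlib.Topology.Sober
import Mathlib.AlgebraicGeometry.Morphisms.UniversallyOpen
import Mathlib.AlgebraicGeometry.Morphisms.QuasiFinite

/-!
# Generic points of irreducible components and flat quasi-finite morphisms
-/

namespace Groth.Agent.EtStruct

open AlgebraicGeometry CategoryTheory

universe u

/-- In a sober space the closure of a point is an irreducible component iff the point has no proper
generalization. -/
theorem closure_mem_irreducibleComponents_iff {α : Type u} [TopologicalSpace α] [T0Space α]
    [QuasiSober α] (x : α) :
    closure {x} ∈ irreducibleComponents α ↔ ∀ y, y ⤳ x → y = x := by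
  constructor
  · intro h y hy
    have h1 : closure {x} ⊆ closure {y} := specializes_iff_closure_subset.mp hy
    have h2 := h.2 isIrreducible_singleton.closure h1
    exact (hy.antisymm (specializes_iff_closure_subset.mpr h2)).eq
  · intro h
    obtain ⟨t, ht, hxt⟩ := exists_mem_irreducibleComponents_subset_of_isIrreducible _
      (isIrreducible_singleton (x := x)).closure
    have hg := ht.1.isGenericPoint_genericPoint (isClosed_of_mem_irreducibleComponents t ht)
    have := h _ (hg.specializes (hxt (subset_closure rfl)))
    rw [← this, hg.def]
    exact ht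

variable {X Y : Scheme.{u}} (f : X ⟶ Y)

/-- In a fibre of a locally quasi-finite morphism there are no specializations. -/
theorem eq_of_specializes_of_map_eq [LocallyQuasiFinite f] {x y : X} (h : x ⤳ y) (he : f x = f y) :
    x = y := by
  have hd : _root_.IsDiscrete (f ⁻¹' {f y}) := f.isDiscrete_preimage_singleton _
  have := hd.1
  have hs : (⟨x, he⟩ : f ⁻¹' {f y}) ⤳ ⟨y, rfl⟩ := (subtype_specializes_iff _ _).mpr h
  exact congr_arg Subtype.val hs.eq

/-- For a flat locally quasi-finite morphism a point is maximal iff its image is. -/
theorem maximal_iff_map_maximal [Flat f] [LocallyQuasiFinite f] (x : X) :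
    (∀ y, y ⤳ x → y = x) ↔ ∀ w, w ⤳ f x → w = f x := by
  refine ⟨fun h w hw ↦ ?_, fun h y hy ↦ ?_⟩
  · obtain ⟨y, hy, rfl⟩ := Flat.generalizingMap f hw
    rw [h y hy]
  · exact eq_of_specializes_of_map_eq f hy (h _ (hy.map f.continuous))

end Groth.Agent.EtStruct
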