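import Mathlib.AlgebraicGeometry.Morphisms.QuasiFinite
import Mathlib.AlgebraicGeometry.Morphisms.FormallyUnramified
import Mathlib.AlgebraicGeometry.Morphisms.Etale
import Mathlib.RingTheory.Unramified.LocalStructure

/-!
# Unramified morphisms locally of finite type are locally quasi-finite
-/

namespace Groth.Agent.EtStruct

open AlgebraicGeometry CategoryTheory

universe u

/-- An unramified morphism locally of finite type is locally quasi-finite. -/
theorem locallyQuasiFinite_of_formallyUnramified {X Y : Scheme.{u}} (f : X ⟶ Y)
    [FormallyUnramified f] [LocallyOfFiniteType f] : LocallyQuasiFinite f := by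
  constructor
  intro U hU V hV e
  let := (f.appLE U V e).hom.toAlgebra
  have : Algebra.FormallyUnramified Γ(Y, U) Γ(X, V) :=
    FormallyUnramified.formallyUnramified_appLE f hU hV e
  have : Algebra.FiniteType Γ(Y, U) Γ(X, V) := f.finiteType_appLE hU hV e
  exact RingHom.quasiFinite_algebraMap.mpr (inferInstance : Algebra.QuasiFinite Γ(Y, U) Γ(X, V))

set_option backward.isDefEq.respectTransparency false in
/-- Being étale is local at the source. -/
theorem etale_isZariskiLocalAtSource : IsZariskiLocalAtSource @Etale.{u} := inferInstance

set_option backward.isDefEq.respectTransparency false in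
/-- Being smooth is local at the source. -/
theorem smooth_isZariskiLocalAtSource : IsZariskiLocalAtSource @Smooth.{u} := inferInstance

set_option backward.isDefEq.respectTransparency false in
/-- Being formally unramified is local at the source. -/
theorem formallyUnramified_isZariskiLocalAtSource :
    IsZariskiLocalAtSource @FormallyUnramified.{u} := inferInstance

end Groth.Agent.EtStruct
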