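import Groth.Agent.EtStruct.UnibranchEtale
import Groth.Agent.EtStruct.Generic
import Groth.Agent.EtStruct.Instances
import Groth.Agent.SchPoints.Basic
import Groth.Agent.AlgSpD.ReducedEtale
import Groth.Agent.RedSub.Basic

/-!
# Étale schemes over integral geometrically unibranch schemes
-/

namespace Groth.Agent.EtStruct

open AlgebraicGeometry CategoryTheory

universe u

/-- A connected space in which every point has an irreducible open neighbourhood is irreducible. -/
theorem irreducibleSpace_of_connected_of_exists_irreducible_nhd {T : Type u} [TopologicalSpace T]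
    [ConnectedSpace T] (h : ∀ x : T, ∃ N : Set T, IsOpen N ∧ x ∈ N ∧ IsIrreducible N) :
    IrreducibleSpace T := by
  obtain ⟨x₀⟩ := (inferInstance : Nonempty T)
  have hZ := irreducibleComponent_mem_irreducibleComponents x₀
  have hopen : IsOpen (irreducibleComponent x₀) := by
    refine isOpen_iff_forall_mem_open.mpr fun z hz ↦ ?_
    obtain ⟨N, hN, hzN, hNi⟩ := h z
    refine ⟨N, fun w hw ↦ ?_, hN, hzN⟩
    have h1 : irreducibleComponent x₀ ⊆ closure N :=
      (subset_closure_inter_of_isPreirreducible_of_isOpen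
        isIrreducible_irreducibleComponent.2 hN ⟨z, hz, hzN⟩).trans
          (closure_mono Set.inter_subset_right)
    exact hZ.2 hNi.closure h1 (subset_closure hw)
  have huniv : irreducibleComponent x₀ = Set.univ :=
    IsClopen.eq_univ ⟨isClosed_irreducibleComponent, hopen⟩ ⟨x₀, mem_irreducibleComponent⟩
  exact (irreducibleSpace_def T).mpr
    (by rw [Set.top_eq_univ, ← huniv]; exact isIrreducible_irreducibleComponent)

variable {X Y : Scheme.{u}} (f : X ⟶ Y)

/-- Over an integral scheme, every maximal point of a flat locally quasi-finite scheme lies over the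
generic point. -/
theorem eq_genericPoint_of_maximal [IsIntegral Y] [Flat f] [LocallyQuasiFinite f] {g : X}
    (hg : ∀ y, y ⤳ g → y = g) : f g = genericPoint Y :=
  ((maximal_iff_map_maximal f g).mp hg _ (genericPoint_specializes _)).symm

set_option backward.isDefEq.respectTransparency false in
/-- Over an integral scheme all of whose local rings are geometrically unibranch, a point of an étale
scheme has an irreducible open neighbourhood. -/
theorem exists_irreducible_nhd_of_etale [IsIntegral Y] [Etale f] (x : X)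
    (hY : CAlg2.IsGeomUnibranch (Y.presheaf.stalk (f x))) :
    ∃ N : X.Opens, x ∈ N ∧ IsIrreducible (N : Set X) := by
  have : LocallyQuasiFinite f := locallyQuasiFinite_of_formallyUnramified f
  obtain ⟨hdom, -, -⟩ := isGeomUnibranch_stalk_of_etale f x
    ⟨⊤, trivial, MorphismProperty.comp_mem @Etale _ _ inferInstance inferInstance⟩ inferInstance hY
  have huniq := (SchPoints.isPrime_nilradical_stalk_iff x).mp
    (by rw [nilradical_eq_zero]; exact Ideal.isPrime_bot)
  have hgen : ∀ y : X, ∃ g : X, closure {g} = irreducibleComponent y ∧ g ⤳ y ∧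
      ∀ w, w ⤳ g → w = g := fun y ↦ by
    have hg := isIrreducible_irreducibleComponent.isGenericPoint_genericPoint
      (isClosed_irreducibleComponent (x := y))
    exact ⟨_, hg.def, hg.specializes mem_irreducibleComponent,
      (closure_mem_irreducibleComponents_iff _).mp
        (by rw [hg.def]; exact irreducibleComponent_mem_irreducibleComponents y)⟩
  obtain ⟨g, hg, hgx, -⟩ := hgen x
  obtain ⟨U, hU, V, hV, hVU, hx⟩ := exists_chart f x
  let M : Set X := {g' | g' ∈ V ∧ (∀ w, w ⤳ g' → w = g') ∧ g' ≠ g}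
  have hfin : M.Finite := by
    have : CompactSpace V.toScheme := isCompact_iff_compactSpace.mp hV.isCompact
    have : IsAffine U.toScheme := hU
    have : IsAffine V.toScheme := hV
    have : LocallyQuasiFinite (f.resLE U V hVU) := by
      have : LocallyQuasiFinite (f.resLE U V hVU ≫ U.ι) := by
        rw [Scheme.Hom.resLE_comp_ι]; infer_instance
      exact LocallyQuasiFinite.of_comp (f.resLE U V hVU) U.ι
    by_cases hη : genericPoint Y ∈ U
    · have hF := (f.resLE U V hVU).finite_preimage_singleton ⟨genericPoint Y, hη⟩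
      refine (hF.image V.ι).subset ?_
      rintro g' ⟨hg'V, hmax, -⟩
      refine ⟨⟨g', hg'V⟩, Subtype.ext ?_, rfl⟩
      exact (congr($(Scheme.Hom.resLE_comp_ι f hVU) ⟨g', hg'V⟩)).trans
        (eq_genericPoint_of_maximal f hmax)
    · exact absurd (((genericPoint_specializes (f x)).mem_open U.2 (hVU hx))) hη
  let N : X.Opens := ⟨(V : Set X) ∩ (⋃ g' ∈ M, closure {g'})ᶜ,
    V.2.inter (hfin.isClosed_biUnion fun _ _ ↦ isClosed_closure).isOpen_compl⟩
  have hxN : x ∈ N := by
    refine ⟨hx, ?_⟩
    simp only [Set.mem_compl_iff, Set.mem_iUnion, not_exists]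
    rintro g' ⟨hg'V, hmax, hne⟩ hxg'
    have h1 := huniq _ ((closure_mem_irreducibleComponents_iff g').mpr hmax) _
      (irreducibleComponent_mem_irreducibleComponents x) hxg' mem_irreducibleComponent
    exact hne ((specializes_iff_closure_subset.mpr (h1.trans hg.symm).ge).antisymm
      (specializes_iff_closure_subset.mpr (h1.trans hg.symm).le)).eq
  refine ⟨N, hxN, ⟨x, hxN⟩,
    (isIrreducible_singleton (x := g)).closure.2.open_subset N.2 fun y hy ↦ ?_⟩
  obtain ⟨g', hg', hg'y, hmax⟩ := hgen y
  by_cases h : g' = g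
  · exact h ▸ hg'y.mem_closure
  · exact absurd (Set.mem_biUnion (show g' ∈ M from ⟨hg'y.mem_open V.2 hy.1, hmax, h⟩)
      hg'y.mem_closure) hy.2

set_option backward.isDefEq.respectTransparency false in
/-- A scheme étale over a reduced geometrically unibranch scheme has domains as local rings. -/
theorem isReduced_of_etale_unibranch [IsIntegral Y] [Etale f]
    (hY : ∀ y : Y, CAlg2.IsGeomUnibranch (Y.presheaf.stalk y)) : IsReduced X := by
  have : ∀ x : X, _root_.IsReduced (X.presheaf.stalk x) := fun x ↦ by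
    have := (isGeomUnibranch_stalk_of_etale f x
      ⟨⊤, trivial, MorphismProperty.comp_mem @Etale _ _ inferInstance inferInstance⟩ inferInstance
      (hY (f x))).1
    infer_instance
  exact isReduced_of_isReduced_stalk X

end Groth.Agent.EtStruct

namespace Groth.Agent.EtStruct

open AlgebraicGeometry CategoryTheory

universe u

variable {X Y : Scheme.{u}}

set_option backward.isDefEq.respectTransparency false in
/-- An unramified point of a morphism of finite type lies in an open which is a closed subscheme of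
a scheme étale over the target. -/
theorem exists_isClosedImmersion_etale (f : X ⟶ Y) [LocallyOfFiniteType f] (x : X)
    (hu : (f.stalkMap x).hom.FormallyUnramified) :
    ∃ (W : X.Opens) (Z : Scheme.{u}) (i : W.toScheme ⟶ Z) (g : Z ⟶ Y),
      x ∈ W ∧ IsClosedImmersion i ∧ Etale g ∧ i ≫ g = W.ι ≫ f := by
  obtain ⟨U, hU, V, hV, hVU, hx⟩ := exists_chart f x
  let := (f.appLE U V hVU).hom.toAlgebra
  have : Algebra.FiniteType Γ(Y, U) Γ(X, V) := f.finiteType_appLE hU hV hVU
  have := (formallyUnramified_stalkMap_iff f hU hV hVU hx).mp hu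
  obtain ⟨r, hr, P, φ, hφ⟩ := Algebra.IsUnramifiedAt.exists_hasStandardEtaleSurjectionOn
    (R := Γ(Y, U)) (hV.primeIdealOf ⟨x, hx⟩).asIdeal
  have hxr : x ∈ X.basicOpen r := by
    have h' : hV.primeIdealOf ⟨x, hx⟩ ∈ hV.fromSpec ⁻¹ᵁ X.basicOpen r := by
      rw [hV.fromSpec_preimage_basicOpen]; exact hr
    have h'' : hV.fromSpec (hV.primeIdealOf ⟨x, hx⟩) ∈ X.basicOpen r := h'
    rwa [hV.fromSpec_primeIdealOf] at h''
  have hle : X.basicOpen r ≤ f ⁻¹ᵁ U := (X.basicOpen_le r).trans hVU
  have := hV.isLocalization_basicOpen r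
  let e := IsLocalization.algEquiv (.powers r) (Localization.Away r) Γ(X, X.basicOpen r)
  let ψ : CommRingCat.of P.Ring ⟶ Γ(X, X.basicOpen r) :=
    CommRingCat.ofHom (e.toRingEquiv.toRingHom.comp φ.toRingHom)
  have hψ : CommRingCat.ofHom (algebraMap Γ(Y, U) P.Ring) ≫ ψ = f.appLE U (X.basicOpen r) hle := by
    ext a
    show e (φ (algebraMap Γ(Y, U) P.Ring a)) = _
    rw [AlgHom.commutes, IsScalarTower.algebraMap_apply Γ(Y, U) Γ(X, V) (Localization.Away r),
      AlgEquiv.commutes]
    simp only [RingHom.algebraMap_toAlgebra, ← ConcreteCategory.comp_apply, Scheme.Hom.appLE_map]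
  refine ⟨X.basicOpen r, Spec (.of P.Ring), (hV.basicOpen r).isoSpec.hom ≫ Spec.map ψ,
    Spec.map (CommRingCat.ofHom (algebraMap Γ(Y, U) P.Ring)) ≫ hU.fromSpec, hxr, ?_, ?_, ?_⟩
  · have : IsClosedImmersion (Spec.map ψ) :=
      IsClosedImmersion.spec_of_surjective ψ (e.surjective.comp hφ)
    infer_instance
  · have : Etale (Spec.map (CommRingCat.ofHom (algebraMap Γ(Y, U) P.Ring))) := by
      rw [HasRingHomProperty.Spec_iff (P := @Etale), CommRingCat.hom_ofHom]
      exact RingHom.etale_algebraMap.mpr inferInstance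
    infer_instance
  · rw [Category.assoc, ← Spec.map_comp_assoc, hψ, IsAffineOpen.SpecMap_appLE_fromSpec,
      IsAffineOpen.isoSpec_hom_fromSpec_assoc]
    exact hV.basicOpen r

set_option backward.isDefEq.respectTransparency false in
/-- For an unramified morphism of finite type to an integral geometrically unibranch scheme, every
point has a neighbourhood which is étale or misses the generic fibre. -/
theorem exists_nhd_etale_or_disjoint [IsIntegral Y] (f : X ⟶ Y)
    [LocallyOfFiniteType f] (x : X) (hY : CAlg2.IsGeomUnibranch (Y.presheaf.stalk (f x)))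
    (hu : (f.stalkMap x).hom.FormallyUnramified) :
    ∃ N : X.Opens, x ∈ N ∧ (Etale (N.ι ≫ f) ∨ ∀ z ∈ N, f z ≠ genericPoint Y) := by
  obtain ⟨W, Z, i, g, hxW, hi, hg, hig⟩ :=
    exists_isClosedImmersion_etale f x hu
  obtain ⟨M, hM, hMirr⟩ := exists_irreducible_nhd_of_etale g (i ⟨x, hxW⟩) (by
    have h : g (i ⟨x, hxW⟩) = f x := congr($hig ⟨x, hxW⟩)
    rw [h]; exact hY)
  let N : X.Opens := W.ι ''ᵁ (i ⁻¹ᵁ M)
  refine ⟨N, ⟨⟨x, hxW⟩, hM, rfl⟩, ?_⟩
  by_cases hη : ∃ z : W.toScheme, i z ∈ M ∧ f z.1 = genericPoint Y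
  · left
    obtain ⟨z, hzM, hz⟩ := hη
    have : LocallyQuasiFinite g := locallyQuasiFinite_of_formallyUnramified g
    have hgen := hMirr.isGenericPoint_genericPoint_closure
    have hξ : hMirr.genericPoint = i z := by
      have h1 : hMirr.genericPoint ⤳ i z := hgen.specializes (subset_closure hzM)
      refine eq_of_specializes_of_map_eq g h1 ?_
      have h2 : g (i z) = genericPoint Y := (congr($hig z)).trans hz
      rw [h2]
      exact ((h1.map g.continuous).trans (specializes_of_eq h2)).antisymm
        (genericPoint_specializes _) |>.eq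
    have : IsReduced Z := by
      have : ∀ z : Z, _root_.IsReduced (Z.presheaf.stalk z) := fun z ↦
        (AlgSpD.isReduced_stalk_iff g z).mpr inferInstance
      exact isReduced_of_isReduced_stalk Z
    have : IsReduced M.toScheme := isReduced_of_isOpenImmersion M.ι
    have : Surjective (i ∣_ M) := by
      refine ⟨fun m ↦ ?_⟩
      have hm : m.1 ∈ Set.range i := by
        have h1 : i z ⤳ m.1 := hξ ▸ hgen.specializes (subset_closure m.2)
        exact h1.mem_closed i.isClosedEmbedding.isClosed_range ⟨z, rfl⟩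
      obtain ⟨w, hw⟩ := hm
      exact ⟨⟨w, show i w ∈ M from hw ▸ m.2⟩, Subtype.ext ((morphismRestrict_base_coe i M _).trans hw)⟩
    have : IsIso (i ∣_ M) := isIso_of_isClosedImmersion_of_surjective _
    have h : Etale ((i ⁻¹ᵁ M).ι ≫ W.ι ≫ f) := by
      rw [← hig, ← morphismRestrict_ι_assoc]
      infer_instance
    rw [show N.ι ≫ f = (W.ι.isoImage (i ⁻¹ᵁ M)).inv ≫ (i ⁻¹ᵁ M).ι ≫ W.ι ≫ f by
      rw [Scheme.Hom.isoImage_inv_ι_assoc]]
    infer_instance
  · right
    push Not at hη
    rintro _ ⟨z, hz, rfl⟩ hfz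
    exact hη z hz hfz

set_option backward.isDefEq.respectTransparency false in
/-- An unramified morphism of finite type from a connected scheme to an integral geometrically
unibranch scheme, meeting the generic fibre, is étale. -/
theorem etale_of_formallyUnramified_of_connected [IsIntegral Y] [ConnectedSpace X]
    (hY : ∀ y : Y, CAlg2.IsGeomUnibranch (Y.presheaf.stalk y)) (f : X ⟶ Y)
    [LocallyOfFiniteType f] [FormallyUnramified f] (hη : ∃ x : X, f x = genericPoint Y) :
    Etale f := by
  let E : Set X := {x | ∃ W : X.Opens, x ∈ W ∧ Etale (W.ι ≫ f)}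
  have hopen : IsOpen E := isOpen_iff_forall_mem_open.mpr fun x ⟨W, hx, hW⟩ ↦
    ⟨W, fun z hz ↦ ⟨W, hz, hW⟩, W.2, hx⟩
  have hclosed : IsClosed E := by
    refine isOpen_compl_iff.mp (isOpen_iff_forall_mem_open.mpr fun x hx ↦ ?_)
    obtain ⟨N, hxN, hN | hN⟩ := exists_nhd_etale_or_disjoint f x (hY _) (FormallyUnramified.stalkMap f x)
    · exact absurd ⟨N, hxN, hN⟩ hx
    · refine ⟨N, fun z hz hzE ↦ ?_, N.2, hxN⟩
      obtain ⟨W, hzW, hW⟩ := hzE
      obtain ⟨g, hg, hgη⟩ := Flat.generalizingMap (W.ι ≫ f)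
        (show genericPoint Y ⤳ (W.ι ≫ f) ⟨z, hzW⟩ from genericPoint_specializes _)
      exact hN g.1 ((hg.map W.ι.continuous).mem_open N.2 hz) hgη
  have hne : E.Nonempty := by
    obtain ⟨x, hx⟩ := hη
    obtain ⟨N, hxN, hN | hN⟩ := exists_nhd_etale_or_disjoint f x (hY _) (FormallyUnramified.stalkMap f x)
    · exact ⟨x, N, hxN, hN⟩
    · exact absurd hx (hN x hxN)
  have huniv : E = Set.univ := IsClopen.eq_univ ⟨hclosed, hopen⟩ hne
  have hx : ∀ x : X, ∃ W : X.Opens, x ∈ W ∧ Etale (W.ι ≫ f) := fun x ↦
    huniv.ge (Set.mem_univ x)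
  choose W hW using hx
  have := etale_isZariskiLocalAtSource.{u}
  exact (IsZariskiLocalAtSource.iff_of_openCover (P := @Etale) (X.openCoverOfIsOpenCover W
    (.mk (eq_top_iff.mpr fun x _ ↦ TopologicalSpace.Opens.mem_iSup.mpr ⟨x, (hW x).1⟩)))).mpr
    fun x ↦ (hW x).2

end Groth.Agent.EtStruct

namespace Groth.Agent.EtStruct

open AlgebraicGeometry CategoryTheory CategoryTheory.Limits TopologicalSpace

universe u

/-- The reduction of a geometrically unibranch local ring is geometrically unibranch, for any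
surjection with kernel the nilradical. -/
theorem isGeomUnibranch_of_surjective {A B : Type u} [CommRing A] [IsLocalRing A] [CommRing B]
    [IsLocalRing B] (φ : A →+* B) (hφ : Function.Surjective φ)
    (hker : RingHom.ker φ = nilradical A) (h : CAlg2.IsGeomUnibranch A) :
    IsDomain B ∧ CAlg2.IsGeomUnibranch B := by
  let e : CAlg2.red A ≃+* B :=
    (Ideal.quotEquivOfEq hker.symm).trans (RingHom.quotientKerEquivOfSurjective hφ)
  have := h.1.1
  have hB : IsDomain B := e.symm.toMulEquiv.isDomain_iff.mpr inferInstance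
  have : IsLocalRing (CAlg2.red A) :=
    .of_surjective' (Ideal.Quotient.mk _) Ideal.Quotient.mk_surjective
  refine ⟨hB, isGeomUnibranch_of_ringEquiv e ?_⟩
  refine (isGeomUnibranch_iff (CAlg2.red A) (FractionRing (CAlg2.red A))).mpr ⟨h.1.2, ?_⟩
  intro m _ x
  obtain ⟨n, a, ha⟩ := h.2 m (Ideal.Quotient.mk m x)
  exact ⟨n, Ideal.Quotient.mk _ a, ha⟩

/-- The stalk map of a surjective closed immersion from a reduced scheme has kernel the
nilradical. -/
theorem ker_stalkMap_eq_nilradical {X Y : Scheme.{u}} (i : Y ⟶ X) [IsClosedImmersion i]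
    [IsReduced Y] (hi : Function.Surjective i) (y : Y) :
    RingHom.ker (i.stalkMap y).hom = nilradical (X.presheaf.stalk (i y)) := by
  refine le_antisymm ?_ fun a ha ↦
    ((mem_nilradical.mp ha).map (i.stalkMap y).hom).eq_zero
  rw [nilradical_eq_sInf]
  refine le_sInf fun p (hp : p.IsPrime) ↦ ?_
  let z : Spec (X.presheaf.stalk (i y)) := ⟨p, hp⟩
  obtain ⟨w', hw'⟩ := hi (X.fromSpecStalk (i y) z)
  have hsp : w' ⤳ y := by
    rw [← i.isEmbedding.isInducing.specializes_iff, hw']
    exact SchPoints.fromSpecStalk_specializes _ _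
  obtain ⟨z', hz'⟩ := SchPoints.exists_fromSpecStalk_eq hsp
  have hz : Spec.map (i.stalkMap y) z' = z := by
    apply (X.fromSpecStalk (i y)).isEmbedding.injective
    rw [← Scheme.Hom.comp_apply, Scheme.SpecMap_stalkMap_fromSpecStalk, Scheme.Hom.comp_apply, hz',
      hw']
  intro a (ha : i.stalkMap y a = 0)
  show a ∈ z.asIdeal
  rw [← hz]
  show i.stalkMap y a ∈ z'.asIdeal
  rw [ha]
  exact z'.asIdeal.zero_mem

set_option backward.isDefEq.respectTransparency false in
/-- An irreducible geometrically unibranch scheme may be replaced by its reduction, in the study of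
the topology of étale schemes over it. -/
theorem exists_reduced_homeomorph {X Y : Scheme.{u}} (f : X ⟶ Y) [Etale f] [IrreducibleSpace Y]
    (hY : ∀ y : Y, CAlg2.IsGeomUnibranch (Y.presheaf.stalk y)) :
    ∃ (X' Y' : Scheme.{u}) (f' : X' ⟶ Y') (a : X' ≃ₜ X) (b : Y' ≃ₜ Y), Etale f' ∧ IsIntegral Y' ∧
      (∀ y : Y', CAlg2.IsGeomUnibranch (Y'.presheaf.stalk y)) ∧ ∀ x, f (a x) = b (f' x) := by
  let I := Scheme.IdealSheafData.vanishingIdeal (⊤ : Closeds Y)
  let ι := I.subschemeι
  have hsurj : Function.Surjective ι := Set.range_eq_univ.mp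
    (RedSub.range_vanishingIdeal_subschemeι (⊤ : Closeds Y))
  have : Surjective ι := ⟨hsurj⟩
  have hb : IsHomeomorph ι :=
    isHomeomorph_iff_isEmbedding_surjective.mpr ⟨ι.isEmbedding, hsurj⟩
  have ha : IsHomeomorph (pullback.fst f ι) :=
    isHomeomorph_iff_isEmbedding_surjective.mpr
      ⟨(pullback.fst f ι).isEmbedding, (pullback.fst f ι).surjective⟩
  have : IrreducibleSpace I.subscheme := by
    refine (irreducibleSpace_def _).mpr ?_
    have h : IsIrreducible (hb.homeomorph.symm '' (Set.univ : Set Y)) :=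
      (IrreducibleSpace.isIrreducible_univ _).image _ hb.homeomorph.symm.continuous.continuousOn
    rwa [Set.image_univ, EquivLike.range_eq_univ] at h
  have := isIntegral_of_irreducibleSpace_of_isReduced I.subscheme
  refine ⟨_, _, pullback.snd f ι, ha.homeomorph, hb.homeomorph, inferInstance, inferInstance,
    fun y ↦ ?_, fun x ↦ congr($(pullback.condition (f := f) (g := ι)) x)⟩
  have : IsClosedImmersion ι := inferInstance
  exact (isGeomUnibranch_of_surjective (ι.stalkMap y).hom (ι.stalkMap_surjective y)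
    (ker_stalkMap_eq_nilradical ι hsurj y) (hY _)).2

end Groth.Agent.EtStruct
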