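import Mathlib.AlgebraicGeometry.Morphisms.QuasiFinite
import Mathlib.AlgebraicGeometry.Morphisms.UniversallyOpen
import Mathlib.AlgebraicGeometry.Noetherian
import Mathlib.RingTheory.Algebraic.Basic

/-!
# Closed points of fibres and quasi-finite points
-/

namespace Groth.Agent.EtStruct

open AlgebraicGeometry CategoryTheory CategoryTheory.Limits

universe u

variable {X S : Scheme.{u}} (f : X ⟶ S)

theorem isClosed_asFiber_iff {s : S} (x : X) (z : f.fiber s) (hz : f.fiberι s z = x) :
    IsClosed ({f.asFiber x} : Set (f.fiber (f x))) ↔ IsClosed ({z} : Set (f.fiber s)) := by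
  have hs : f x = s := by
    have := Set.mem_range_self (f := f.fiberι s) z
    rw [f.range_fiberι, hz] at this
    exact this
  subst hs
  have : z = f.asFiber x := (f.fiberι _).isEmbedding.injective (by simp [hz])
  rw [this]

theorem isOpen_asFiber_iff {s : S} (x : X) (z : f.fiber s) (hz : f.fiberι s z = x) :
    IsOpen ({f.asFiber x} : Set (f.fiber (f x))) ↔ IsOpen ({z} : Set (f.fiber s)) := by
  have hs : f x = s := by
    have := Set.mem_range_self (f := f.fiberι s) z
    rw [f.range_fiberι, hz] at this
    exact this
  subst hs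
  have : z = f.asFiber x := (f.fiberι _).isEmbedding.injective (by simp [hz])
  rw [this]

set_option backward.isDefEq.respectTransparency false in
/-- A point is closed in its fibre iff its residue field is finite over that of its image. -/
theorem isClosed_asFiber_iff_finite [LocallyOfFiniteType f] (x : X) :
    IsClosed ({f.asFiber x} : Set (f.fiber (f x))) ↔ (f.residueFieldMap x).hom.Finite := by
  constructor
  · intro h
    have : IsClosedImmersion (f.asFiberHom x) :=
      .of_isPreimmersion _ (by rw [f.range_asFiberHom]; exact h)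
    have : LocallyOfFiniteType (f.fiberToSpecResidueField (f x)) :=
      MorphismProperty.pullback_snd _ _ inferInstance
    have h1 : LocallyOfFiniteType (Spec.map (f.residueFieldMap x)) := by
      rw [← f.asFiberHom_fiberToSpecResidueField x]; infer_instance
    rw [HasRingHomProperty.Spec_iff (P := @LocallyOfFiniteType)] at h1
    algebraize [(f.residueFieldMap x).hom]
    exact finite_of_finite_type_of_isJacobsonRing _ _
  · intro h
    have h1 : LocallyOfFiniteType (Spec.map (f.residueFieldMap x)) := by
      rw [HasRingHomProperty.Spec_iff (P := @LocallyOfFiniteType)]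
      exact h.finiteType
    have : LocallyOfFiniteType (f.asFiberHom x) := by
      rw [← f.asFiberHom_fiberToSpecResidueField x] at h1
      exact locallyOfFiniteType_of_comp _ (f.fiberToSpecResidueField (f x))
    have := (f.asFiberHom x).closePoints_subset_preimage_closedPoints
      (IsLocalRing.isClosed_singleton_closedPoint (X.residueField x))
    simpa [mem_closedPoints_iff] using this

theorem isMaximal_comap_of_isAlgebraic {k R K : Type u} [Field k] [CommRing R] [Field K]
    (ψ : k →+* R) (φ : R →+* K) (P : PrimeSpectrum K)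
    (h : @Algebra.IsAlgebraic k K _ _ (φ.comp ψ).toAlgebra) :
    (PrimeSpectrum.comap φ P).asIdeal.IsMaximal := by
  let := ψ.toAlgebra
  let := (φ.comp ψ).toAlgebra
  have : Algebra.IsAlgebraic k K := h
  let φ' : R →ₐ[k] K := { φ with commutes' := fun r ↦ rfl }
  have hP : P.asIdeal = ⊥ := (Ideal.eq_bot_or_top P.asIdeal).resolve_right P.isPrime.ne_top
  rw [PrimeSpectrum.comap_asIdeal, hP, ← RingHom.ker_eq_comap_bot,
    Ideal.Quotient.maximal_ideal_iff_isField_quotient]
  have hker : RingHom.ker φ = RingHom.ker φ'.rangeRestrict := by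
    ext y
    simp [φ', RingHom.mem_ker, Subtype.ext_iff]
  rw [hker]
  exact MulEquiv.isField (Subalgebra.isField_of_algebraic φ'.range)
    (Ideal.quotientKerAlgEquivOfSurjective φ'.rangeRestrict_surjective).toMulEquiv

/-- A point with algebraic residue field extension is closed in its fibre. -/
theorem isClosed_asFiber_of_isAlgebraic (x : X)
    (halg : @Algebra.IsAlgebraic (S.residueField (f x)) (X.residueField x) _ _
      (f.residueFieldMap x).hom.toAlgebra) :
    IsClosed ({f.asFiber x} : Set (f.fiber (f x))) := by
  let Z := f.fiber (f x)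
  rw [Z.affineCover.isOpenCover_opensRange.isClosed_iff_coe_preimage]
  intro i
  let j := Z.affineCover.f i
  let e : _ ≃ₜ (j.opensRange : Set Z) := j.isOpenEmbedding.isEmbedding.toHomeomorph
  rw [← e.isClosed_preimage]
  by_cases hx : f.asFiber x ∈ j.opensRange
  swap
  · convert isClosed_empty
    ext P
    simp only [Set.mem_preimage, Set.mem_empty_iff_false, iff_false]
    exact fun h ↦ hx ⟨P, h⟩
  obtain ⟨P, hP⟩ := hx
  have hrange : Set.range (f.asFiberHom x) ⊆ Set.range j := by
    rw [f.range_asFiberHom]
    exact Set.singleton_subset_iff.mpr ⟨P, hP⟩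
  let l := IsOpenImmersion.lift j (f.asFiberHom x) hrange
  have hl : l ≫ j = f.asFiberHom x := IsOpenImmersion.lift_fac _ _ _
  obtain ⟨φ, hφ⟩ := Spec.map_surjective l
  obtain ⟨ψ, hψ⟩ := Spec.map_surjective (j ≫ f.fiberToSpecResidueField (f x))
  have hcomp : Spec.map (ψ ≫ φ) = Spec.map (f.residueFieldMap x) := by
    rw [Spec.map_comp, hφ, hψ]
    refine (Category.assoc l j _).symm.trans ?_
    exact (congrArg (· ≫ f.fiberToSpecResidueField (f x)) hl).trans
      (f.asFiberHom_fiberToSpecResidueField x)
  have hP' : P = l (IsLocalRing.closedPoint (X.residueField x)) := by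
    apply j.isOpenEmbedding.injective
    refine hP.trans (Eq.trans ?_ (Scheme.Hom.comp_apply l j _))
    rw [hl]
    exact (f.asFiberHom_apply x _).symm
  have hmax : P.asIdeal.IsMaximal := by
    rw [hP', ← hφ]
    refine isMaximal_comap_of_isAlgebraic ψ.hom φ.hom _ ?_
    rw [show φ.hom.comp ψ.hom = (f.residueFieldMap x).hom from
      congrArg (fun m ↦ m.hom) (Spec.map_injective hcomp)]
    exact halg
  have : IsClosed ({P} : Set (Spec _)) := (PrimeSpectrum.isClosed_singleton_iff_isMaximal P).mpr hmax
  have heq : e ⁻¹' (Subtype.val ⁻¹' {f.asFiber x}) = {P} :=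
    Set.ext fun P' ↦ ⟨fun h ↦ j.isOpenEmbedding.injective ((show j P' = _ from h).trans hP.symm),
      fun h ↦ (congrArg j (show P' = P from h)).trans hP⟩
  exact heq ▸ this

/-- In a locally Noetherian scheme, a closed point without generisations is open. -/
theorem isOpen_singleton_of_forall_specializes {Z : Scheme.{u}} [IsLocallyNoetherian Z] (a : Z)
    (h : ∀ y, y ⤳ a → y = a) (hc : IsClosed ({a} : Set Z)) : IsOpen ({a} : Set Z) := by
  obtain ⟨U, hU, haU, -⟩ :=
    exists_isAffineOpen_mem_and_subset (TopologicalSpace.Opens.mem_top a)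
  have : IsNoetherian U.toScheme :=
    { toCompactSpace := isCompact_iff_compactSpace.mp hU.isCompact }
  let a' : U.toScheme := ⟨a, haU⟩
  have hfin := TopologicalSpace.NoetherianSpace.finite_irreducibleComponents (α := U.toScheme)
  have hclosed : IsClosed (⋃₀ {C ∈ irreducibleComponents U.toScheme | C ≠ {a'}}) := by
    rw [Set.sUnion_eq_biUnion]
    exact (hfin.subset fun C hC ↦ hC.1).isClosed_biUnion fun C hC ↦
      isClosed_of_mem_irreducibleComponents C hC.1
  have heq : (⋃₀ {C ∈ irreducibleComponents U.toScheme | C ≠ {a'}})ᶜ = {a'} := by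
    ext y
    simp only [Set.mem_compl_iff, Set.mem_sUnion, Set.mem_setOf_eq, not_exists, not_and,
      Set.mem_singleton_iff]
    constructor
    · intro hy
      by_contra hne
      refine hy (irreducibleComponent y) ⟨irreducibleComponent_mem_irreducibleComponents y, ?_⟩
        mem_irreducibleComponent
      intro hC
      exact hne (by simpa [hC] using mem_irreducibleComponent (x := y))
    · rintro rfl C ⟨hC, hne⟩ hmem
      obtain ⟨η, hη⟩ := QuasiSober.sober hC.1 (isClosed_of_mem_irreducibleComponents C hC)
      have hsp : η ⤳ a' := hη.specializes hmem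
      have : η = a' := Subtype.ext (h _ (hsp.map U.ι.continuous))
      subst this
      refine hne ?_
      rw [← hη.def]
      have : IsClosed ({a'} : Set U.toScheme) := by
        convert hc.preimage U.ι.continuous
        ext z
        exact ⟨fun e ↦ congrArg Subtype.val e, fun e ↦ Subtype.ext e⟩
      exact this.closure_eq
  have h3 : IsOpen ({a'} : Set U.toScheme) := heq ▸ hclosed.isOpen_compl
  exact (Set.image_singleton (f := Subtype.val) (a := a')) ▸ U.2.isOpenMap_subtype_val _ h3

set_option backward.isDefEq.respectTransparency false in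
theorem quasiFiniteAt_iff_isClosed_and_forall [LocallyOfFiniteType f] (x : X) :
    f.QuasiFiniteAt x ↔ IsClosed ({f.asFiber x} : Set (f.fiber (f x))) ∧
      ∀ x' : f.fiber (f x), x' ⤳ f.asFiber x → x' = f.asFiber x := by
  constructor
  · intro h
    exact ⟨h.isClopen_singleton_asFiber.isClosed, fun x' hx' ↦
      hx'.mem_open h.isClopen_singleton_asFiber.isOpen rfl⟩
  · rintro ⟨h₁, h₂⟩
    rw [Scheme.Hom.quasiFiniteAt_iff_isOpen_singleton_asFiber]
    have : LocallyOfFiniteType (f.fiberToSpecResidueField (f x)) :=
      MorphismProperty.pullback_snd _ _ inferInstance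
    have : IsLocallyNoetherian (f.fiber (f x)) :=
      LocallyOfFiniteType.isLocallyNoetherian (f.fiberToSpecResidueField (f x))
    exact isOpen_singleton_of_forall_specializes _ h₂ h₁

section baseChange

variable {X' S' : Scheme.{u}} {g : S' ⟶ S} {g' : X' ⟶ X} {f' : X' ⟶ S'}

set_option backward.isDefEq.respectTransparency false in
/-- The comparison map of fibres under base change. -/
noncomputable def fiberMap (sq : IsPullback g' f' f g) (s' : S') :
    f'.fiber s' ⟶ f.fiber (g s') :=
  pullback.map f' (S'.fromSpecResidueField s') f (S.fromSpecResidueField (g s')) g'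
    (Spec.map (g.residueFieldMap s')) g sq.w.symm (by simp)

theorem fiberMap_asFiber (sq : IsPullback g' f' f g) (x' : X') :
    f.fiberι (g (f' x')) (fiberMap f sq (f' x') (f'.asFiber x')) = g' x' := by
  have h : fiberMap f sq (f' x') ≫ f.fiberι (g (f' x')) = f'.fiberι (f' x') ≫ g' :=
    pullback.lift_fst ..
  rw [← Scheme.Hom.comp_apply, h, Scheme.Hom.comp_apply, f'.fiberι_asFiber]

set_option backward.isDefEq.respectTransparency false in
theorem finite_and_isClosed_preimage_fiberMap [LocallyOfFiniteType f]
    (sq : IsPullback g' f' f g) (s' : S') (a : f.fiber (g s'))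
    (ha : IsClosed ({a} : Set (f.fiber (g s')))) :
    (fiberMap f sq s' ⁻¹' {a}).Finite ∧ ∀ a' ∈ fiberMap f sq s' ⁻¹' {a}, IsClosed {a'} := by
  let Z := f.fiber (g s')
  let r := fiberMap f sq s'
  have : LocallyOfFiniteType (f.fiberToSpecResidueField (g s')) :=
    MorphismProperty.pullback_snd _ _ inferInstance
  have : JacobsonSpace Z := inferInstanceAs (JacobsonSpace (f.fiber (g s')))
  have hci := isClosed_singleton_iff_isClosedImmersion.mp ha
  let c := Z.fromSpecResidueField a
  let e := c ≫ f.fiberToSpecResidueField (g s')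
  have : IsFinite e :=
    (isFinite_iff_locallyOfFiniteType_of_jacobsonSpace (f := e)).mpr inferInstance
  have sq' : IsPullback r (f'.fiberToSpecResidueField s') (f.fiberToSpecResidueField (g s'))
      (Spec.map (g.residueFieldMap s')) := isPullback_fiberToSpecResidueField_of_isPullback sq s'
  have sq'' := (IsPullback.of_hasPullback c r).paste_vert sq'
  have : IsFinite (pullback.snd c r ≫ f'.fiberToSpecResidueField s') :=
    MorphismProperty.of_isPullback sq'' ‹IsFinite e›
  have : IsLocallyArtinian (pullback c r) :=
    IsLocallyArtinian.of_locallyQuasiFinite (pullback.snd c r ≫ f'.fiberToSpecResidueField s')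
  have : CompactSpace (pullback c r : Scheme) :=
    QuasiCompact.compactSpace_of_compactSpace (pullback.snd c r ≫ f'.fiberToSpecResidueField s')
  have : IsArtinianScheme (pullback c r) := { }
  have : IsClosedImmersion (pullback.snd c r) := inferInstance
  have hr : Set.range (pullback.snd c r) = r ⁻¹' {a} := by
    rw [Scheme.Pullback.range_snd, Scheme.range_fromSpecResidueField]
  refine ⟨hr ▸ Set.finite_range _, fun a' ha' ↦ ?_⟩
  obtain ⟨z, rfl⟩ := hr.ge ha'
  rw [← Set.image_singleton]
  exact (pullback.snd c r).isClosedEmbedding.isClosedMap _ (isClosed_discrete _)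

theorem isClosed_asFiber_of_baseChange [LocallyOfFiniteType f] (sq : IsPullback g' f' f g) (x' : X')
    (hx : IsClosed ({f.asFiber (g' x')} : Set (f.fiber (f (g' x'))))) :
    IsClosed ({f'.asFiber x'} : Set (f'.fiber (f' x'))) :=
  (finite_and_isClosed_preimage_fiberMap f sq (f' x') _
    ((isClosed_asFiber_iff f (g' x') _ (fiberMap_asFiber f sq x')).mp hx)).2 _ rfl

set_option backward.isDefEq.respectTransparency false in
theorem quasiFiniteAt_baseChange_iff [LocallyOfFiniteType f] (sq : IsPullback g' f' f g) (x' : X') :
    f'.QuasiFiniteAt x' ↔ f.QuasiFiniteAt (g' x') := by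
  have : LocallyOfFiniteType f' := MorphismProperty.of_isPullback sq ‹LocallyOfFiniteType f›
  rw [Scheme.Hom.quasiFiniteAt_iff_isOpen_singleton_asFiber,
    Scheme.Hom.quasiFiniteAt_iff_isOpen_singleton_asFiber,
    isOpen_asFiber_iff f (g' x') _ (fiberMap_asFiber f sq x')]
  let r := fiberMap f sq (f' x')
  let a := r (f'.asFiber x')
  have sq' : IsPullback r (f'.fiberToSpecResidueField (f' x'))
      (f.fiberToSpecResidueField (g (f' x'))) (Spec.map (g.residueFieldMap (f' x'))) :=
    isPullback_fiberToSpecResidueField_of_isPullback sq (f' x')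
  constructor
  · intro h
    have : UniversallyOpen (Spec.map (g.residueFieldMap (f' x'))) := inferInstance
    have : UniversallyOpen r := MorphismProperty.of_isPullback sq'.flip ‹_›
    have := r.isOpenMap _ h
    simpa using this
  · intro h
    have ha : IsClosed ({a} : Set (f.fiber (g (f' x')))) :=
      have : LocallyOfFiniteType (f.fiberToSpecResidueField (g (f' x'))) :=
        MorphismProperty.pullback_snd _ _ inferInstance
      isClosed_singleton_of_isLocallyClosed_singleton h.isLocallyClosed
    obtain ⟨hfin, hcl⟩ := finite_and_isClosed_preimage_fiberMap f sq (f' x') a ha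
    have : IsOpen (r ⁻¹' {a} \ ((r ⁻¹' {a}) \ {f'.asFiber x'})) := by
      refine (h.preimage r.continuous).sdiff ?_
      rw [← Set.biUnion_of_singleton (r ⁻¹' {a} \ {f'.asFiber x'})]
      exact (hfin.subset Set.sdiff_subset).isClosed_biUnion fun b hb ↦ hcl b hb.1
    convert this
    ext b
    simp only [Set.mem_singleton_iff, Set.mem_sdiff, Set.mem_preimage]
    exact ⟨fun e ↦ ⟨e ▸ rfl, fun h' ↦ h'.2 e⟩, fun h' ↦ by_contra fun hne ↦ h'.2 ⟨h'.1, hne⟩⟩

end baseChange

end Groth.Agent.EtStruct
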