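import Groth.Agent.EtStruct.Core
import Mathlib.AlgebraicGeometry.Morphisms.Etale
import Mathlib.AlgebraicGeometry.Morphisms.Smooth
import Mathlib.AlgebraicGeometry.Morphisms.FormallyUnramified

/-!
# Pointwise criteria for a morphism to be unramified or étale near a point
-/

namespace Groth.Agent.EtStruct

open AlgebraicGeometry CategoryTheory

universe u

variable {X Y : Scheme.{u}} (f : X ⟶ Y) {x : X}

/-- An affine chart around a point. -/
theorem exists_chart (x : X) : ∃ (U : Y.Opens) (_ : IsAffineOpen U) (V : X.Opens)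
    (_ : IsAffineOpen V) (_ : V ≤ f ⁻¹ᵁ U), x ∈ V := by
  obtain ⟨_, ⟨U, hU, rfl⟩, hxU, -⟩ :=
    Y.isBasis_affineOpens.exists_subset_of_mem_open (Set.mem_univ (f x)) isOpen_univ
  obtain ⟨_, ⟨V, hV, rfl⟩, hxV, hVU⟩ :=
    X.isBasis_affineOpens.exists_subset_of_mem_open hxU (U.2.preimage f.continuous)
  exact ⟨U, hU, V, hV, hVU, hxV⟩

theorem formallyUnramified_stalkMap_iff {U : Y.Opens} (hU : IsAffineOpen U) {V : X.Opens}
    (hV : IsAffineOpen V) (hVU : V ≤ f ⁻¹ᵁ U) (hx : x ∈ V) :
    letI := (f.appLE U V hVU).hom.toAlgebra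
    (f.stalkMap x).hom.FormallyUnramified ↔
      Algebra.IsUnramifiedAt Γ(Y, U) (hV.primeIdealOf ⟨x, hx⟩).asIdeal := by
  let := (f.appLE U V hVU).hom.toAlgebra
  let p := (hU.primeIdealOf ⟨f x, hVU hx⟩).asIdeal
  let q := (hV.primeIdealOf ⟨x, hx⟩).asIdeal
  have : q.LiesOver p :=
    ⟨congr($(IsAffineOpen.comap_primeIdealOf_appLE U hU V hV hVU hx).1).symm⟩
  let := Localization.AtPrime.algebraOfLiesOver p q
  trans Algebra.FormallyUnramified (Localization.AtPrime p) (Localization.AtPrime q)
  · rw [← RingHom.formallyUnramified_algebraMap]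
    exact RingHom.FormallyUnramified.respectsIso.arrow_mk_iso_iff
      (IsAffineOpen.arrowStalkMapIso f U hU V hV hVU hx)
  · exact ⟨fun _ ↦ Algebra.FormallyUnramified.comp _ (Localization.AtPrime p) _,
      fun _ ↦ .of_restrictScalars Γ(Y, U) _ _⟩

theorem flat_stalkMap_iff {U : Y.Opens} (hU : IsAffineOpen U) {V : X.Opens}
    (hV : IsAffineOpen V) (hVU : V ≤ f ⁻¹ᵁ U) (hx : x ∈ V) :
    letI := (f.appLE U V hVU).hom.toAlgebra
    (f.stalkMap x).hom.Flat ↔
      Module.Flat Γ(Y, U) (Localization.AtPrime (hV.primeIdealOf ⟨x, hx⟩).asIdeal) := by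
  let := (f.appLE U V hVU).hom.toAlgebra
  let p := (hU.primeIdealOf ⟨f x, hVU hx⟩).asIdeal
  let q := (hV.primeIdealOf ⟨x, hx⟩).asIdeal
  have : q.LiesOver p :=
    ⟨congr($(IsAffineOpen.comap_primeIdealOf_appLE U hU V hV hVU hx).1).symm⟩
  let := Localization.AtPrime.algebraOfLiesOver p q
  trans Module.Flat (Localization.AtPrime p) (Localization.AtPrime q)
  · rw [← RingHom.flat_algebraMap_iff]
    exact RingHom.Flat.respectsIso.arrow_mk_iso_iff
      (IsAffineOpen.arrowStalkMapIso f U hU V hV hVU hx)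
  · exact Module.flat_iff_of_isLocalization (Localization.AtPrime p) p.primeCompl _

theorem stalkMap_ι_comp_iff {P : ∀ {R S : Type u} [CommRing R] [CommRing S], (R →+* S) → Prop}
    (hP : RingHom.RespectsIso P) (W : X.Opens) (x : W.toScheme) :
    P ((W.ι ≫ f).stalkMap x).hom ↔ P (f.stalkMap x.1).hom := by
  rw [Scheme.Hom.stalkMap_comp]
  exact hP.cancel_right_isIso _ _

/-- A morphism locally of finite type is unramified near `x` iff its stalk map at `x` is. -/
theorem formallyUnramified_nhd_iff [LocallyOfFiniteType f] (x : X) :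
    (∃ W : X.Opens, x ∈ W ∧ FormallyUnramified (W.ι ≫ f)) ↔
      (f.stalkMap x).hom.FormallyUnramified := by
  constructor
  · rintro ⟨W, hx, h⟩
    exact (stalkMap_ι_comp_iff f RingHom.FormallyUnramified.respectsIso W ⟨x, hx⟩).mp
      (FormallyUnramified.stalkMap _ _)
  · intro H
    obtain ⟨U, hU, V, hV, hVU, hx⟩ := exists_chart f x
    let := (f.appLE U V hVU).hom.toAlgebra
    have : Algebra.FiniteType Γ(Y, U) Γ(X, V) := f.finiteType_appLE hU hV hVU
    have := (formallyUnramified_stalkMap_iff f hU hV hVU hx).mp H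
    obtain ⟨r, hr, hunr⟩ := Algebra.exists_unramified_of_isUnramifiedAt (R := Γ(Y, U))
      (hV.primeIdealOf ⟨x, hx⟩).asIdeal
    refine ⟨X.basicOpen r, ?_, ?_⟩
    · have h' : hV.primeIdealOf ⟨x, hx⟩ ∈ hV.fromSpec ⁻¹ᵁ X.basicOpen r := by
        rw [hV.fromSpec_preimage_basicOpen]; exact hr
      have h'' : hV.fromSpec (hV.primeIdealOf ⟨x, hx⟩) ∈ X.basicOpen r := h'
      rwa [hV.fromSpec_primeIdealOf] at h''
    · have hle : X.basicOpen r ≤ f ⁻¹ᵁ U := (X.basicOpen_le r).trans hVU
      have happ : (f.appLE U (X.basicOpen r) hle).hom.FormallyUnramified := by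
        have := hV.isLocalization_basicOpen r
        have h' : (algebraMap Γ(Y, U) (Localization.Away r)).FormallyUnramified :=
          RingHom.formallyUnramified_algebraMap.mpr inferInstance
        convert RingHom.FormallyUnramified.respectsIso.1 _
          (IsLocalization.algEquiv (.powers r) (Localization.Away r)
            Γ(X, X.basicOpen r)).toRingEquiv h'
        ext
        dsimp
        simp only [IsScalarTower.algebraMap_apply Γ(Y, U) Γ(X, V) (Localization.Away r),
          AlgEquiv.commutes]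
        simp only [RingHom.algebraMap_toAlgebra,
          ← ConcreteCategory.comp_apply, Scheme.Hom.appLE_map]
      have : IsAffine _ := hU
      have : IsAffine _ := hV.basicOpen r
      have : FormallyUnramified (f.resLE U (X.basicOpen r) hle) := by
        rw [HasRingHomProperty.iff_of_isAffine (P := @FormallyUnramified)]
        exact (RingHom.FormallyUnramified.respectsIso.arrow_mk_iso_iff
          (arrowResLEAppIso f U (X.basicOpen r) hle)).mpr happ
      rw [← Scheme.Hom.resLE_comp_ι f hle]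
      exact MorphismProperty.comp_mem @FormallyUnramified _ _ ‹_› inferInstance

/-- A morphism locally of finite type which is unramified and flat at a point has formally smooth
stalk map there. -/
theorem formallySmooth_stalkMap [LocallyOfFiniteType f] (x : X)
    (hu : (f.stalkMap x).hom.FormallyUnramified) (hf : (f.stalkMap x).hom.Flat) :
    (f.stalkMap x).hom.FormallySmooth := by
  obtain ⟨U, hU, V, hV, hVU, hx⟩ := exists_chart f x
  let := (f.appLE U V hVU).hom.toAlgebra
  have : Algebra.FiniteType Γ(Y, U) Γ(X, V) := f.finiteType_appLE hU hV hVU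
  have := (formallyUnramified_stalkMap_iff f hU hV hVU hx).mp hu
  have := (flat_stalkMap_iff f hU hV hVU hx).mp hf
  have := isEtaleAt_of_isUnramifiedAt_of_flat (A := Γ(Y, U)) (hV.primeIdealOf ⟨x, hx⟩).asIdeal
  exact (formallySmooth_stalkMap_iff U hU V hV hVU hx).mpr
    (inferInstanceAs (Algebra.FormallySmooth _ _))

/-- A morphism locally of finite presentation is étale near `x` iff its stalk map at `x` is flat
and unramified. -/
theorem etale_nhd_iff [LocallyOfFinitePresentation f] (x : X) :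
    (∃ W : X.Opens, x ∈ W ∧ Etale (W.ι ≫ f)) ↔
      (f.stalkMap x).hom.FormallyUnramified ∧ (f.stalkMap x).hom.Flat := by
  constructor
  · rintro ⟨W, hx, h⟩
    exact ⟨(stalkMap_ι_comp_iff f RingHom.FormallyUnramified.respectsIso W ⟨x, hx⟩).mp
        (FormallyUnramified.stalkMap _ _),
      (stalkMap_ι_comp_iff f RingHom.Flat.respectsIso W ⟨x, hx⟩).mp (Flat.stalkMap _ _)⟩
  · rintro ⟨hu, hf⟩
    obtain ⟨W₁, hx₁, h₁⟩ := (formallyUnramified_nhd_iff f x).mpr hu
    let W₂ := f.smoothLocus
    have hx₂ : x ∈ W₂ := formallySmooth_stalkMap f x hu hf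
    refine ⟨W₁ ⊓ W₂, ⟨hx₁, hx₂⟩, ?_⟩
    have h2 : Smooth ((W₁ ⊓ W₂).ι ≫ f) := by
      rw [← Scheme.Hom.smoothLocus_eq_top_iff, ← Scheme.Hom.preimage_smoothLocus_eq, eq_top_iff]
      exact fun z _ ↦ z.2.2
    have h1 : FormallyUnramified ((W₁ ⊓ W₂).ι ≫ f) := by
      rw [← X.homOfLE_ι (inf_le_left : W₁ ⊓ W₂ ≤ W₁), Category.assoc]
      exact MorphismProperty.comp_mem @FormallyUnramified _ _ inferInstance h₁
    exact Etale.of_formallyUnramified_of_flat _

end Groth.Agent.EtStruct
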