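import Groth.Agent.EtStruct.Scheme
import Mathlib.AlgebraicGeometry.Morphisms.FiniteType
import Mathlib.AlgebraicGeometry.ResidueField

/-!
# The stalk criterion for unramified points in terms of residue fields
-/

namespace Groth.Agent.EtStruct

open AlgebraicGeometry CategoryTheory

universe u

variable {X Y : Scheme.{u}} (f : X ⟶ Y)

theorem stalkMap_formallyUnramified_iff [LocallyOfFiniteType f] (x : X) :
    (f.stalkMap x).hom.FormallyUnramified ↔
      ((IsLocalRing.maximalIdeal (Y.presheaf.stalk (f.base x))).map (f.stalkMap x).hom =
          IsLocalRing.maximalIdeal (X.presheaf.stalk x) ∧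
        letI := (f.residueFieldMap x).hom.toAlgebra
        Module.Finite (Y.residueField (f.base x)) (X.residueField x) ∧
          Algebra.IsSeparable (Y.residueField (f.base x)) (X.residueField x)) := by
  algebraize [(f.stalkMap x).hom]
  have : IsLocalHom (algebraMap (Y.presheaf.stalk (f x)) (X.presheaf.stalk x)) :=
    inferInstanceAs <| IsLocalHom (f.stalkMap x).hom
  have : Algebra.EssFiniteType (Y.presheaf.stalk (f x)) (X.presheaf.stalk x) := by
    rw [← RingHom.essFiniteType_algebraMap, RingHom.algebraMap_toAlgebra]
    exact LocallyOfFiniteType.stalkMap f x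
  have hres : (f.residueFieldMap x).hom.toAlgebra =
      (IsLocalRing.ResidueField.instAlgebra :
        Algebra (IsLocalRing.ResidueField (Y.presheaf.stalk (f x)))
          (IsLocalRing.ResidueField (X.presheaf.stalk x))) := by
    refine Algebra.algebra_ext _ _ fun a ↦ ?_
    obtain ⟨a, rfl⟩ := IsLocalRing.residue_surjective a
    rfl
  rw [hres]
  constructor
  · intro h
    have : Algebra.FormallyUnramified (Y.presheaf.stalk (f x)) (X.presheaf.stalk x) := h
    exact ⟨Algebra.FormallyUnramified.map_maximalIdeal,
      (inferInstance : Module.Finite (IsLocalRing.ResidueField (Y.presheaf.stalk (f x)))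
        (IsLocalRing.ResidueField (X.presheaf.stalk x))),
      (inferInstance : Algebra.IsSeparable (IsLocalRing.ResidueField (Y.presheaf.stalk (f x)))
        (IsLocalRing.ResidueField (X.presheaf.stalk x)))⟩
  · rintro ⟨h1, -, h3⟩
    exact Algebra.FormallyUnramified.iff_map_maximalIdeal_eq.mpr ⟨h3, h1⟩

end Groth.Agent.EtStruct
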