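import Mathlib

/-!
# Images of finite étale algebras over integrally closed domains in fields
-/

namespace Groth.Agent.EtStruct

open TensorProduct Polynomial

universe u

theorem exists_idempotent_eq_span (K : Type u) {E : Type u} [Field K] [CommRing E] [Algebra K E]
    [Algebra.FormallyUnramified K E] [Algebra.EssFiniteType K E] (I : Ideal E) :
    ∃ e : E, IsIdempotentElem e ∧ I = Ideal.span {e} := by
  have : IsReduced E := Algebra.FormallyUnramified.isReduced_of_field K E
  have : Module.Finite K E := Algebra.FormallyUnramified.finite_of_free K E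
  have : IsArtinianRing E := IsArtinianRing.of_finite K E
  have : IsSemisimpleRing E := IsArtinianRing.isSemisimpleRing_of_isReduced E
  exact IsSemisimpleRing.ideal_eq_span_idempotent I

variable {R : Type u} [CommRing R] [IsDomain R] [IsIntegrallyClosed R] {K : Type u} [Field K]
  [Algebra R K] [IsFractionRing R K] {C : Type u} [CommRing C] [Algebra R C] [Algebra.Etale R C]

/-- Elements of the generic fibre of a smooth algebra over a normal domain integral over the base
are sections. -/
theorem exists_one_tmul_eq_of_isIntegral (z : K ⊗[R] C) (hz : IsIntegral R z) :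
    ∃ c : C, (1 : K) ⊗ₜ[R] c = z := by
  let e := Algebra.TensorProduct.comm R K C
  have hz' : IsIntegral C (e z) :=
    ((isIntegral_algHom_iff e.toAlgHom e.injective).mpr hz).tower_top
  obtain ⟨w, hw⟩ := (TensorProduct.toIntegralClosure_bijective_of_smooth
    (R := R) (S := C) (B := K)).2 ⟨e z, hz'⟩
  have key : ∀ t : C ⊗[R] ↥(integralClosure R K), ∃ c : C, c ⊗ₜ[R] (1 : K) =
      (TensorProduct.toIntegralClosure R C K t : C ⊗[R] K) := by
    intro t
    induction t with
    | zero => exact ⟨0, by simp⟩
    | add a b ha hb =>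
      obtain ⟨ca, hca⟩ := ha
      obtain ⟨cb, hcb⟩ := hb
      exact ⟨ca + cb, by rw [TensorProduct.add_tmul, hca, hcb, map_add]; rfl⟩
    | tmul c a =>
      obtain ⟨a', ha'⟩ := IsIntegrallyClosed.isIntegral_iff.mp a.2
      refine ⟨a' • c, ?_⟩
      show _ = c ⊗ₜ[R] (a : K)
      rw [TensorProduct.smul_tmul, ← ha', Algebra.algebraMap_eq_smul_one]
  obtain ⟨c, hc⟩ := key w
  refine ⟨c, e.injective ?_⟩
  rw [Algebra.TensorProduct.comm_tmul, hc, hw]

theorem injective_one_tmul : Function.Injective (fun c : C ↦ (1 : K) ⊗ₜ[R] c) := by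
  have h1 : Function.Injective (LinearMap.lTensor C (Algebra.linearMap R K)) :=
    Module.Flat.lTensor_preserves_injective_linearMap _ (IsFractionRing.injective R K)
  intro c d h
  have : (c ⊗ₜ[R] (1 : R)) = d ⊗ₜ[R] (1 : R) := h1 (by
    simpa using congr(Algebra.TensorProduct.comm R K C $h))
  simpa using congr(TensorProduct.rid R C $this)

variable {L₁ : Type u} [Field L₁] [Algebra R L₁]

/-- The image of an étale algebra over a normal domain in a field: if it generates the field over
the fraction field, it is étale and equals the integral closure, provided the algebra is integral. -/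
theorem etale_range_and_eq_integralClosure [Algebra.IsIntegral R C] (ψ : C →ₐ[R] L₁)
    (α : K →ₐ[R] L₁) (hgen : Subfield.closure (Set.range α ∪ Set.range ψ) = ⊤) :
    Algebra.Etale R ↥ψ.range ∧ ψ.range = integralClosure R L₁ := by
  let Φ : K ⊗[R] C →ₐ[R] L₁ := Algebra.TensorProduct.lift α ψ fun _ _ ↦ .all _ _
  have : (RingHom.ker Φ.toRingHom).IsPrime := RingHom.ker_isPrime _
  obtain ⟨e, he, hker⟩ := exists_idempotent_eq_span K (RingHom.ker Φ.toRingHom)
  have : IsArtinianRing (K ⊗[R] C) := by
    have : Module.Finite K (K ⊗[R] C) := Algebra.FormallyUnramified.finite_of_free K (K ⊗[R] C)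
    exact IsArtinianRing.of_finite K (K ⊗[R] C)
  have hrange : IsField Φ.range := by
    have : (RingHom.ker Φ.toRingHom).IsMaximal := IsArtinianRing.isMaximal_of_isPrime _
    exact MulEquiv.isField ((Ideal.Quotient.maximal_ideal_iff_isField_quotient _).mp this)
      (Ideal.quotientKerEquivRange Φ).symm.toMulEquiv
  have hΦψ : ∀ c, Φ ((1 : K) ⊗ₜ c) = ψ c := fun c ↦ by simp [Φ]
  have hΦ : Function.Surjective Φ := by
    intro y
    let F : Subfield L₁ :=
      { Φ.range.toSubring with
        inv_mem' := fun x hx ↦ by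
          rcases eq_or_ne x 0 with rfl | h0
          · show (0 : L₁)⁻¹ ∈ Φ.range.toSubring
            rw [inv_zero]; exact Subring.zero_mem _
          obtain ⟨⟨b, hb⟩, hb'⟩ := hrange.mul_inv_cancel (a := (⟨x, hx⟩ : Φ.range))
            (fun h ↦ h0 (congrArg Subtype.val h : ((⟨x, hx⟩ : Φ.range) : L₁) = _))
          have h1 : x * b = 1 := congrArg Subtype.val hb'
          rw [← eq_inv_of_mul_eq_one_right h1]; exact hb }
    suffices Subfield.closure (Set.range α ∪ Set.range ψ) ≤ F from this (hgen ▸ trivial)
    rw [Subfield.closure_le]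
    rintro _ (⟨k, rfl⟩ | ⟨c, rfl⟩)
    · exact ⟨k ⊗ₜ 1, by simp [Φ]⟩
    · exact ⟨1 ⊗ₜ c, hΦψ c⟩
  obtain ⟨ε, hε⟩ := exists_one_tmul_eq_of_isIntegral e ⟨X ^ 2 - X,
    (Polynomial.monic_X_pow 2).sub_of_left (by simp), by simp [pow_two, he.eq]⟩
  have hεe : IsIdempotentElem ε := injective_one_tmul (R := R) (K := K) (by
    show (1 : K) ⊗ₜ[R] (ε * ε) = (1 : K) ⊗ₜ[R] ε
    rw [← mul_one (1 : K), ← Algebra.TensorProduct.tmul_mul_tmul, mul_one, hε, he.eq])
  have hkerψ : RingHom.ker ψ.toRingHom = Ideal.span {ε} := by
    ext c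
    have hmem : c ∈ RingHom.ker ψ.toRingHom ↔ (1 : K) ⊗ₜ[R] c ∈ Ideal.span {e} := by
      rw [← hker]
      exact Eq.congr_left (hΦψ c).symm
    rw [hmem, Ideal.mem_span_singleton', Ideal.mem_span_singleton']
    constructor
    · rintro ⟨r, hr⟩
      refine ⟨c, injective_one_tmul (R := R) (K := K) ?_⟩
      show (1 : K) ⊗ₜ[R] (c * ε) = (1 : K) ⊗ₜ[R] c
      rw [← mul_one (1 : K), ← Algebra.TensorProduct.tmul_mul_tmul, mul_one, hε, ← hr,
        mul_assoc, he.eq]
    · rintro ⟨a, rfl⟩
      refine ⟨(1 : K) ⊗ₜ a, ?_⟩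
      rw [← hε, Algebra.TensorProduct.tmul_mul_tmul, mul_one]
  constructor
  · let : Algebra C ψ.range := ψ.rangeRestrict.toRingHom.toAlgebra
    have : IsScalarTower R C ψ.range :=
      .of_algebraMap_eq fun r ↦ (ψ.rangeRestrict.commutes r).symm
    have : IsLocalization.Away (1 - ε) ψ.range := by
      refine IsLocalization.away_of_isIdempotentElem hεe.one_sub ?_ ψ.rangeRestrict_surjective
      rw [sub_sub_cancel, ← hkerψ]
      ext c
      simp [RingHom.algebraMap_toAlgebra, RingHom.mem_ker, Subtype.ext_iff]
    have : Algebra.Etale R (Localization.Away (1 - ε)) :=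
      .comp R C (Localization.Away (1 - ε))
    exact Algebra.Etale.of_equiv ((IsLocalization.algEquiv (.powers (1 - ε))
      (Localization.Away (1 - ε)) ψ.range).restrictScalars R)
  · refine le_antisymm ?_ fun y hy ↦ ?_
    · rintro _ ⟨c, rfl⟩
      exact (Algebra.IsIntegral.isIntegral c).map ψ
    · obtain ⟨z, rfl⟩ := hΦ y
      obtain ⟨p, hp, hp0⟩ := hy
      have he0 : Φ e = 0 := by
        have : e ∈ RingHom.ker Φ.toRingHom := hker ▸ Ideal.mem_span_singleton_self e
        exact this
      have hp1 : Polynomial.aeval z p ∈ RingHom.ker Φ.toRingHom := by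
        show Φ (Polynomial.aeval z p) = 0
        rw [← Polynomial.aeval_algHom_apply]
        exact hp0
      rw [hker, Ideal.mem_span_singleton'] at hp1
      obtain ⟨r, hr⟩ := hp1
      have hz : IsIntegral R (z * (1 - e)) := by
        refine ⟨X * p, monic_X.mul hp, ?_⟩
        rw [← Polynomial.aeval_def, map_mul, Polynomial.aeval_X]
        have : ∀ q : R[X], (1 - e) * Polynomial.aeval (z * (1 - e)) q =
            (1 - e) * Polynomial.aeval z q := by
          intro q
          induction q using Polynomial.induction_on' with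
          | add _ _ h1 h2 => rw [map_add, map_add, mul_add, mul_add, h1, h2]
          | monomial n a =>
            rw [Polynomial.aeval_monomial, Polynomial.aeval_monomial, mul_pow]
            rcases n with _ | n
            · simp
            · rw [he.one_sub.pow_succ_eq]
              linear_combination (algebraMap R (K ⊗[R] C) a * z ^ (n + 1)) * he.one_sub.eq
        rw [mul_assoc, this, ← hr]
        linear_combination (-z * r) * he.eq
      obtain ⟨c, hc⟩ := exists_one_tmul_eq_of_isIntegral _ hz
      refine ⟨c, ?_⟩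
      show ψ c = Φ z
      rw [← hΦψ, hc, map_mul, map_sub, map_one, he0, sub_zero, mul_one]

end Groth.Agent.EtStruct
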