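import Groth.Agent.EtStruct.BaseChangeDescent
import Groth.Agent.EtStruct.Scheme
import Groth.Agent.FDesc.BaseChangeStalk

/-!
# Descent of smoothness and unramifiedness at a point along flat base change: schemes
-/

namespace Groth.Agent.EtStruct

open AlgebraicGeometry CategoryTheory CategoryTheory.Limits TensorProduct

universe u

variable {X Y X' Y' : Scheme.{u}} {p : X' ⟶ X} {q : X' ⟶ Y'} {f : X ⟶ Y} {g : Y' ⟶ Y}

theorem isSmoothAt_congr {A B : Type u} [CommRing A] [CommRing B] [Algebra A B] {I J : Ideal B}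
    [I.IsPrime] [J.IsPrime] (e : I = J) : Algebra.IsSmoothAt A I → Algebra.IsSmoothAt A J := by
  subst e; exact id

theorem isUnramifiedAt_congr {A B : Type u} [CommRing A] [CommRing B] [Algebra A B] {I J : Ideal B}
    [I.IsPrime] [J.IsPrime] (e : I = J) : Algebra.IsUnramifiedAt A I → Algebra.IsUnramifiedAt A J := by
  subst e; exact id

theorem isSmoothAt_comap_of_isPushout {A A' B W : Type u} [CommRing A] [CommRing A'] [CommRing B]
    [CommRing W] [Algebra A A'] [Algebra A B] [Algebra A' W] [Algebra B W] [Algebra A W]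
    [IsScalarTower A A' W] [IsScalarTower A B W] [Algebra.IsPushout A A' B W] [Module.Flat A A']
    (Q : Ideal W) [Q.IsPrime] :
    (∀ [Algebra.FinitePresentation A B] [Algebra.IsSmoothAt A' Q],
      Algebra.IsSmoothAt A (Q.comap (algebraMap B W))) ∧
    (∀ [Algebra.FiniteType A B] [Algebra.IsUnramifiedAt A' Q],
      Algebra.IsUnramifiedAt A (Q.comap (algebraMap B W))) := by
  let := Algebra.TensorProduct.rightAlgebra (R := A) (A := A') (B := B)
  let e : A' ⊗[A] B ≃ₐ[A'] W := Algebra.IsPushout.equiv A A' B W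
  let Q' : Ideal (A' ⊗[A] B) := Q.comap e.toAlgHom.toRingHom
  have : Q'.IsPrime := Ideal.IsPrime.comap _
  let e' : Localization.AtPrime Q' ≃ₐ[A'] Localization.AtPrime Q :=
    IsLocalization.algEquivOfAlgEquiv _ _ e (M := Q'.primeCompl) (T := Q.primeCompl) (by
      ext x
      simp only [Submonoid.mem_map]
      refine ⟨?_, fun hx ↦ ⟨e.symm x, ?_, by simp⟩⟩
      · rintro ⟨y, hy, rfl⟩; exact hy
      · show ¬ e (e.symm x) ∈ Q; simpa using hx)
  have hcomap : Q'.comap (algebraMap B (A' ⊗[A] B)) = Q.comap (algebraMap B W) := by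
    ext b
    simp only [Q', Ideal.mem_comap]
    show e _ ∈ Q ↔ _
    have : e (algebraMap B (A' ⊗[A] B) b) = algebraMap B W b := by
      simp [e, RingHom.algebraMap_toAlgebra, Algebra.IsPushout.equiv_tmul]
    rw [this]
  constructor
  · intro _ h
    have : Algebra.IsSmoothAt A' Q' := (Algebra.FormallySmooth.iff_of_equiv e').mpr h
    exact isSmoothAt_congr hcomap (isSmoothAt_of_flat_baseChange Q')
  · intro _ h
    have : Algebra.IsUnramifiedAt A' Q' := Algebra.FormallyUnramified.of_equiv e'.symm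
    exact isUnramifiedAt_congr hcomap (isUnramifiedAt_of_flat_baseChange Q')

/-- Descent of smoothness and unramifiedness at a point along a flat base change. -/
theorem stalkMap_descent_of_flat (sq : IsPullback p q f g) [Flat g] (x' : X') :
    (∀ [LocallyOfFinitePresentation f], (q.stalkMap x').hom.FormallySmooth →
      (f.stalkMap (p x')).hom.FormallySmooth) ∧
    (∀ [LocallyOfFiniteType f], (q.stalkMap x').hom.FormallyUnramified →
      (f.stalkMap (p x')).hom.FormallyUnramified) := by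
  obtain ⟨U, hU, V, hV, hVU, hx⟩ := exists_chart f (p x')
  have hy : g (q x') ∈ U := by
    rw [show g (q x') = f (p x') by rw [← Scheme.Hom.comp_apply, ← Scheme.Hom.comp_apply, sq.w]]
    exact hVU hx
  obtain ⟨_, ⟨U', hU', rfl⟩, hy', hU'U⟩ :=
    Y'.isBasis_affineOpens.exists_subset_of_mem_open hy (U.2.preimage g.continuous)
  obtain ⟨W, hW'⟩ : ∃ W, W = p ⁻¹ᵁ V ⊓ q ⁻¹ᵁ U' := ⟨_, rfl⟩
  have hxW : x' ∈ W := hW' ▸ ⟨hx, hy'⟩
  have hWV : W ≤ p ⁻¹ᵁ V := hW'.le.trans inf_le_left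
  have hWU : W ≤ q ⁻¹ᵁ U' := hW'.le.trans inf_le_right
  have hpush : IsPushout (f.appLE U V hVU) (g.appLE U U' hU'U) (p.appLE V W hWV)
      (q.appLE U' W hWU) :=
    (isIso_pushoutSection_iff sq hU'U hVU hW').mp
      (isIso_pushoutSection_of_isAffineOpen sq hU'U hVU hW' hU hU' hV)
  have hW : IsAffineOpen W := by
    have : IsAffine U.toScheme := hU
    have : IsAffine (Scheme.Opens.toScheme U') := hU'
    have : IsAffine V.toScheme := hV
    exact .of_isIso (Scheme.Hom.isPullback_resLE sq hU'U hVU hW').isoPullback.hom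
  let : Algebra Γ(Y, U) Γ(X, V) := (f.appLE U V hVU).hom.toAlgebra
  let : Algebra Γ(Y, U) Γ(Y', U') := (g.appLE U U' hU'U).hom.toAlgebra
  let : Algebra Γ(X, V) Γ(X', W) := (p.appLE V W hWV).hom.toAlgebra
  let : Algebra Γ(Y', U') Γ(X', W) := (q.appLE U' W hWU).hom.toAlgebra
  let : Algebra Γ(Y, U) Γ(X', W) :=
    ((q.appLE U' W hWU).hom.comp (g.appLE U U' hU'U).hom).toAlgebra
  have : IsScalarTower Γ(Y, U) Γ(Y', U') Γ(X', W) := .of_algebraMap_eq' rfl
  have : IsScalarTower Γ(Y, U) Γ(X, V) Γ(X', W) :=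
    .of_algebraMap_eq' congr($(hpush.w).hom).symm
  have : Algebra.IsPushout Γ(Y, U) Γ(Y', U') Γ(X, V) Γ(X', W) :=
    CommRingCat.isPushout_iff_isPushout.mp hpush.flip
  have : Module.Flat Γ(Y, U) Γ(Y', U') :=
    HasRingHomProperty.appLE @Flat g ‹_› ⟨U, hU⟩ ⟨U', hU'⟩ hU'U
  let Q := (hW.primeIdealOf ⟨x', hxW⟩).asIdeal
  have hQ : Q.comap (algebraMap Γ(X, V) Γ(X', W)) = (hV.primeIdealOf ⟨p x', hx⟩).asIdeal :=
    congr($(IsAffineOpen.comap_primeIdealOf_appLE (f := p) V hV W hW hWV hxW).1)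
  constructor
  · intro _ h
    have : Algebra.FinitePresentation Γ(Y, U) Γ(X, V) := f.finitePresentation_appLE hU hV hVU
    have : Algebra.IsSmoothAt Γ(Y', U') Q :=
      (formallySmooth_stalkMap_iff U' hU' W hW hWU hxW).mp h
    have := (isSmoothAt_comap_of_isPushout (A := Γ(Y, U)) (A' := Γ(Y', U')) (B := Γ(X, V)) Q).1
    exact (formallySmooth_stalkMap_iff U hU V hV hVU hx).mpr (isSmoothAt_congr hQ this)
  · intro _ h
    have : Algebra.FiniteType Γ(Y, U) Γ(X, V) := f.finiteType_appLE hU hV hVU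
    have : Algebra.IsUnramifiedAt Γ(Y', U') Q :=
      (formallyUnramified_stalkMap_iff q hU' hW hWU hxW).mp h
    have := (isSmoothAt_comap_of_isPushout (A := Γ(Y, U)) (A' := Γ(Y', U')) (B := Γ(X, V)) Q).2
    exact (formallyUnramified_stalkMap_iff f hU hV hVU hx).mpr (isUnramifiedAt_congr hQ this)

/-- A morphism locally of finite presentation is smooth near `x` iff it is formally smooth at
`x`. -/
theorem smooth_nhd_iff {X Y : Scheme.{u}} (f : X ⟶ Y) [LocallyOfFinitePresentation f] (x : X) :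
    (∃ W : X.Opens, x ∈ W ∧ Smooth (W.ι ≫ f)) ↔ (f.stalkMap x).hom.FormallySmooth := by
  constructor
  · rintro ⟨W, hx, h⟩
    have : (⟨x, hx⟩ : W.toScheme) ∈ (W.ι ≫ f).smoothLocus := by
      rw [Scheme.Hom.smoothLocus_eq_top]; trivial
    rw [← Scheme.Hom.preimage_smoothLocus_eq] at this
    exact this
  · intro h
    refine ⟨f.smoothLocus, h, ?_⟩
    rw [← Scheme.Hom.smoothLocus_eq_top_iff, ← Scheme.Hom.preimage_smoothLocus_eq, eq_top_iff]
    exact fun z _ ↦ z.2

/-- Pulling back along `Spec 𝒪_{Y', y'} ⟶ Y'` makes a morphism which is flat at `y'` flat. -/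
theorem exists_flat_baseChange (sq : IsPullback p q f g) (x' : X')
    (hg : (g.stalkMap (q x')).hom.Flat) :
    ∃ (X'' Y'' : Scheme.{u}) (r : Y'' ⟶ Y') (j : X'' ⟶ X') (q'' : X'' ⟶ Y'') (x'' : X''),
      j x'' = x' ∧ IsPullback (j ≫ p) q'' f (r ≫ g) ∧ Flat (r ≫ g) ∧ IsPullback j q'' q r := by
  let r := Y'.fromSpecStalk (q x')
  have hr : Flat (r ≫ g) := by
    rw [← Scheme.SpecMap_stalkMap_fromSpecStalk g]
    have : Flat (Spec.map (g.stalkMap (q x'))) := by
      rw [HasRingHomProperty.Spec_iff (P := @Flat)]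
      exact hg
    have := Groth.Agent.FDesc.BaseChangeStalk.flat_fromSpecStalk (g (q x'))
    infer_instance
  have hy : q x' = r (IsLocalRing.closedPoint (Y'.presheaf.stalk (q x'))) :=
    (Scheme.fromSpecStalk_closedPoint).symm
  obtain ⟨x'', h₁, -⟩ := Scheme.Pullback.exists_preimage_pullback _ _ hy
  exact ⟨_, _, r, pullback.fst q r, pullback.snd q r, x'', h₁,
    (IsPullback.of_hasPullback q r).paste_horiz sq, hr, .of_hasPullback q r⟩


/-- Descent of a property of morphisms which is stable under base change, to a flat base change. -/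
theorem exists_flat_nhd {X Y X' Y' : Scheme.{u}} {p : X' ⟶ X} {q : X' ⟶ Y'} {f : X ⟶ Y}
    {g : Y' ⟶ Y} (P : MorphismProperty Scheme.{u}) [P.IsStableUnderBaseChange]
    (sq : IsPullback p q f g) (x' : X') (hg : (g.stalkMap (q x')).hom.Flat)
    (h : ∃ W : X'.Opens, x' ∈ W ∧ P (W.ι ≫ q)) :
    ∃ (X'' Y'' : Scheme.{u}) (p'' : X'' ⟶ X) (q'' : X'' ⟶ Y'') (g'' : Y'' ⟶ Y) (x'' : X''),
      p'' x'' = p x' ∧ IsPullback p'' q'' f g'' ∧ Flat g'' ∧
        ∃ W : X''.Opens, x'' ∈ W ∧ P (W.ι ≫ q'') := by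
  obtain ⟨X'', Y'', r, j, q'', x'', hx, sq', hfl, hj⟩ := exists_flat_baseChange sq x' hg
  obtain ⟨W, hW, hP⟩ := h
  refine ⟨X'', Y'', j ≫ p, q'', r ≫ g, x'', by simp [hx], sq', hfl, j ⁻¹ᵁ W, ?_, ?_⟩
  · show j x'' ∈ W
    rwa [hx]
  · exact MorphismProperty.of_isPullback ((isPullback_morphismRestrict j W).paste_vert hj) hP

theorem smooth_nhd_of_baseChange {X Y X' Y' : Scheme.{u}} {p : X' ⟶ X} {q : X' ⟶ Y'} {f : X ⟶ Y}
    {g : Y' ⟶ Y} [LocallyOfFinitePresentation f] (sq : IsPullback p q f g) (x' : X')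
    (hg : (g.stalkMap (q x')).hom.Flat) (h : ∃ W : X'.Opens, x' ∈ W ∧ Smooth (W.ι ≫ q)) :
    ∃ U : X.Opens, p x' ∈ U ∧ Smooth (U.ι ≫ f) := by
  obtain ⟨X'', Y'', p'', q'', g'', x'', hx, sq', _, h'⟩ := exists_flat_nhd @Smooth sq x' hg h
  have : LocallyOfFinitePresentation q'' :=
    MorphismProperty.of_isPullback sq' ‹LocallyOfFinitePresentation f›
  rw [← hx, smooth_nhd_iff]
  exact (stalkMap_descent_of_flat sq' x'').1 ((smooth_nhd_iff q'' x'').mp h')

theorem etale_nhd_of_baseChange {X Y X' Y' : Scheme.{u}} {p : X' ⟶ X} {q : X' ⟶ Y'} {f : X ⟶ Y}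
    {g : Y' ⟶ Y} [LocallyOfFinitePresentation f] (sq : IsPullback p q f g) (x' : X')
    (hg : (g.stalkMap (q x')).hom.Flat) (h : ∃ W : X'.Opens, x' ∈ W ∧ Etale (W.ι ≫ q)) :
    ∃ U : X.Opens, p x' ∈ U ∧ Etale (U.ι ≫ f) := by
  obtain ⟨X'', Y'', p'', q'', g'', x'', hx, sq', _, h'⟩ := exists_flat_nhd @Etale sq x' hg h
  have : LocallyOfFinitePresentation q'' :=
    MorphismProperty.of_isPullback sq' ‹LocallyOfFinitePresentation f›
  obtain ⟨W, hW, _⟩ := h'
  have hs := (stalkMap_descent_of_flat sq' x'').1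
    ((smooth_nhd_iff q'' x'').mp ⟨W, hW, inferInstance⟩)
  have hu := (stalkMap_descent_of_flat sq' x'').2
    ((formallyUnramified_nhd_iff q'' x'').mp ⟨W, hW, inferInstance⟩)
  obtain ⟨U, hxU, _⟩ := (smooth_nhd_iff f _).mpr hs
  rw [← hx, etale_nhd_iff]
  exact ⟨hu, (stalkMap_ι_comp_iff f RingHom.Flat.respectsIso U ⟨_, hxU⟩).mp (Flat.stalkMap _ _)⟩

end Groth.Agent.EtStruct
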