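import Groth.Agent.EtStruct.Core
import Groth.Agent.Adic.Basic
import Groth.Agent.RegLoc.AdicNoeth
import Groth.Agent.CAlg99.AdicBasis
import Groth.Agent.Thick.FlatCancel
import Mathlib.RingTheory.AdicCompletion.LocalRing
import Mathlib.RingTheory.AdicCompletion.AsTensorProduct
import Mathlib.RingTheory.Unramified.LocalRing

/-!
# Unramified and étale local homomorphisms and completions
-/

namespace Groth.Agent.EtStruct.Completion

open IsLocalRing

universe u

variable (A B : Type u) [CommRing A] [CommRing B] [IsLocalRing A] [IsLocalRing B]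
  [IsNoetherianRing A] [IsNoetherianRing B] [Algebra A B] [IsLocalHom (algebraMap A B)]


theorem isNoetherian : IsNoetherianRing (AdicCompletion (maximalIdeal A) A) :=
  Groth.Agent.RegLoc.AdicNoeth.isNoetherianRing_adicCompletion _ (IsNoetherian.noetherian _)

theorem faithfullyFlat : Module.FaithfullyFlat B (AdicCompletion (maximalIdeal B) B) :=
  Module.FaithfullyFlat.of_flat_of_isLocalHom

variable [Algebra (AdicCompletion (maximalIdeal A) A) (AdicCompletion (maximalIdeal B) B)] [IsScalarTower A (AdicCompletion (maximalIdeal A) A) (AdicCompletion (maximalIdeal B) B)]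

theorem map_maximalIdeal_eq :
    (maximalIdeal (AdicCompletion (maximalIdeal A) A)).map (algebraMap (AdicCompletion (maximalIdeal A) A) (AdicCompletion (maximalIdeal B) B)) =
      ((maximalIdeal A).map (algebraMap A B)).map (algebraMap B (AdicCompletion (maximalIdeal B) B)) := by
  rw [AdicCompletion.maximalIdeal_eq_map, Ideal.map_map, Ideal.map_map,
    ← IsScalarTower.algebraMap_eq, ← IsScalarTower.algebraMap_eq]

theorem isLocalHom : IsLocalHom (algebraMap (AdicCompletion (maximalIdeal A) A) (AdicCompletion (maximalIdeal B) B)) := by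
  refine ((local_hom_TFAE (algebraMap (AdicCompletion (maximalIdeal A) A) (AdicCompletion (maximalIdeal B) B))).out 0 2 rfl rfl).mpr ?_
  rw [map_maximalIdeal_eq, AdicCompletion.maximalIdeal_eq_map (R := B)]
  exact Ideal.map_mono (((local_hom_TFAE (algebraMap A B)).out 0 2 rfl rfl).mp ‹_›)

theorem map_eq_iff : (maximalIdeal (AdicCompletion (maximalIdeal A) A)).map (algebraMap (AdicCompletion (maximalIdeal A) A) (AdicCompletion (maximalIdeal B) B)) = maximalIdeal (AdicCompletion (maximalIdeal B) B) ↔
    (maximalIdeal A).map (algebraMap A B) = maximalIdeal B := by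
  have := faithfullyFlat B
  rw [map_maximalIdeal_eq, AdicCompletion.maximalIdeal_eq_map (R := B)]
  refine ⟨fun h ↦ ?_, fun h ↦ by rw [h]⟩
  rw [← Ideal.comap_map_eq_self_of_faithfullyFlat (B := (AdicCompletion (maximalIdeal B) B)) ((maximalIdeal A).map (algebraMap A B)),
    h, Ideal.comap_map_eq_self_of_faithfullyFlat]

/-- The residue field extensions before and after completion are isomorphic. -/
theorem residueField_iff :
    letI := isLocalHom A B
    (Module.Finite (ResidueField A) (ResidueField B) ↔
      Module.Finite (ResidueField (AdicCompletion (maximalIdeal A) A)) (ResidueField (AdicCompletion (maximalIdeal B) B))) ∧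
    (Algebra.IsSeparable (ResidueField A) (ResidueField B) ↔
      Algebra.IsSeparable (ResidueField (AdicCompletion (maximalIdeal A) A)) (ResidueField (AdicCompletion (maximalIdeal B) B))) := by
  have := isLocalHom A B
  let eA := RingEquiv.ofBijective _ (AdicCompletion.residueField_map_bijective (R := A))
  let eB := RingEquiv.ofBijective _ (AdicCompletion.residueField_map_bijective (R := B))
  have he : RingHom.comp (algebraMap (ResidueField (AdicCompletion (maximalIdeal A) A)) (ResidueField (AdicCompletion (maximalIdeal B) B))) eA.toRingHom =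
      RingHom.comp eB.toRingHom (algebraMap (ResidueField A) (ResidueField B)) := by
    ext x
    obtain ⟨a, rfl⟩ := residue_surjective x
    show algebraMap (ResidueField (AdicCompletion (maximalIdeal A) A)) (ResidueField (AdicCompletion (maximalIdeal B) B)) (residue (AdicCompletion (maximalIdeal A) A) (algebraMap A (AdicCompletion (maximalIdeal A) A) a)) =
      ResidueField.map (algebraMap B (AdicCompletion (maximalIdeal B) B)) (residue B (algebraMap A B a))
    rw [ResidueField.map_residue, ← IsScalarTower.algebraMap_apply A B (AdicCompletion (maximalIdeal B) B),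
      IsScalarTower.algebraMap_apply A (AdicCompletion (maximalIdeal A) A) (AdicCompletion (maximalIdeal B) B)]
    rfl
  have he' : RingHom.comp (algebraMap (ResidueField A) (ResidueField B)) eA.symm.toRingHom =
      RingHom.comp eB.symm.toRingHom (algebraMap (ResidueField (AdicCompletion (maximalIdeal A) A)) (ResidueField (AdicCompletion (maximalIdeal B) B))) := by
    ext x
    obtain ⟨y, rfl⟩ := eA.surjective x
    simpa using (congr_arg eB.symm (RingHom.congr_fun he y)).symm
  exact ⟨⟨fun _ ↦ Module.Finite.of_equiv_equiv eA eB he,
      fun _ ↦ Module.Finite.of_equiv_equiv eA.symm eB.symm he'⟩,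
    ⟨fun _ ↦ Algebra.IsSeparable.of_equiv_equiv eA eB he,
      fun _ ↦ Algebra.IsSeparable.of_equiv_equiv eA.symm eB.symm he'⟩⟩

theorem finite_of_map_eq (h : (maximalIdeal A).map (algebraMap A B) = maximalIdeal B)
    [Module.Finite (ResidueField A) (ResidueField B)] : Module.Finite (AdicCompletion (maximalIdeal A) A) (AdicCompletion (maximalIdeal B) B) := by
  have := isLocalHom A B
  have hf : Module.Finite (ResidueField (AdicCompletion (maximalIdeal A) A)) (ResidueField (AdicCompletion (maximalIdeal B) B)) :=
    (residueField_iff A B).1.mp ‹_›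
  have : Module.Finite (AdicCompletion (maximalIdeal A) A) (ResidueField (AdicCompletion (maximalIdeal A) A)) :=
    Module.Finite.of_surjective (Algebra.linearMap (AdicCompletion (maximalIdeal A) A) (ResidueField (AdicCompletion (maximalIdeal A) A))) residue_surjective
  have hfin : Module.Finite (AdicCompletion (maximalIdeal A) A) (ResidueField (AdicCompletion (maximalIdeal B) B)) := Module.Finite.trans (ResidueField (AdicCompletion (maximalIdeal A) A)) _
  have hmax := (map_eq_iff A B).mpr h
  have : IsHausdorff (maximalIdeal (AdicCompletion (maximalIdeal A) A)) (AdicCompletion (maximalIdeal B) B) := by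
    refine ⟨fun x hx ↦ IsHausdorff.haus (I := maximalIdeal (AdicCompletion (maximalIdeal B) B)) inferInstance x fun n ↦ ?_⟩
    have := hx n
    rw [SModEq.zero, Ideal.smul_top_eq_map, Submodule.restrictScalars_mem, Ideal.map_pow, hmax]
      at this
    rwa [SModEq.zero, smul_eq_mul, Ideal.mul_top]
  refine Groth.Agent.Adic.finite_of_finite_quot (I := maximalIdeal (AdicCompletion (maximalIdeal A) A)) ?_
  let f : (AdicCompletion (maximalIdeal B) B) →ₗ[(AdicCompletion (maximalIdeal A) A)] ResidueField (AdicCompletion (maximalIdeal B) B) :=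
    (IsScalarTower.toAlgHom (AdicCompletion (maximalIdeal A) A) (AdicCompletion (maximalIdeal B) B) (ResidueField (AdicCompletion (maximalIdeal B) B))).toLinearMap
  have hf : LinearMap.ker f = maximalIdeal (AdicCompletion (maximalIdeal A) A) • (⊤ : Submodule (AdicCompletion (maximalIdeal A) A) (AdicCompletion (maximalIdeal B) B)) := by
    ext y
    rw [Ideal.smul_top_eq_map, hmax, Submodule.restrictScalars_mem, ← residue_eq_zero_iff]
    exact Iff.rfl
  exact Module.Finite.equiv
    ((LinearMap.quotKerEquivOfSurjective f residue_surjective).symm.trans (Submodule.quotEquivOfEq _ _ hf))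

theorem linearCombination_surjective {ι : Type u} [Fintype ι]
    [IsLocalHom (algebraMap (AdicCompletion (maximalIdeal A) A) (AdicCompletion (maximalIdeal B) B))] [Module.Finite (AdicCompletion (maximalIdeal A) A) (AdicCompletion (maximalIdeal B) B)]
    (w : Module.Basis ι (ResidueField A) (ResidueField B)) (v : ι → B)
    (hv : ∀ i, residue B (v i) = w i)
    (hmax : (maximalIdeal (AdicCompletion (maximalIdeal A) A)).map (algebraMap (AdicCompletion (maximalIdeal A) A) (AdicCompletion (maximalIdeal B) B)) = maximalIdeal (AdicCompletion (maximalIdeal B) B)) :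
    Function.Surjective (Fintype.linearCombination (AdicCompletion (maximalIdeal A) A) fun i ↦ algebraMap B (AdicCompletion (maximalIdeal B) B) (v i)) := by
  set g := (Fintype.linearCombination (AdicCompletion (maximalIdeal A) A) fun i ↦ algebraMap B (AdicCompletion (maximalIdeal B) B) (v i)) with hgdef
  rw [← LinearMap.range_eq_top]
  refine IsLocalRing.map_mkQ_eq_top.mp ?_
  rw [eq_top_iff]
  intro y _
  obtain ⟨y, rfl⟩ := Submodule.mkQ_surjective _ y
  obtain ⟨b, hb⟩ := AdicCompletion.residueField_map_bijective (R := B) |>.2 (residue (AdicCompletion (maximalIdeal B) B) y)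
  obtain ⟨b, rfl⟩ := residue_surjective b
  choose a ha using fun i : ι ↦ residue_surjective (R := A) (w.repr (residue B b) i)
  refine ⟨g fun i ↦ algebraMap A (AdicCompletion (maximalIdeal A) A) (a i), ⟨_, rfl⟩, ?_⟩
  simp only [Submodule.mkQ_apply, Submodule.Quotient.eq, Ideal.smul_top_eq_map,
    Submodule.restrictScalars_mem, hmax]
  rw [← residue_eq_zero_iff, map_sub, ← hb, ResidueField.map_residue, sub_eq_zero]
  have hb' : residue B b = residue B (∑ i, algebraMap A B (a i) * v i) := by
    rw [map_sum]
    conv_lhs => rw [← w.sum_repr (residue B b)]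
    refine Finset.sum_congr rfl fun i _ ↦ ?_
    rw [map_mul, hv, Algebra.smul_def, ← ha]
    rfl
  have hb'' := congr_arg (ResidueField.map (algebraMap B (AdicCompletion (maximalIdeal B) B))) hb'
  rw [ResidueField.map_residue, ResidueField.map_residue] at hb''
  rw [hb'']
  simp [hgdef, Fintype.linearCombination_apply, map_sum, Algebra.smul_def,
    ← IsScalarTower.algebraMap_apply]

theorem linearCombination_injective [Module.Flat A B] {ι : Type u} [Fintype ι] (v : ι → B)
    (hv' : ∀ c : ι → A, ∑ i, c i • v i ∈ (maximalIdeal A • ⊤ : Submodule A B) →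
      ∀ i, c i ∈ maximalIdeal A) :
    Function.Injective (Fintype.linearCombination (AdicCompletion (maximalIdeal A) A) fun i ↦ algebraMap B (AdicCompletion (maximalIdeal B) B) (v i)) := by
  have := faithfullyFlat B
  set g := (Fintype.linearCombination (AdicCompletion (maximalIdeal A) A) fun i ↦ algebraMap B (AdicCompletion (maximalIdeal B) B) (v i)) with hgdef
  rw [injective_iff_map_eq_zero]
  intro c hc
  funext i
  refine IsHausdorff.haus (I := maximalIdeal (AdicCompletion (maximalIdeal A) A)) inferInstance _ fun n ↦ ?_
  rw [SModEq.zero, smul_eq_mul, Ideal.mul_top]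
  have happ : ∀ j, ∃ a : A, c j - algebraMap A (AdicCompletion (maximalIdeal A) A) a ∈ maximalIdeal (AdicCompletion (maximalIdeal A) A) ^ n := fun j ↦ by
    obtain ⟨a, ha⟩ := Submodule.mkQ_surjective _ (AdicCompletion.eval (maximalIdeal A) A n (c j))
    refine ⟨a, ?_⟩
    have hk : c j - algebraMap A (AdicCompletion (maximalIdeal A) A) a ∈
        (maximalIdeal A ^ n • ⊤ : Submodule A (AdicCompletion (maximalIdeal A) A)) := by
      rw [AdicCompletion.pow_smul_top_eq_ker_eval (IsNoetherian.noetherian _), LinearMap.mem_ker,
        map_sub, sub_eq_zero, ← ha]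
      rfl
    rw [Ideal.smul_top_eq_map, Submodule.restrictScalars_mem, Ideal.map_pow,
      ← AdicCompletion.maximalIdeal_eq_map] at hk
    exact hk
  choose a ha using happ
  have hsum : algebraMap B (AdicCompletion (maximalIdeal B) B) (∑ j, a j • v j) ∈
      ((maximalIdeal A ^ n).map (algebraMap A B)).map (algebraMap B (AdicCompletion (maximalIdeal B) B)) := by
    rw [Ideal.map_map, ← IsScalarTower.algebraMap_eq, IsScalarTower.algebraMap_eq A (AdicCompletion (maximalIdeal A) A) (AdicCompletion (maximalIdeal B) B),
      ← Ideal.map_map, Ideal.map_pow, ← AdicCompletion.maximalIdeal_eq_map]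
    have e : algebraMap B (AdicCompletion (maximalIdeal B) B) (∑ j, a j • v j) =
        ∑ j, algebraMap (AdicCompletion (maximalIdeal A) A) (AdicCompletion (maximalIdeal B) B) (algebraMap A (AdicCompletion (maximalIdeal A) A) (a j) - c j) * algebraMap B (AdicCompletion (maximalIdeal B) B) (v j) := by
      simp only [map_sub, sub_mul, Finset.sum_sub_distrib]
      rw [show ∑ j, algebraMap (AdicCompletion (maximalIdeal A) A) (AdicCompletion (maximalIdeal B) B) (c j) * algebraMap B (AdicCompletion (maximalIdeal B) B) (v j) = g c by
        simp [hgdef, Fintype.linearCombination_apply, Algebra.smul_def], hc, sub_zero]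
      simp [map_sum, Algebra.smul_def, ← IsScalarTower.algebraMap_apply]
    rw [e]
    refine Ideal.sum_mem _ fun j _ ↦ Ideal.mul_mem_right _ _ (Ideal.mem_map_of_mem _ ?_)
    rw [← neg_sub]
    exact neg_mem (ha j)
  rw [← Ideal.mem_comap, Ideal.comap_map_eq_self_of_faithfullyFlat] at hsum
  have hJ : ∑ j, a j • v j ∈ (maximalIdeal A ^ n • ⊤ : Submodule A B) := by
    rwa [Ideal.smul_top_eq_map, Submodule.restrictScalars_mem]
  have hai := Groth.Agent.CAlg99.AdicBasis.coeff_mem_of_flat v hv' _ a hJ i
  rw [← sub_add_cancel (c i) (algebraMap A (AdicCompletion (maximalIdeal A) A) (a i))]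
  refine add_mem (ha i) ?_
  rw [AdicCompletion.maximalIdeal_eq_map, ← Ideal.map_pow]
  exact Ideal.mem_map_of_mem _ hai

theorem flat_iff [Module.Finite (ResidueField A) (ResidueField B)]
    (h : (maximalIdeal A).map (algebraMap A B) = maximalIdeal B) :
    Module.Flat (AdicCompletion (maximalIdeal A) A) (AdicCompletion (maximalIdeal B) B) ↔ Module.Flat A B := by
  have := faithfullyFlat B
  constructor
  · intro hfl
    have : Module.Flat A (AdicCompletion (maximalIdeal B) B) := Module.Flat.trans A (AdicCompletion (maximalIdeal A) A) (AdicCompletion (maximalIdeal B) B)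
    exact Groth.Agent.Thick.FlatCancel.module_flat_of_comp A B (AdicCompletion (maximalIdeal B) B)
  · intro hfl
    have : Module.Flat A (AdicCompletion (maximalIdeal B) B) := Module.Flat.trans A B (AdicCompletion (maximalIdeal B) B)
    have := isLocalHom A B
    have := finite_of_map_eq A B h
    classical
    let ι := Module.Free.ChooseBasisIndex (ResidueField A) (ResidueField B)
    let w := Module.Free.chooseBasis (ResidueField A) (ResidueField B)
    choose v hv using fun i : ι ↦ residue_surjective (R := B) (w i)
    have hv' : ∀ c : ι → A, ∑ i, c i • v i ∈ (maximalIdeal A • ⊤ : Submodule A B) →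
        ∀ i, c i ∈ maximalIdeal A := by
      intro c hc
      rw [Ideal.smul_top_eq_map, Submodule.restrictScalars_mem, h] at hc
      have h0 : ∑ i, residue A (c i) • w i = 0 := by
        have h1 := (residue_eq_zero_iff _).mpr hc
        rw [map_sum] at h1
        refine Eq.trans (Finset.sum_congr rfl fun i _ ↦ ?_) h1
        rw [Algebra.smul_def, Algebra.smul_def, map_mul, hv]
        rfl
      intro i
      exact (residue_eq_zero_iff _).mp (Fintype.linearIndependent_iff.mp w.linearIndependent _ h0 i)
    have := isLocalHom A B
    exact Module.Flat.of_linearEquiv (LinearEquiv.ofBijective _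
      ⟨linearCombination_injective A B v hv', linearCombination_surjective A B w v hv ((map_eq_iff A B).mpr h)⟩).symm

end Groth.Agent.EtStruct.Completion
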