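import Groth.Agent.EtStruct.BaseChangeDescentScheme
import Groth.Agent.FlatMor.FlatAtBC
import Groth.Agent.AlgSpCov.Instances
import Groth.Agent.FieldSep.MacLane
import Groth.Agent.S9442
import Groth.Agent.S0565
import Mathlib.RingTheory.Smooth.Fiber
import Mathlib.RingTheory.Smooth.Field
import Mathlib.RingTheory.Smooth.Flat

/-!
# Smoothness: fibre criterion at a point and descent along maps flat at a point of the source
-/

namespace Groth.Agent.EtStruct

open TensorProduct IsLocalRing

universe u

/-- A localization away from an element commutes with pushouts. -/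
theorem exists_pushout_away {R K B W : Type u} [CommRing R] [CommRing K] [CommRing B] [CommRing W]
    [Algebra R K] [Algebra R B] [Algebra K W] [Algebra B W] [Algebra R W] [IsScalarTower R K W]
    [IsScalarTower R B W] [Algebra.IsPushout R B K W] (f : B) :
    Nonempty (K ⊗[R] Localization.Away f ≃ₐ[K] Localization.Away (algebraMap B W f)) := by
  let Bf := Localization.Away f
  let W' := Localization.Away (algebraMap B W f)
  let : Algebra Bf W' := (IsLocalization.Away.lift f (g := algebraMap B W')
    (by rw [IsScalarTower.algebraMap_apply B W W']; exact IsLocalization.Away.algebraMap_isUnit _)).toAlgebra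
  have : IsScalarTower B Bf W' := .of_algebraMap_eq fun b ↦ by
    simp [Bf, RingHom.algebraMap_toAlgebra]
  have : IsScalarTower R Bf W' := .of_algebraMap_eq fun r ↦ by
    rw [IsScalarTower.algebraMap_apply R B Bf, ← IsScalarTower.algebraMap_apply B Bf W',
      ← IsScalarTower.algebraMap_apply R B W']
  have : IsScalarTower K W W' := inferInstance
  have : IsLocalization (Algebra.algebraMapSubmonoid W (Submonoid.powers f)) W' := by
    rw [show Algebra.algebraMapSubmonoid W (Submonoid.powers f) =
      Submonoid.powers (algebraMap B W f) from Submonoid.map_powers _ _]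
    infer_instance
  have : Algebra.IsPushout B Bf W W' :=
    (Algebra.isPushout_of_isLocalization (.powers f) Bf W W').symm
  have h : Algebra.IsPushout R Bf K W' :=
    (Algebra.IsPushout.comp_iff (R := R) (S := B) (R' := K) (S' := W) (T := Bf) (T' := W')).mpr ‹_›
  have := h.symm
  exact ⟨Algebra.IsPushout.equiv R K Bf W'⟩

/-- Smoothness at a prime is stable under base change. -/
theorem isSmoothAt_baseChange {R K B W : Type u} [CommRing R] [CommRing K] [CommRing B] [CommRing W]
    [Algebra R K] [Algebra R B] [Algebra K W] [Algebra B W] [Algebra R W] [IsScalarTower R K W]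
    [IsScalarTower R B W] [Algebra.IsPushout R B K W] [Algebra.FinitePresentation R B]
    (q : Ideal B) [q.IsPrime] [Algebra.IsSmoothAt R q] (q' : Ideal W) [q'.IsPrime]
    (hq : q'.comap (algebraMap B W) = q) : Algebra.IsSmoothAt K q' := by
  obtain ⟨f, hf, hs⟩ := Algebra.IsSmoothAt.exists_notMem_smooth R q
  obtain ⟨e⟩ := exists_pushout_away (R := R) (K := K) (W := W) f
  have : Algebra.FormallySmooth K (Localization.Away (algebraMap B W f)) :=
    Algebra.FormallySmooth.of_equiv e
  have : Algebra.IsPushout R K B W := Algebra.IsPushout.symm inferInstance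
  have : Algebra.FinitePresentation K W :=
    Algebra.FinitePresentation.equiv (Algebra.IsPushout.equiv R K B W)
  exact (Algebra.basicOpen_subset_smoothLocus_iff (R := K) (f := algebraMap B W f)).mpr ‹_›
    (show (⟨q', ‹_›⟩ : PrimeSpectrum W) ∈ PrimeSpectrum.basicOpen (algebraMap B W f) from
      fun h ↦ hf (hq ▸ h))

end Groth.Agent.EtStruct

namespace Groth.Agent.EtStruct

open TensorProduct IsLocalRing Algebra

universe u

/-- The prime of a ring map at a prime where the algebra is smooth has flat local ring. -/
theorem flat_of_isSmoothAt {R B : Type u} [CommRing R] [CommRing B] [Algebra R B]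
    [Algebra.FinitePresentation R B] (q : Ideal B) [q.IsPrime] [Algebra.IsSmoothAt R q] :
    Module.Flat R (Localization.AtPrime q) := by
  obtain ⟨f, hf, hs⟩ := Algebra.IsSmoothAt.exists_notMem_smooth R q
  let Bf := Localization.Away f
  let S := Localization.AtPrime q
  have hle : Submonoid.powers f ≤ q.primeCompl :=
    Submonoid.powers_le.mpr hf
  let : Algebra Bf S := (IsLocalization.map (M := Submonoid.powers f) (T := q.primeCompl) S
    (RingHom.id B) hle).toAlgebra
  have : IsScalarTower B Bf S := .of_algebraMap_eq fun b ↦ by
    exact (IsLocalization.map_eq (S := Bf) (Q := S) (g := RingHom.id B) hle b).symm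
  have : IsScalarTower R Bf S := .of_algebraMap_eq fun r ↦ by
    rw [IsScalarTower.algebraMap_apply R B Bf, ← IsScalarTower.algebraMap_apply B Bf S,
      ← IsScalarTower.algebraMap_apply R B S]
  have : IsLocalization (q.primeCompl.map (algebraMap B Bf)) S :=
    IsLocalization.isLocalization_of_submonoid_le Bf S _ q.primeCompl hle
  have : Module.Flat Bf S := IsLocalization.flat S (q.primeCompl.map (algebraMap B Bf))
  exact Module.Flat.trans R Bf S

set_option backward.defeqAttrib.useBackward true in
set_option backward.isDefEq.respectTransparency false in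
/-- An algebra of finite presentation which is flat at `q` and has formally smooth fibre is smooth
at `q`. -/
theorem isSmoothAt_of_formallySmooth_fiber_of_flat {R S : Type u} [CommRing R] [CommRing S]
    [Algebra R S] [Algebra.FinitePresentation R S] (p : Ideal R) (q : Ideal S)
    [p.IsPrime] [q.IsPrime] [q.LiesOver p] [Module.Flat R (Localization.AtPrime q)]
    [FormallySmooth p.ResidueField (p.Fiber S)] :
    Algebra.IsSmoothAt R q := by
  let Rp := Localization.AtPrime p
  let Sp := Localization (algebraMapSubmonoid S p.primeCompl)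
  let Sq := Localization.AtPrime q
  let := Localization.AtPrime.algebraOfLiesOver p q
  let f : Sp →ₐ[S] Sq := IsLocalization.liftAlgHom (M := algebraMapSubmonoid S p.primeCompl)
        (f := Algebra.ofId _ _) (by
      rintro ⟨_, x, hx, rfl⟩
      simpa using! IsLocalization.map_units (M := q.primeCompl) Sq ⟨algebraMap _ _ x,
        by simp_all [q.over_def p]⟩)
  algebraize [f.toRingHom]
  have : IsScalarTower R Sp Sq := .to₁₃₄ _ S _ _
  have : IsScalarTower Rp Sp Sq := .of_algebraMap_eq' <| by
    apply IsLocalization.ringHom_ext p.primeCompl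
    simp only [RingHom.comp_assoc, ← IsScalarTower.algebraMap_eq]
  have : IsLocalization (algebraMapSubmonoid Sp q.primeCompl) Sq :=
    .isLocalization_of_submonoid_le _ _ (algebraMapSubmonoid S p.primeCompl) _
    (by rintro _ ⟨x, hx, rfl⟩; simp_all [q.over_def p])
  have : FinitePresentation Rp Sp := by
    have : Algebra.IsPushout R Rp S Sp :=
      .symm <| Algebra.isPushout_of_isLocalization p.primeCompl _ _ _
    exact .equiv (Algebra.IsPushout.equiv R Rp S Sp)
  have : Module.Flat Rp Sq :=
    (Module.flat_iff_of_isLocalization Rp p.primeCompl _).mpr inferInstance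
  have : FormallySmooth (ResidueField Rp) (ResidueField Rp ⊗[Rp] Sq) := by
    let : Algebra S (ResidueField Rp ⊗[R] S) := TensorProduct.rightAlgebra
    have : FormallySmooth (ResidueField Rp) ((ResidueField Rp ⊗[R] S) ⊗[S] Sq) :=
      .comp _ (ResidueField Rp ⊗[R] S) _
    let e : ResidueField Rp ⊗[R] S ≃ₐ[S] S ⊗[R] ResidueField Rp :=
      { __ := Algebra.TensorProduct.comm _ _ _, commutes' _ := rfl }
    let e' : (ResidueField Rp ⊗[R] S) ⊗[S] Sq ≃ₐ[R] ResidueField Rp ⊗[Rp] Sq :=
      ((Algebra.TensorProduct.comm _ _ _).restrictScalars R).trans <|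
      ((Algebra.TensorProduct.congr (.refl (R := S)) e).restrictScalars R).trans <|
      ((Algebra.TensorProduct.cancelBaseChange _ _ S _ _).restrictScalars R).trans <|
      (Algebra.TensorProduct.comm _ _ _).trans (Algebra.TensorProduct.equivOfCompatibleSMul ..)
    have : e'.toAlgHom.comp (IsScalarTower.toAlgHom R p.ResidueField _) =
        IsScalarTower.toAlgHom _ _ _ := by ext
    let e'' : (ResidueField Rp ⊗[R] S) ⊗[S] Sq ≃ₐ[ResidueField Rp] ResidueField Rp ⊗[Rp] Sq :=
      { __ := e', commutes' r := congr($this r) }
    exact .of_equiv e''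
  have := FormallySmooth.of_formallySmooth_residueField_tensor
    (R := Rp) (S := Sq) (P := Sp) (algebraMapSubmonoid _ q.primeCompl)
  exact .comp R Rp Sq

attribute [local instance] Algebra.TensorProduct.rightAlgebra in
/-- An algebra of finite presentation which is flat at `q` and whose fibre is smooth at the
corresponding prime is smooth at `q`. -/
theorem isSmoothAt_of_fiber_at {R S : Type u} [CommRing R] [CommRing S] [Algebra R S]
    [Algebra.FinitePresentation R S] (p : Ideal R) (q : Ideal S) [p.IsPrime] [q.IsPrime]
    [q.LiesOver p] [Module.Flat R (Localization.AtPrime q)] (Q : Ideal (p.Fiber S)) [Q.IsPrime]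
    (hQ : Q.comap (algebraMap S (p.Fiber S)) = q) [Algebra.IsSmoothAt p.ResidueField Q] :
    Algebra.IsSmoothAt R q := by
  have : Algebra.IsPushout R S p.ResidueField (p.Fiber S) := inferInstance
  obtain ⟨c, hc, hcs⟩ := Algebra.IsSmoothAt.exists_notMem_smooth p.ResidueField Q
  obtain ⟨r, hr, b, hb⟩ := Ideal.Fiber.exists_smul_eq_one_tmul (p := p) c
  have hu : IsUnit (algebraMap R (p.Fiber S) r) := by
    rw [IsScalarTower.algebraMap_apply R p.ResidueField (p.Fiber S)]
    exact (Ne.isUnit (by rwa [ne_eq, Ideal.algebraMap_residueField_eq_zero])).map _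
  have hassoc : Associated c (algebraMap S (p.Fiber S) b) := ⟨hu.unit, by
    rw [IsUnit.unit_spec, mul_comm, ← Algebra.smul_def, hb]
    rfl⟩
  have hbq : b ∉ q := fun h ↦ hc <| (Ideal.mem_iff_of_associated hassoc).mpr (by
    rw [← hQ] at h; exact h)
  have : IsLocalization.Away (algebraMap S (p.Fiber S) b) (Localization.Away c) :=
    IsLocalization.Away.of_associated hassoc
  have : FormallySmooth p.ResidueField (Localization.Away (algebraMap S (p.Fiber S) b)) :=
    FormallySmooth.of_equiv ((IsLocalization.algEquiv (.powers (algebraMap S (p.Fiber S) b))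
      (Localization.Away c) (Localization.Away (algebraMap S (p.Fiber S) b))).restrictScalars _)
  let Sb := Localization.Away b
  have : FinitePresentation S Sb := IsLocalization.Away.finitePresentation b
  have : FinitePresentation R Sb := .trans R S Sb
  obtain ⟨e⟩ := exists_pushout_away (R := R) (K := p.ResidueField) (W := p.Fiber S) b
  have : FormallySmooth p.ResidueField (p.Fiber Sb) := FormallySmooth.of_equiv e.symm
  let q₁ := q.map (algebraMap S Sb)
  have hd : Disjoint (Submonoid.powers b : Set S) (q : Set S) :=
    (Ideal.disjoint_powers_iff_notMem_of_isPrime _).mpr hbq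
  have : q₁.IsPrime := IsLocalization.isPrime_of_isPrime_disjoint (.powers b) Sb q ‹_› hd
  have hq₁ : q₁.comap (algebraMap S Sb) = q :=
    IsLocalization.under_map_of_isPrime_disjoint (.powers b) Sb ‹_› hd
  have : q₁.LiesOver p := ⟨by
    rw [Ideal.under_def, IsScalarTower.algebraMap_eq R S Sb, ← Ideal.comap_comap, hq₁]
    exact q.over_def p⟩
  have hloc : IsLocalization.AtPrime (Localization.AtPrime q₁) q := by
    have := IsLocalization.isLocalization_isLocalization_atPrime_isLocalization (Submonoid.powers b)
      (Localization.AtPrime q₁) q₁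
    convert this using 2
    exact hq₁.symm
  let e₁ : Localization.AtPrime q ≃ₐ[R] Localization.AtPrime q₁ :=
    (IsLocalization.algEquiv q.primeCompl _ (Localization.AtPrime q₁)).restrictScalars R
  have : Module.Flat R (Localization.AtPrime q₁) := Module.Flat.of_linearEquiv e₁.symm.toLinearEquiv
  have h := isSmoothAt_of_formallySmooth_fiber_of_flat p q₁
  exact (Algebra.FormallySmooth.iff_of_equiv e₁).mpr h

set_option backward.isDefEq.respectTransparency false in
/-- Over a perfect field, smoothness descends along a map flat at a point of the source. -/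
theorem isSmoothAt_of_flat_perfect {k B C : Type u} [Field k] [PerfectField k] [CommRing B]
    [CommRing C] [Algebra k B] [Algebra k C] [Algebra B C] [IsScalarTower k B C]
    [Algebra.FiniteType k B] [Algebra.FiniteType k C] (q : Ideal B) [q.IsPrime] (Q : Ideal C)
    [Q.IsPrime] [Q.LiesOver q] (hflat : Module.Flat B (Localization.AtPrime Q))
    [Algebra.IsSmoothAt k Q] : Algebra.IsSmoothAt k q := by
  have hgr : ∀ (A : Type u) [CommRing A] [Algebra k A] [Algebra.FiniteType k A] (P : Ideal A)
      [P.IsPrime], Algebra.IsGeometricallyReduced k P.ResidueField := fun A _ _ _ P _ ↦ by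
    have : Algebra.EssFiniteType A P.ResidueField := inferInstance
    have : Algebra.EssFiniteType k P.ResidueField := .comp k A _
    exact (FieldSep.MacLane.formallySmooth_iff k P.ResidueField).mp inferInstance
  have := hgr C Q
  have := hgr B q
  have hC : IsRegularLocalRing (Localization.AtPrime Q) := (S9442.result k C Q).mp ‹_›
  let := Localization.AtPrime.algebraOfLiesOver q Q
  have : Module.Flat (Localization.AtPrime q) (Localization.AtPrime Q) :=
    (Module.flat_iff_of_isLocalization (Localization.AtPrime q) q.primeCompl _).mpr hflat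
  have : IsNoetherianRing B := Algebra.FiniteType.isNoetherianRing k B
  have hB : IsRegularLocalRing (Localization.AtPrime q) :=
    S0565.result (Localization.AtPrime q) (Localization.AtPrime Q)
  exact (S9442.result k B q).mpr hB

set_option backward.isDefEq.respectTransparency false in
/-- Smoothness descends along a map which is flat at a point of the source. -/
theorem isSmoothAt_of_flat_source {R B C : Type u} [CommRing R] [CommRing B] [CommRing C]
    [Algebra R B] [Algebra R C] [Algebra B C] [IsScalarTower R B C]
    [Algebra.FinitePresentation R B] [Algebra.FinitePresentation R C] (q : Ideal B) [q.IsPrime]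
    (Q : Ideal C) [Q.IsPrime] [Q.LiesOver q] (hflat : Module.Flat B (Localization.AtPrime Q))
    [Algebra.IsSmoothAt R Q] : Algebra.IsSmoothAt R q := by
  -- flatness over the base
  have hR : Module.Flat R (Localization.AtPrime q) := by
    let := Localization.AtPrime.algebraOfLiesOver q Q
    have : Module.Flat (Localization.AtPrime q) (Localization.AtPrime Q) :=
      (Module.flat_iff_of_isLocalization (Localization.AtPrime q) q.primeCompl _).mpr hflat
    have : Module.FaithfullyFlat (Localization.AtPrime q) (Localization.AtPrime Q) :=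
      Module.FaithfullyFlat.of_flat_of_isLocalHom
    have := flat_of_isSmoothAt (R := R) Q
    have h := AlgSpCov.flat_of_comp_of_faithfullyFlat (algebraMap R (Localization.AtPrime q))
      (algebraMap (Localization.AtPrime q) (Localization.AtPrime Q))
      (RingHom.faithfullyFlat_algebraMap_iff.mpr ‹_›)
      (by rw [← IsScalarTower.algebraMap_eq, RingHom.flat_algebraMap_iff]; infer_instance)
    rwa [RingHom.flat_algebraMap_iff] at h
  let p := q.under R
  let K := AlgebraicClosure p.ResidueField
  let BK := K ⊗[R] B
  let CK := K ⊗[R] C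
  let φ : BK →ₐ[K] CK := Algebra.TensorProduct.map (AlgHom.id K K) (IsScalarTower.toAlgHom R B C)
  let := φ.toRingHom.toAlgebra
  let : Algebra B BK := Algebra.TensorProduct.rightAlgebra
  let : Algebra C CK := Algebra.TensorProduct.rightAlgebra
  let : Algebra B CK := ((algebraMap C CK).comp (algebraMap B C)).toAlgebra
  have : IsScalarTower B C CK := .of_algebraMap_eq fun _ ↦ rfl
  have : IsScalarTower B BK CK := .of_algebraMap_eq fun b ↦ by
    show (1 : K) ⊗ₜ[R] algebraMap B C b = φ ((1 : K) ⊗ₜ[R] b)
    exact (Algebra.TensorProduct.map_tmul (AlgHom.id K K) (IsScalarTower.toAlgHom R B C) 1 b).symm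
  have : IsScalarTower K BK CK := .of_algebraMap_eq fun x ↦ (φ.commutes x).symm
  have : IsScalarTower R BK CK := .to₁₃₄ _ K _ _
  have : IsScalarTower R B BK := .of_algebraMap_eq fun r ↦
    ((Algebra.TensorProduct.includeRight (R := R) (A := K) (B := B)).commutes r).symm
  have : IsScalarTower R C CK := .of_algebraMap_eq fun r ↦
    ((Algebra.TensorProduct.includeRight (R := R) (A := K) (B := C)).commutes r).symm
  have hB : Algebra.IsPushout R B K BK := inferInstance
  have hC : Algebra.IsPushout R C K CK := inferInstance
  have hBC : Algebra.IsPushout B C BK CK :=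
    (Algebra.IsPushout.comp_iff (R := R) (S := B) (R' := K) (S' := BK) (T := C) (T' := CK)).mp hC
  -- a prime over `Q` and the generic point of `Spec K`
  have hK : (⊥ : Ideal K).comap (algebraMap R K) = p := by
    rw [IsScalarTower.algebraMap_eq R p.ResidueField K, ← Ideal.comap_comap,
      Ideal.comap_bot_of_injective _ (algebraMap p.ResidueField K).injective, ← RingHom.ker_eq_comap_bot,
      Ideal.ker_algebraMap_residueField]
  have hQp : Q.comap (algebraMap R C) = p := by
    show _ = q.under R
    rw [IsScalarTower.algebraMap_eq R B C, ← Ideal.comap_comap]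
    exact congrArg (Ideal.comap (algebraMap R B)) (Q.over_def q).symm
  obtain ⟨Q', hQ', hQ'Q, -⟩ := FlatMor.FlatAtBC.exists_prime_of_pushout (R := R) (S := C) (R' := K)
    (S' := CK) p Q (⊥ : Ideal K) hQp hK
  let q' : Ideal BK := Q'.comap (algebraMap BK CK)
  have : q'.IsPrime := Ideal.IsPrime.comap _
  have : Q'.LiesOver q' := ⟨rfl⟩
  have hq' : q'.comap (algebraMap B BK) = q := by
    rw [Ideal.comap_comap, ← IsScalarTower.algebraMap_eq, IsScalarTower.algebraMap_eq B C CK,
      ← Ideal.comap_comap, hQ'Q]
    exact (Q.over_def q).symm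
  have : Algebra.IsSmoothAt K Q' := isSmoothAt_baseChange (R := R) Q Q' hQ'Q
  have hflat' : Module.Flat BK (Localization.AtPrime Q') := by
    have h0 : FlatCA.FlatAt B Q C :=
      Module.Flat.of_linearEquiv ((IsLocalizedModule.iso Q.primeCompl
        (Algebra.linearMap C (Localization.AtPrime Q))).restrictScalars B)
    have h := FlatMor.FlatAtBC.flatAt_of_baseChange (R := B) (S := C) (R' := BK) (S' := CK)
      (Algebra.linearMap C CK) (IsBaseChange.linearMap C CK) Q Q' hQ'Q h0
    have : Module.Flat BK (LocalizedModule Q'.primeCompl CK) := h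
    exact Module.Flat.of_linearEquiv ((IsLocalizedModule.iso Q'.primeCompl
      (Algebra.linearMap CK (Localization.AtPrime Q'))).restrictScalars BK).symm
  have : Algebra.FiniteType K BK := inferInstance
  have : Algebra.FiniteType K CK := inferInstance
  have hsm : Algebra.IsSmoothAt K q' := isSmoothAt_of_flat_perfect q' Q' hflat'
  -- descend to the fibre over `p`
  let F := p.Fiber B
  let : Algebra B F := Algebra.TensorProduct.rightAlgebra
  let ψ : F →ₐ[p.ResidueField] BK :=
    Algebra.TensorProduct.map (Algebra.ofId p.ResidueField K) (AlgHom.id R B)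
  let := ψ.toRingHom.toAlgebra
  have : IsScalarTower p.ResidueField F BK := .of_algebraMap_eq fun x ↦ (ψ.commutes x).symm
  have : IsScalarTower R F BK := .to₁₃₄ _ p.ResidueField _ _
  have : IsScalarTower B F BK := .of_algebraMap_eq fun b ↦ by
    show (1 : K) ⊗ₜ[R] b = ψ ((1 : p.ResidueField) ⊗ₜ[R] b)
    exact ((Algebra.TensorProduct.map_tmul _ _ _ _).trans (by rw [map_one]; rfl)).symm
  have hBK : Algebra.IsPushout R K B BK := Algebra.IsPushout.symm hB
  have hF : Algebra.IsPushout p.ResidueField K F BK :=
    (Algebra.IsPushout.comp_iff (R := R) (S := p.ResidueField) (R' := B) (S' := F) (T := K)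
      (T' := BK)).mp hBK
  have : Algebra.FinitePresentation p.ResidueField F := inferInstance
  have hFq : Algebra.IsSmoothAt p.ResidueField (q'.comap (algebraMap F BK)) :=
    (isSmoothAt_comap_of_isPushout (A := p.ResidueField) (A' := K) q').1
  exact isSmoothAt_of_fiber_at p q (q'.comap (algebraMap F BK))
    (by rw [Ideal.comap_comap, ← IsScalarTower.algebraMap_eq, hq'])

end Groth.Agent.EtStruct
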