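import Mathlib.RingTheory.Unramified.LocalStructure
import Mathlib.RingTheory.Flat.FaithfullyFlat.Basic
import Mathlib.RingTheory.Flat.FaithfullyFlat.Algebra
import Mathlib.RingTheory.SurjectiveOnStalks
import Mathlib.RingTheory.Flat.Localization
import Mathlib.RingTheory.Smooth.Fiber

/-!
# Pointwise structure of unramified algebras

An algebra of finite type which is unramified at a prime has, at that prime, a local ring which is a
quotient of the local ring of an étale algebra.  Flatness forces the quotient map to be bijective.
-/

namespace Groth.Agent.EtStruct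

universe u v

/-- The local ring of an algebra of finite type at an unramified prime is a quotient of a local ring
of a standard étale algebra. -/
theorem exists_standardEtale_localRing_surjection {A B : Type u} [CommRing A] [CommRing B] [Algebra A B]
    [Algebra.FiniteType A B] (q : Ideal B) [q.IsPrime] [Algebra.IsUnramifiedAt A q] :
    ∃ (P : StandardEtalePair A) (Q : Ideal P.Ring)
      (_ : Q.IsPrime) (ψ : Localization.AtPrime Q →ₐ[A] Localization.AtPrime q),
      Function.Surjective ψ ∧ Q.under A = q.under A := by
  obtain ⟨f, hf, P, φ, hφ⟩ := Algebra.IsUnramifiedAt.exists_hasStandardEtaleSurjectionOn (R := A) q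
  let Bf := Localization.Away f
  have hd : Disjoint (Submonoid.powers f : Set B) (q : Set B) := by
    rw [Set.disjoint_left]
    rintro _ ⟨n, rfl⟩ h
    exact hf (Ideal.IsPrime.mem_of_pow_mem ‹_› n h)
  let q' : Ideal Bf := q.map (algebraMap B Bf)
  have hq' : q'.IsPrime := IsLocalization.isPrime_of_isPrime_disjoint (.powers f) Bf q ‹_› hd
  have hqq : q'.comap (algebraMap B Bf) = q :=
    IsLocalization.under_map_of_isPrime_disjoint (.powers f) Bf ‹_› hd
  let Q : Ideal P.Ring := q'.comap φ.toRingHom
  have hQ : Q.IsPrime := Ideal.IsPrime.comap _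
  let e₀ : Localization.AtPrime q' ≃+* Localization.AtPrime q := by
    have := IsLocalization.isLocalization_isLocalization_atPrime_isLocalization
      (Submonoid.powers f) (Localization.AtPrime q') q'
    have h2 : IsLocalization.AtPrime (Localization.AtPrime q') q := by
      convert this using 2
      exact hqq.symm
    exact (IsLocalization.algEquiv q.primeCompl (Localization.AtPrime q')
      (Localization.AtPrime q)).toRingEquiv
  have he₀ : ∀ b : B, e₀ (algebraMap Bf (Localization.AtPrime q') (algebraMap B Bf b)) =
      algebraMap B (Localization.AtPrime q) b := fun b ↦ by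
    rw [← IsScalarTower.algebraMap_apply B Bf (Localization.AtPrime q')]
    simp [e₀]
  let ψ₁ := Localization.localRingHom Q q' φ.toRingHom rfl
  have hψ₁ : Function.Surjective ψ₁ :=
    (RingHom.surjectiveOnStalks_of_surjective (f := φ.toRingHom) hφ).localRingHom_surjective Q q' rfl
  refine ⟨P, Q, hQ,
    { toRingHom := e₀.toRingHom.comp ψ₁, commutes' := fun a ↦ ?_ }, ?_, ?_⟩
  · show e₀ (ψ₁ (algebraMap A _ a)) = _
    rw [IsScalarTower.algebraMap_apply A P.Ring (Localization.AtPrime Q),
      Localization.localRingHom_to_map]
    simp only [AlgHom.toRingHom_eq_coe, RingHom.coe_coe, AlgHom.commutes]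
    rw [IsScalarTower.algebraMap_apply A B Bf, he₀, ← IsScalarTower.algebraMap_apply]
  · exact e₀.surjective.comp hψ₁
  · simp only [Q, Ideal.under, Ideal.comap_comap]
    conv_rhs => rw [← hqq, Ideal.comap_comap]
    congr 1
    ext a
    simp [← IsScalarTower.algebraMap_apply A B Bf]

/-- The local ring of an algebra of finite type at an unramified prime is a quotient of a local ring
of an étale algebra. -/
theorem exists_etale_localRing_surjection {A B : Type u} [CommRing A] [CommRing B] [Algebra A B]
    [Algebra.FiniteType A B] (q : Ideal B) [q.IsPrime] [Algebra.IsUnramifiedAt A q] :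
    ∃ (C : Type u) (_ : CommRing C) (_ : Algebra A C) (_ : Algebra.Etale A C) (Q : Ideal C)
      (_ : Q.IsPrime) (ψ : Localization.AtPrime Q →ₐ[A] Localization.AtPrime q),
      Function.Surjective ψ ∧ Q.under A = q.under A ∧ Algebra.FiniteType A C := by
  obtain ⟨P, Q, hQ, ψ, hψ, h⟩ := exists_standardEtale_localRing_surjection (A := A) q
  exact ⟨P.Ring, inferInstance, inferInstance, inferInstance, Q, hQ, ψ, hψ, h, inferInstance⟩

/-- A flat module with nonzero fibre at the closed point, over a quotient of a formally étale local
algebra, forces the quotient map to be bijective. -/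
theorem bijective_of_surjective_of_flat {R : Type u} {C S : Type u} {M : Type v} [CommRing R]
    [CommRing C] [CommRing S] [Algebra R C] [Algebra R S] [IsLocalRing C] [IsLocalRing S]
    [Algebra.FormallyUnramified R C] [Algebra.EssFiniteType R C]
    (ψ : C →ₐ[R] S) (hψ : Function.Surjective ψ)
    [AddCommGroup M] [Module R M] [Module S M] [IsScalarTower R S M] [Module.Flat R M]
    (hM : IsLocalRing.maximalIdeal S • (⊤ : Submodule S M) ≠ ⊤) :
    Function.Bijective ψ ∧ Module.Flat S M := by
  let : Algebra C S := ψ.toRingHom.toAlgebra
  let : Module C M := Module.compHom M ψ.toRingHom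
  have : IsScalarTower C S M := ⟨fun c s m ↦ mul_smul (ψ c) s m⟩
  have : IsScalarTower R C M := ⟨fun r c m ↦ by
    show ψ (r • c) • m = r • ψ c • m
    rw [map_smul, smul_assoc]⟩
  have hflat : Module.Flat C M := Algebra.FormallyUnramified.flat_of_restrictScalars R C M
  have hff : Module.FaithfullyFlat C M := by
    refine (Module.FaithfullyFlat.iff_flat_and_proper_ideal C M).mpr ⟨hflat, fun I hI hIM ↦ hM ?_⟩
    rw [eq_top_iff]
    intro m _
    have hm : m ∈ IsLocalRing.maximalIdeal C • (⊤ : Submodule C M) :=
      Submodule.smul_mono_left (IsLocalRing.le_maximalIdeal hI) (hIM.ge trivial)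
    refine Submodule.smul_induction_on hm ?_ fun x y hx hy ↦ add_mem hx hy
    intro c hc n _
    have hc' : ψ c ∈ IsLocalRing.maximalIdeal S := by
      intro h
      have : IsLocalHom ψ.toRingHom := .of_surjective _ hψ
      exact hc (isUnit_of_map_unit ψ.toRingHom c h)
    exact Submodule.smul_mem_smul hc' trivial
  have hinj : Function.Injective ψ := by
    rw [injective_iff_map_eq_zero]
    intro c hc
    have h0 : ∀ m : M, c • m = 0 := fun m ↦ by
      show ψ c • m = 0
      rw [hc, zero_smul]
    have h1 : LinearMap.lTensor M (LinearMap.lsmul C C c) = 0 := by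
      refine TensorProduct.ext' fun m x ↦ ?_
      simp only [LinearMap.lTensor_tmul, LinearMap.lsmul_apply, TensorProduct.tmul_smul,
        LinearMap.zero_apply, TensorProduct.smul_tmul', h0, TensorProduct.zero_tmul]
    have h2 := (Module.FaithfullyFlat.zero_iff_lTensor_zero (R := C) (M := M) _).mpr h1
    simpa using LinearMap.congr_fun h2 1
  refine ⟨⟨hinj, hψ⟩, ?_⟩
  let e : C ≃+* S := RingEquiv.ofBijective ψ ⟨hinj, hψ⟩
  let : Algebra S C := e.symm.toRingHom.toAlgebra
  have : IsScalarTower S C M := ⟨fun s c m ↦ by
    show ψ (e.symm s * c) • m = s • ψ c • m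
    rw [map_mul, show ψ (e.symm s) = s from e.apply_symm_apply s, mul_smul]⟩
  have : Module.Flat S C := Module.Flat.of_linearEquiv (M := S)
    { e.toAddEquiv with map_smul' := fun s x ↦ (map_mul e (e.symm s) x).trans (by simp) }
  exact Module.Flat.trans S C M

/-- If an algebra of finite type is unramified at `q` and some module over its local ring at `q`,
nonzero modulo the maximal ideal, is flat over the base, then the algebra is étale at `q` and the
module is flat over the local ring. -/
theorem isEtaleAt_and_flat_of_flat {A B : Type u} {M : Type v} [CommRing A] [CommRing B]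
    [Algebra A B] [Algebra.FiniteType A B] (q : Ideal B) [q.IsPrime] [Algebra.IsUnramifiedAt A q]
    [AddCommGroup M] [Module A M] [Module (Localization.AtPrime q) M]
    [IsScalarTower A (Localization.AtPrime q) M] [Module.Flat A M]
    (hM : IsLocalRing.maximalIdeal (Localization.AtPrime q) • (⊤ : Submodule (Localization.AtPrime q) M) ≠ ⊤) :
    Algebra.IsEtaleAt A q ∧ Module.Flat (Localization.AtPrime q) M := by
  obtain ⟨C, _, _, _, Q, _, ψ, hψ, -, hft⟩ := exists_etale_localRing_surjection (A := A) q
  have : Algebra.FormallyEtale C (Localization.AtPrime Q) := .of_isLocalization Q.primeCompl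
  have : Algebra.FormallyEtale A (Localization.AtPrime Q) := .comp A C _
  have : Algebra.EssFiniteType C (Localization.AtPrime Q) := .of_isLocalization _ Q.primeCompl
  have : Algebra.EssFiniteType A (Localization.AtPrime Q) := .comp A C _
  obtain ⟨hb, hfl⟩ := bijective_of_surjective_of_flat ψ hψ hM
  exact ⟨Algebra.FormallyEtale.of_equiv (AlgEquiv.ofBijective ψ hb), hfl⟩

/-- Unramified and flat at a prime implies étale at that prime. -/
theorem isEtaleAt_of_isUnramifiedAt_of_flat {A B : Type u} [CommRing A] [CommRing B]
    [Algebra A B] [Algebra.FiniteType A B] (q : Ideal B) [q.IsPrime] [Algebra.IsUnramifiedAt A q]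
    [Module.Flat A (Localization.AtPrime q)] : Algebra.IsEtaleAt A q := by
  refine (isEtaleAt_and_flat_of_flat (M := Localization.AtPrime q) q ?_).1
  simpa using (IsLocalRing.maximalIdeal.isMaximal (Localization.AtPrime q)).ne_top

/-- An algebra of finite presentation is flat at every prime where it is étale. -/
theorem flat_of_isEtaleAt {A B : Type u} [CommRing A] [CommRing B]
    [Algebra A B] [Algebra.FinitePresentation A B] (q : Ideal B) [q.IsPrime]
    [Algebra.IsEtaleAt A q] : Module.Flat A (Localization.AtPrime q) := by
  obtain ⟨f, hf, _⟩ := Algebra.exists_etale_of_isEtaleAt (R := A) q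
  have hd : Disjoint (Submonoid.powers f : Set B) (q : Set B) := by
    rw [Set.disjoint_left]
    rintro _ ⟨n, rfl⟩ h
    exact hf (Ideal.IsPrime.mem_of_pow_mem ‹_› n h)
  have hle : Submonoid.powers f ≤ q.primeCompl := fun x hx ↦ Set.disjoint_left.mp hd hx
  let : Algebra (Localization.Away f) (Localization.AtPrime q) :=
    IsLocalization.localizationAlgebraOfSubmonoidLe _ _ (Submonoid.powers f) q.primeCompl hle
  have := IsLocalization.localization_isScalarTower_of_submonoid_le (Localization.Away f)
    (Localization.AtPrime q) _ _ hle
  have : IsScalarTower A (Localization.Away f) (Localization.AtPrime q) := .to₁₃₄ A B _ _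
  have := IsLocalization.isLocalization_of_submonoid_le (Localization.Away f)
    (Localization.AtPrime q) _ _ hle
  have : Module.Flat (Localization.Away f) (Localization.AtPrime q) :=
    IsLocalization.flat _ (q.primeCompl.map (algebraMap B (Localization.Away f)))
  exact Module.Flat.trans A (Localization.Away f) _

end Groth.Agent.EtStruct
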