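import Groth.Agent.Wt.Pure
import Groth.Agent.GenFinite.ClosedImm
import Groth.Agent.EtStruct.Scheme
import Groth.Agent.EtStruct.Instances
import Mathlib.AlgebraicGeometry.Morphisms.FlatMono

/-!
# Étale local structure of unramified morphisms: closed immersions

If `f` is unramified at finitely many points over `s`, then after an étale neighbourhood `(U, u)` of
`s` the base change has, around the points over `u` above them, open pieces which are closed
subschemes of `U`.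
-/

set_option backward.isDefEq.respectTransparency false

namespace Groth.Agent.EtStruct

open AlgebraicGeometry CategoryTheory CategoryTheory.Limits

universe u

open Groth.Agent.Wt

variable {X S : Scheme.{u}}

/-- A finite part with a single geometric point at which the map is unramified is a closed subscheme
near the base point. -/
theorem exists_isClosedImmersion_morphismRestrict {P U : Scheme.{u}} (q : P ⟶ U) (u : U)
    (W : P.Opens) (z : P) (hW : EtNbhd.IsFinPart q u W z) (hz : Split.IsGeomSingle q z)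
    (hu : ∃ V : P.Opens, z ∈ V ∧ FormallyUnramified (V.ι ≫ q)) :
    ∃ U₀ : U.Opens, u ∈ U₀ ∧ IsClosedImmersion ((W.ι ≫ q) ∣_ U₀) := by
  have := hW.finite
  let t := U.fromSpecResidueField u
  let c := pullback.snd (W.ι ≫ q) t
  let j := pullback.fst (W.ι ≫ q) t
  have hj : ∀ p, W.ι (j p) = z := by
    intro p
    refine hW.unique _ (j p).2 ?_
    rw [← Scheme.Hom.comp_apply, ← Scheme.Hom.comp_apply, pullback.condition, Scheme.Hom.comp_apply]
    exact U.fromSpecResidueField_apply u _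
  have hfu : FormallyUnramified c := by
    obtain ⟨V, hzV, hV⟩ := hu
    have h1 : FormallyUnramified ((W.ι ⁻¹ᵁ V).ι ≫ W.ι ≫ q) := by
      rw [← morphismRestrict_ι_assoc]
      exact MorphismProperty.comp_mem @FormallyUnramified _ _ inferInstance hV
    have h2 : FormallyUnramified ((j ⁻¹ᵁ (W.ι ⁻¹ᵁ V)).ι ≫ c) :=
      MorphismProperty.of_isPullback
        ((isPullback_morphismRestrict j _).paste_vert (IsPullback.of_hasPullback _ _)) h1
    have htop : j ⁻¹ᵁ (W.ι ⁻¹ᵁ V) = ⊤ := eq_top_iff.mpr fun p _ ↦ by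
      show W.ι (j p) ∈ V
      rwa [hj]
    rw [htop] at h2
    rw [← (pullback (W.ι ≫ q) t).topIso.inv_hom_id_assoc c]
    exact MorphismProperty.comp_mem @FormallyUnramified _ _ inferInstance h2
  have hsurj : Surjective (pullback.diagonal c) := by
    refine ⟨fun p ↦ ?_⟩
    obtain ⟨y, hy⟩ := GeomPts.exists_geomPt p
    have hcomp : (y ≫ pullback.fst c c) ≫ j = (y ≫ pullback.snd c c) ≫ j := by
      rw [← cancel_mono W.ι]
      refine hz _ _ _ ?_ ?_ ?_
      · exact hj _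
      · exact hj _
      · simp only [j, Category.assoc, pullback.condition]
        rw [pullback.condition_assoc]
    have heq : y ≫ pullback.fst c c = y ≫ pullback.snd c c :=
      pullback.hom_ext hcomp (by simp only [Category.assoc, c, pullback.condition])
    have : y = (y ≫ pullback.fst c c) ≫ pullback.diagonal c :=
      pullback.hom_ext (by simp) (by simp [heq])
    refine ⟨(y ≫ pullback.fst c c) (IsLocalRing.closedPoint _), ?_⟩
    exact (Scheme.Hom.comp_apply _ _ _).symm.trans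
      ((congrArg (fun m : Spec _ ⟶ pullback.diagonalObj c ↦ m (IsLocalRing.closedPoint _)) this.symm).trans hy)
  have hmono : Mono c := by
    rw [← pullback.isIso_diagonal_iff, isIso_iff_isOpenImmersion_and_surjective]
    exact ⟨inferInstance, hsurj⟩
  have hci : IsClosedImmersion c := by
    rw [IsClosedImmersion.iff_isProper_and_mono]
    exact ⟨inferInstance, hmono⟩
  obtain ⟨U₀, hU₀, h⟩ := Groth.Agent.GenFinite.exists_nhd_isClosedImmersion (W.ι ≫ q) t hci
  exact ⟨U₀, U.fromSpecResidueField_apply u default ▸ hU₀, h⟩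

/-- Finitely many open pieces of the base change along `g`, closed in `U`, around the points over
`u` lying above the `x i`. -/
structure Parts (f : X ⟶ S) {U : Scheme.{u}} (g : U ⟶ S) (u : U) {ι : Type} (x : ι → X) where
  n : ℕ
  lab : Fin n → ι
  V : Fin n → (pullback f g).Opens
  pt : Fin n → ↥(pullback f g)
  mem : ∀ k, pt k ∈ V k
  fst_eq : ∀ k, pullback.fst f g (pt k) = x (lab k)
  snd_eq : ∀ k, pullback.snd f g (pt k) = u
  unique : ∀ k w, w ∈ V k → pullback.snd f g w = u → w = pt k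
  injective : Function.Injective pt
  cover : ∀ w i, pullback.snd f g w = u → pullback.fst f g w = x i → ∃ k, pt k = w
  closedImm : ∀ k, IsClosedImmersion ((V k).ι ≫ pullback.snd f g)

/-- Transport parts to an open neighbourhood of `u`. -/
noncomputable def Parts.restrict {f : X ⟶ S} {U : Scheme.{u}} {g : U ⟶ S} {u : U} {ι : Type}
    {x : ι → X} (D : Parts f g u x) (U₁ : U.Opens) (hu : u ∈ U₁) :
    Parts f (U₁.ι ≫ g) (⟨u, hu⟩ : U₁.toScheme) x :=
  have h := Parts.isPullback_bcMap f U₁.ι (g := g) (g' := U₁.ι ≫ g) rfl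
  have : IsOpenImmersion (Parts.bcMap f U₁.ι (g := g) (g' := U₁.ι ≫ g) rfl) :=
    MorphismProperty.of_isPullback h.flip inferInstance
  have hex : ∀ k, ∃ w, Parts.bcMap f U₁.ι (g := g) (g' := U₁.ι ≫ g) rfl w = D.pt k ∧
      pullback.snd f (U₁.ι ≫ g) w = (⟨u, hu⟩ : U₁.toScheme) := fun k ↦ by
    obtain ⟨w, h1, h2⟩ := Scheme.Pullback.exists_preimage_pullback (f := pullback.snd f g)
      (g := U₁.ι) (D.pt k) ⟨u, hu⟩ (D.snd_eq k)
    refine ⟨h.isoPullback.inv w, ?_, ?_⟩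
    · rw [← Scheme.Hom.comp_apply, h.isoPullback_inv_fst, h1]
    · rw [← Scheme.Hom.comp_apply, h.isoPullback_inv_snd, h2]
  { n := D.n
    lab := D.lab
    V := fun k ↦ Parts.bcMap f U₁.ι rfl ⁻¹ᵁ D.V k
    pt := fun k ↦ (hex k).choose
    mem := fun k ↦ by
      show Parts.bcMap f U₁.ι rfl (hex k).choose ∈ D.V k
      rw [(hex k).choose_spec.1]; exact D.mem k
    fst_eq := fun k ↦ by
      rw [← Parts.fst_bcMap f U₁.ι (g := g) rfl, (hex k).choose_spec.1]; exact D.fst_eq k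
    snd_eq := fun k ↦ (hex k).choose_spec.2
    unique := fun k w hw hwu ↦ by
      apply (Parts.bcMap f U₁.ι (g := g) (g' := U₁.ι ≫ g) rfl).isOpenEmbedding.injective
      rw [(hex k).choose_spec.1]
      refine D.unique k _ hw ?_
      rw [Parts.snd_bcMap, hwu]
      rfl
    injective := fun k k' e ↦ D.injective <| by
      rw [← (hex k).choose_spec.1, ← (hex k').choose_spec.1]
      exact congrArg _ e
    cover := fun w i hwu hwx ↦ by
      obtain ⟨k, hk⟩ := D.cover (Parts.bcMap f U₁.ι rfl w) i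
        (by rw [Parts.snd_bcMap, hwu]; rfl) (by rw [Parts.fst_bcMap]; exact hwx)
      exact ⟨k, (Parts.bcMap f U₁.ι (g := g) (g' := U₁.ι ≫ g) rfl).isOpenEmbedding.injective
        ((hex k).choose_spec.1.trans hk)⟩
    closedImm := fun k ↦
      MorphismProperty.of_isPullback ((isPullback_morphismRestrict _ _).paste_vert h) (D.closedImm k) }

/-- Parts for unramified points of a morphism locally of finite type. -/
theorem exists_parts_of_locallyOfFiniteType (f : X ⟶ S) [LocallyOfFiniteType f]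
    [FormallyUnramified f] (s : S) {ι : Type} [Finite ι] (x : ι → X) (hs : ∀ i, f (x i) = s) :
    ∃ (U : Scheme.{u}) (g : U ⟶ S) (u : U), Etale g ∧ g u = s ∧ Nonempty (Parts f g u x) := by
  have hq : ∀ a ∈ Set.range x, f.QuasiFiniteAt a := by
    have : LocallyQuasiFinite f := locallyQuasiFinite_of_formallyUnramified f
    exact fun a _ ↦ f.quasiFiniteAt a
  obtain ⟨U, g, u, hg, hgu, J, W, hJ, hW, hcov⟩ := Pure.exists_pureParts f s (Set.range x)
    (Set.finite_range x) (by rintro _ ⟨i, rfl⟩; exact hs i) hq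
  have := hJ.to_subtype
  have hsnd : FormallyUnramified (pullback.snd f g) :=
    MorphismProperty.pullback_snd _ _ inferInstance
  have hpt : ∀ z : J, ∃ U₀ : U.Opens, u ∈ U₀ ∧
      IsClosedImmersion (((W z.1).ι ≫ pullback.snd f g) ∣_ U₀) := fun z ↦
    exists_isClosedImmersion_morphismRestrict _ u (W z.1) z.1 (hW _ z.2).1 (hW _ z.2).2.1
      ⟨⊤, trivial, MorphismProperty.comp_mem @FormallyUnramified _ _ inferInstance hsnd⟩
  choose U₀ hU₀ hci using hpt
  obtain ⟨U₁, hU₁e⟩ : ∃ U₁ : U.Opens, U₁ = ⟨⋂ z, (U₀ z : Set U), isOpen_iInter_of_finite fun z ↦ (U₀ z).2⟩ :=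
    ⟨_, rfl⟩
  have hu₁ : u ∈ U₁ := by rw [hU₁e]; exact Set.mem_iInter.mpr hU₀
  refine ⟨U₁, U₁.ι ≫ g, ⟨u, hu₁⟩, inferInstance, hgu, ?_⟩
  classical
  obtain ⟨n, ⟨e⟩⟩ := Finite.exists_equiv_fin J
  have hlab : ∀ z : J, ∃ i, x i = pullback.fst f g z.1 := fun z ↦ (hW _ z.2).2.2
  choose lab hlab using hlab
  let a := Parts.bcMap f U₁.ι (g := g) (g' := U₁.ι ≫ g) rfl
  have h := Parts.isPullback_bcMap f U₁.ι (g := g) (g' := U₁.ι ≫ g) rfl
  have : IsOpenImmersion a := MorphismProperty.of_isPullback h.flip inferInstance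
  have hex : ∀ k : Fin n, ∃ w, a w = (e.symm k).1 ∧
      pullback.snd f (U₁.ι ≫ g) w = (⟨u, hu₁⟩ : U₁.toScheme) := fun k ↦ by
    obtain ⟨w, h1, h2⟩ := Scheme.Pullback.exists_preimage_pullback (f := pullback.snd f g)
      (g := U₁.ι) (e.symm k).1 ⟨u, hu₁⟩ (hW _ (e.symm k).2).1.map_eq
    refine ⟨h.isoPullback.inv w, ?_, ?_⟩
    · rw [← Scheme.Hom.comp_apply, h.isoPullback_inv_fst, h1]
    · rw [← Scheme.Hom.comp_apply, h.isoPullback_inv_snd, h2]
  choose pt hpt₁ hpt₂ using hex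
  refine ⟨⟨n, fun k ↦ lab (e.symm k), fun k ↦ a ⁻¹ᵁ W (e.symm k).1, pt, fun k ↦ ?_, fun k ↦ ?_, hpt₂,
    fun k w hw hwu ↦ ?_, fun k k' he ↦ ?_, fun w i hwu hwx ↦ ?_, fun k ↦ ?_⟩⟩
  · show a (pt k) ∈ W _
    rw [hpt₁]; exact (hW _ (e.symm k).2).1.mem
  · rw [← Parts.fst_bcMap f U₁.ι (g := g) rfl, hlab]
    exact congrArg _ (hpt₁ k)
  · apply a.isOpenEmbedding.injective
    rw [hpt₁]
    refine (hW _ (e.symm k).2).1.unique _ hw ?_
    rw [Parts.snd_bcMap, hwu]
    rfl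
  · exact e.symm.injective (Subtype.ext (by rw [← hpt₁, ← hpt₁, he]))
  · have hmem : a w ∈ J := hcov _ (by rw [Parts.snd_bcMap, hwu]; rfl)
      ⟨i, by rw [Parts.fst_bcMap]; exact hwx.symm⟩
    exact ⟨e ⟨_, hmem⟩, a.isOpenEmbedding.injective (by rw [hpt₁, Equiv.symm_apply_apply])⟩
  · have hle : U₁ ≤ U₀ (e.symm k) := fun y hy ↦ by
      rw [hU₁e] at hy; exact Set.mem_iInter.mp hy (e.symm k)
    have hP : IsPullback (((a ⁻¹ᵁ W (e.symm k).1).ι ≫ pullback.snd f (U₁.ι ≫ g))) (a ∣_ W (e.symm k).1)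
        U₁.ι ((W (e.symm k).1).ι ≫ pullback.snd f g) :=
      ((isPullback_morphismRestrict a _).paste_vert h).flip
    have hQ := isPullback_morphismRestrict ((W (e.symm k).1).ι ≫ pullback.snd f g) (U₀ (e.symm k))
    have hR : IsPullback ((a ⁻¹ᵁ W (e.symm k).1).ι ≫ pullback.snd f (U₁.ι ≫ g))
        (hQ.lift ((a ⁻¹ᵁ W (e.symm k).1).ι ≫ pullback.snd f (U₁.ι ≫ g) ≫ U.homOfLE hle)
          (a ∣_ W (e.symm k).1) (by simp [a, h.w]))
        (U.homOfLE hle) (((W (e.symm k).1).ι ≫ pullback.snd f g) ∣_ U₀ (e.symm k)) := by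
      refine IsPullback.of_bot ?_ (by simp) hQ
      simpa using hP
    exact MorphismProperty.of_isPullback hR.flip (hci _)

/-- The main existence theorem for parts, with all parts lying over a given open. -/
theorem exists_parts_in (f : X ⟶ S) (s : S) {ι : Type} [Finite ι] (x : ι → X)
    (hs : ∀ i, f (x i) = s) (X₀ : X.Opens) [LocallyOfFiniteType (X₀.ι ≫ f)]
    [FormallyUnramified (X₀.ι ≫ f)] (hmemX₀ : ∀ i, x i ∈ X₀) :
    ∃ (U : Scheme.{u}) (g : U ⟶ S) (u : U), Etale g ∧ g u = s ∧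
      ∃ D : Parts f g u x, ∀ k, D.V k ≤ pullback.fst f g ⁻¹ᵁ X₀ := by
  obtain ⟨U, g, u, hg, hgu, ⟨D⟩⟩ := exists_parts_of_locallyOfFiniteType (X₀.ι ≫ f) s
    (fun i ↦ (⟨x i, hmemX₀ i⟩ : X₀.toScheme)) hs
  refine ⟨U, g, u, hg, hgu, ?_⟩
  let j : pullback (X₀.ι ≫ f) g ⟶ pullback f g :=
    pullback.map _ _ _ _ X₀.ι (𝟙 _) (𝟙 _) (by simp) (by simp)
  have hj₁ : j ≫ pullback.fst f g = pullback.fst (X₀.ι ≫ f) g ≫ X₀.ι := pullback.lift_fst ..
  have hj₂ : j ≫ pullback.snd f g = pullback.snd (X₀.ι ≫ f) g :=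
    (pullback.lift_snd _ _ _).trans (Category.comp_id _)
  have hle' : ∀ k, j ''ᵁ D.V k ≤ pullback.fst f g ⁻¹ᵁ X₀ := by
    rintro k _ ⟨w', -, rfl⟩
    show pullback.fst f g (j w') ∈ X₀
    have : (pullback.fst f g) (j w') = X₀.ι (pullback.fst (X₀.ι ≫ f) g w') :=
      congrArg (fun m : pullback (X₀.ι ≫ f) g ⟶ X ↦ m w') hj₁
    rw [this]
    exact (pullback.fst (X₀.ι ≫ f) g w').2
  refine ⟨⟨D.n, D.lab, fun k ↦ j ''ᵁ D.V k, fun k ↦ j (D.pt k), fun k ↦ ⟨_, D.mem k, rfl⟩, fun k ↦ ?_,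
    fun k ↦ ?_, fun k w hw hwu ↦ ?_, fun k k' e ↦ D.injective (j.isOpenEmbedding.injective e),
    fun w i hwu hwx ↦ ?_, fun k ↦ ?_⟩, hle'⟩
  · rw [← Scheme.Hom.comp_apply, hj₁, Scheme.Hom.comp_apply, D.fst_eq]
    rfl
  · rw [← Scheme.Hom.comp_apply, hj₂, D.snd_eq]
  · obtain ⟨w', hw', rfl⟩ := hw
    refine congrArg j (D.unique k w' hw' ?_)
    rw [← hj₂]; exact hwu
  · have : w ∈ Set.range j := by
      rw [Scheme.Pullback.range_map]
      refine ⟨?_, by simp⟩
      show pullback.fst f g w ∈ Set.range X₀.ι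
      rw [hwx, Scheme.Opens.range_ι]
      exact hmemX₀ i
    obtain ⟨w', rfl⟩ := this
    obtain ⟨k, hk⟩ := D.cover w' i (by rw [← hj₂]; exact hwu) (Subtype.ext (by
      refine Eq.trans ?_ hwx
      exact (congrArg (fun m : _ ⟶ _ ↦ (m : pullback (X₀.ι ≫ f) g ⟶ X) w') hj₁).symm))
    exact ⟨k, congrArg j hk⟩
  · have e : ((D.V k).ι ≫ j).opensRange = j ''ᵁ D.V k := by
      rw [Scheme.Hom.opensRange_comp, Scheme.Opens.opensRange_ι]
    rw [← e, ← MorphismProperty.cancel_left_of_respectsIso @IsClosedImmersion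
      (Scheme.Hom.isoOpensRange _).hom, Scheme.Hom.isoOpensRange_hom_ι_assoc, Category.assoc, hj₂]
    exact D.closedImm k

/-- Parts at points having unramified neighbourhoods. -/
theorem exists_parts (f : X ⟶ S) (s : S) {ι : Type} [Finite ι] (x : ι → X)
    (hs : ∀ i, f (x i) = s)
    (hx : ∀ i, ∃ W : X.Opens, x i ∈ W ∧ LocallyOfFiniteType (W.ι ≫ f) ∧
      FormallyUnramified (W.ι ≫ f)) :
    ∃ (U : Scheme.{u}) (g : U ⟶ S) (u : U), Etale g ∧ g u = s ∧ Nonempty (Parts f g u x) := by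
  choose W hxW hft hfu using hx
  have hres : ∀ i, ((⨆ j, W j).ι ⁻¹ᵁ W i).ι ≫ (⨆ j, W j).ι ≫ f =
      ((⨆ j, W j).ι ∣_ W i) ≫ (W i).ι ≫ f := fun i ↦ (morphismRestrict_ι_assoc _ _ _).symm
  have hcov : ⨆ i, (⨆ j, W j).ι ⁻¹ᵁ W i = ⊤ := by
    rw [← Scheme.Hom.preimage_iSup, Scheme.Opens.ι_preimage_self]
  have : LocallyOfFiniteType ((⨆ j, W j).ι ≫ f) := by
    rw [IsZariskiLocalAtSource.iff_of_iSup_eq_top (P := @LocallyOfFiniteType) _ hcov]
    exact fun i ↦ hres i ▸ MorphismProperty.comp_mem @LocallyOfFiniteType _ _ inferInstance (hft i)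
  have : FormallyUnramified ((⨆ j, W j).ι ≫ f) := by
    rw [IsZariskiLocalAtSource.iff_of_iSup_eq_top (P := @FormallyUnramified) _ hcov]
    exact fun i ↦ hres i ▸ MorphismProperty.comp_mem @FormallyUnramified _ _ inferInstance (hfu i)
  obtain ⟨U, g, u, hg, hgu, D, -⟩ := exists_parts_in f s x hs (⨆ j, W j)
    (fun i ↦ le_iSup W i (hxW i))
  exact ⟨U, g, u, hg, hgu, ⟨D⟩⟩

/-- Parts at étale points are open subschemes of `U`. -/
theorem exists_parts_etale (f : X ⟶ S) (s : S) {ι : Type} [Finite ι] (x : ι → X)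
    (hs : ∀ i, f (x i) = s) (hx : ∀ i, ∃ W : X.Opens, x i ∈ W ∧ Etale (W.ι ≫ f)) :
    ∃ (U : Scheme.{u}) (g : U ⟶ S) (u : U), Etale g ∧ g u = s ∧
      ∃ D : Parts f g u x, ∀ k, IsOpenImmersion ((D.V k).ι ≫ pullback.snd f g) := by
  choose W hxW hW using hx
  have hres : ∀ i, ((⨆ j, W j).ι ⁻¹ᵁ W i).ι ≫ (⨆ j, W j).ι ≫ f =
      ((⨆ j, W j).ι ∣_ W i) ≫ (W i).ι ≫ f := fun i ↦ (morphismRestrict_ι_assoc _ _ _).symm
  have hcov : ⨆ i, (⨆ j, W j).ι ⁻¹ᵁ W i = ⊤ := by
    rw [← Scheme.Hom.preimage_iSup, Scheme.Opens.ι_preimage_self]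
  have het : Etale ((⨆ j, W j).ι ≫ f) := by
    rw [IsZariskiLocalAtSource.iff_of_iSup_eq_top (P := @Etale) _ hcov]
    exact fun i ↦ hres i ▸ MorphismProperty.comp_mem @Etale _ _ inferInstance (hW i)
  obtain ⟨U, g, u, hg, hgu, D, hD⟩ := exists_parts_in f s x hs (⨆ j, W j)
    (fun i ↦ le_iSup W i (hxW i))
  have hopen : ∀ k, IsOpenImmersion ((D.V k).ι ≫ pullback.snd f g) := by
    intro k
    have h1 : Etale ((pullback.fst f g ⁻¹ᵁ (⨆ j, W j)).ι ≫ pullback.snd f g) :=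
      MorphismProperty.of_isPullback
        ((isPullback_morphismRestrict _ _).paste_vert (IsPullback.of_hasPullback f g)) het
    have h2 : Etale ((D.V k).ι ≫ pullback.snd f g) := by
      rw [← (pullback f g).homOfLE_ι (hD k), Category.assoc]
      exact MorphismProperty.comp_mem @Etale _ _ inferInstance h1
    have := D.closedImm k
    exact IsOpenImmersion.of_flat_of_mono _
  exact ⟨U, g, u, hg, hgu, D, hopen⟩

/-- Open and closed parts become isomorphic to `U` after shrinking `U`. -/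
theorem Parts.exists_isIso {f : X ⟶ S} {U : Scheme.{u}} {g : U ⟶ S} {u : U}
    {ι : Type} {x : ι → X} (D : Parts f g u x)
    (hopen : ∀ k, IsOpenImmersion ((D.V k).ι ≫ pullback.snd f g)) :
    ∃ (U₁ : U.Opens) (hu : u ∈ U₁),
      ∀ k, IsIso (((D.restrict U₁ hu).V k).ι ≫ pullback.snd f (U₁.ι ≫ g)) := by
  obtain ⟨U₁, hU₁⟩ : ∃ U₁ : U.Opens, (U₁ : Set U) =
      ⋂ k, Set.range ((D.V k).ι ≫ pullback.snd f g) :=
    ⟨⟨_, isOpen_iInter_of_finite fun k ↦
      ((D.V k).ι ≫ pullback.snd f g).isOpenEmbedding.isOpen_range⟩, rfl⟩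
  have hu : u ∈ U₁ := by
    rw [← SetLike.mem_coe, hU₁]
    exact Set.mem_iInter.mpr fun k ↦ ⟨⟨D.pt k, D.mem k⟩, D.snd_eq k⟩
  refine ⟨U₁, hu, fun k ↦ ?_⟩
  have hci := (D.restrict U₁ hu).closedImm k
  have hP := (isPullback_morphismRestrict (Parts.bcMap f U₁.ι (g := g) (g' := U₁.ι ≫ g) rfl)
    (D.V k)).paste_vert (Parts.isPullback_bcMap f U₁.ι (g := g) (g' := U₁.ι ≫ g) rfl)
  have hopen' : IsOpenImmersion (((D.restrict U₁ hu).V k).ι ≫ pullback.snd f (U₁.ι ≫ g)) :=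
    MorphismProperty.of_isPullback hP (hopen k)
  rw [isIso_iff_isOpenImmersion_and_surjective]
  refine ⟨hopen', ⟨fun y ↦ ?_⟩⟩
  have hy : (y.1 : U) ∈ (U₁ : Set U) := y.2
  rw [hU₁] at hy
  obtain ⟨v, hv⟩ := Set.mem_iInter.mp hy k
  obtain ⟨w, -, h2⟩ := Scheme.Pullback.exists_preimage_pullback
    (f := (D.V k).ι ≫ pullback.snd f g) (g := U₁.ι) v y hv
  refine ⟨hP.isoPullback.inv w, Eq.trans ?_
    ((congrArg (fun m : pullback ((D.V k).ι ≫ pullback.snd f g) U₁.ι ⟶ U₁.toScheme ↦ m w)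
      hP.isoPullback_inv_snd).trans h2)⟩
  rfl

/-- Over a separated morphism parts are closed and can be made disjoint. -/
theorem Parts.exists_disjoint {f : X ⟶ S} [IsSeparated f] {U : Scheme.{u}} {g : U ⟶ S} {u : U}
    {ι : Type} {x : ι → X} (D : Parts f g u x) :
    ∃ (D' : Parts f g u x) (W : (pullback f g).Opens),
      (∀ k k', k ≠ k' → Disjoint (D'.V k) (D'.V k')) ∧ (∀ k, Disjoint W (D'.V k)) ∧
      W ⊔ (⨆ k, D'.V k) = ⊤ ∧ (∀ w i, w ∈ W → pullback.snd f g w = u → pullback.fst f g w ≠ x i) ∧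
      (∀ k, IsClopen (D'.V k : Set ↥(pullback f g))) ∧
      ((∀ k, IsOpenImmersion ((D.V k).ι ≫ pullback.snd f g)) →
        ∀ k, IsOpenImmersion ((D'.V k).ι ≫ pullback.snd f g)) := by
  have hcl : ∀ k, IsClosed (D.V k : Set ↥(pullback f g)) := by
    intro k
    have := D.closedImm k
    have : IsClosedImmersion (D.V k).ι := IsClosedImmersion.of_comp _ (pullback.snd f g)
    have h := (D.V k).ι.isClosedEmbedding.isClosed_range
    rwa [Scheme.Opens.range_ι] at h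
  have hclU : ∀ k : Fin D.n, IsClosed (⋃ j ∈ Set.Iio k, (D.V j : Set ↥(pullback f g))) := fun k ↦
    (Set.toFinite _).isClosed_biUnion fun j _ ↦ hcl j
  let V' : Fin D.n → (pullback f g).Opens := fun k ↦
    ⟨(D.V k : Set _) \ ⋃ j ∈ Set.Iio k, (D.V j : Set ↥(pullback f g)), (D.V k).2.sdiff (hclU k)⟩
  have hV'cl : ∀ k, IsClosed (V' k : Set ↥(pullback f g)) := fun k ↦
    (hcl k).sdiff (isOpen_biUnion fun j _ ↦ (D.V j).2)
  have hle : ∀ k, V' k ≤ D.V k := fun k w hw ↦ hw.1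
  have hmem : ∀ k, D.pt k ∈ V' k := fun k ↦ ⟨D.mem k, by
    simp only [Set.mem_iUnion, not_exists]
    intro j hj hjk
    exact (ne_of_lt (Set.mem_Iio.mp hj)) (D.injective (D.unique j _ hjk (D.snd_eq k)).symm)⟩
  have hci : ∀ k, IsClosedImmersion ((V' k).ι ≫ pullback.snd f g) := by
    intro k
    have := D.closedImm k
    have h1 : IsClosedImmersion (V' k).ι :=
      .of_isPreimmersion _ (by rw [Scheme.Opens.range_ι]; exact hV'cl k)
    have : IsClosedImmersion ((pullback f g).homOfLE (hle k) ≫ (D.V k).ι) := by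
      rwa [Scheme.homOfLE_ι]
    have : IsClosedImmersion ((pullback f g).homOfLE (hle k)) :=
      IsClosedImmersion.of_comp _ (D.V k).ι
    rw [← (pullback f g).homOfLE_ι (hle k), Category.assoc]
    infer_instance
  let D' : Parts f g u x :=
    { D with
      V := V', mem := hmem, unique := fun k w hw ↦ D.unique k w hw.1, closedImm := hci }
  let W : (pullback f g).Opens :=
    ⟨(⋃ k, (V' k : Set ↥(pullback f g)))ᶜ, (isClosed_iUnion_of_finite hV'cl).isOpen_compl⟩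
  refine ⟨D', W, fun k k' hne ↦ ?_, fun k ↦ ?_, ?_, fun w i hw hwu hwx ↦ ?_,
    fun k ↦ ⟨hV'cl k, (V' k).2⟩, fun h k ↦ ?_⟩
  · rw [disjoint_iff, eq_bot_iff]
    rintro w ⟨h1, h2⟩
    rcases lt_or_gt_of_ne hne with h | h
    · exact absurd (Set.mem_biUnion (Set.mem_Iio.mpr h) h1.1) h2.2
    · exact absurd (Set.mem_biUnion (Set.mem_Iio.mpr h) h2.1) h1.2
  · rw [disjoint_iff, eq_bot_iff]
    rintro w ⟨h1, h2⟩
    exact absurd (Set.mem_iUnion.mpr ⟨k, h2⟩) h1
  · rw [eq_top_iff]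
    intro w _
    by_cases h : w ∈ ⋃ k, (V' k : Set ↥(pullback f g))
    · obtain ⟨k, hk⟩ := Set.mem_iUnion.mp h
      exact Or.inr (TopologicalSpace.Opens.mem_iSup.mpr ⟨k, hk⟩)
    · exact Or.inl h
  · obtain ⟨k, rfl⟩ := D.cover w i hwu hwx
    exact hw (Set.mem_iUnion.mpr ⟨k, hmem k⟩)
  · show IsOpenImmersion ((V' k).ι ≫ pullback.snd f g)
    have := h k
    have e : (V' k).ι ≫ pullback.snd f g =
        (pullback f g).homOfLE (hle k) ≫ (D.V k).ι ≫ pullback.snd f g := by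
      rw [Scheme.homOfLE_ι_assoc]
    rw [e]
    infer_instance

theorem Parts.mem_restrict {f : X ⟶ S} {U : Scheme.{u}} {g : U ⟶ S} {u : U}
    {ι : Type} {x : ι → X} (D : Parts f g u x) (U₁ : U.Opens) (hu : u ∈ U₁) (k)
    (w : ↥(pullback f (U₁.ι ≫ g))) :
    w ∈ (D.restrict U₁ hu).V k ↔ Parts.bcMap f U₁.ι (g := g) rfl w ∈ D.V k := Iff.rfl

end Groth.Agent.EtStruct
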