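import Groth.Agent.EtStruct.Unibranch
import Groth.Agent.EtStruct.Scheme
import Mathlib.RingTheory.Flat.FaithfullyFlat.Algebra
import Mathlib.RingTheory.RingHom.Injective

/-!
# Étale algebras and schemes over geometrically unibranch local domains
-/

namespace Groth.Agent.EtStruct

open TensorProduct AlgebraicGeometry CategoryTheory

universe u

set_option backward.isDefEq.respectTransparency false in
attribute [local instance] Algebra.TensorProduct.rightAlgebra Localization.AtPrime.algebraOfLiesOver in
theorem isGeomUnibranch_localization_of_etale {R B : Type u} [CommRing R] [CommRing B]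
    [Algebra R B] [Algebra.Etale R B] (p : Ideal R) [p.IsPrime] (q : Ideal B) [q.IsPrime]
    [q.LiesOver p] (hd : IsDomain (Localization.AtPrime p))
    (hA : CAlg2.IsGeomUnibranch (Localization.AtPrime p)) :
    IsDomain (Localization.AtPrime q) ∧ CAlg2.IsGeomUnibranch (Localization.AtPrime q) ∧
      Function.Injective (algebraMap (Localization.AtPrime p) (Localization.AtPrime q)) := by
  let A := Localization.AtPrime p
  let S := Localization.AtPrime q
  let K := FractionRing A
  let φ : A ⊗[R] B →ₐ[A] S := Algebra.TensorProduct.lift (Algebra.ofId A S)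
    (IsScalarTower.toAlgHom R B S) fun _ _ ↦ Commute.all _ _
  let := φ.toRingHom.toAlgebra
  have : IsScalarTower A (A ⊗[R] B) S := .of_algebraMap_eq fun a ↦ (φ.commutes a).symm
  have : IsScalarTower B (A ⊗[R] B) S := .of_algebraMap_eq fun b ↦ by
    simp [φ, RingHom.algebraMap_toAlgebra]
  have hle : Algebra.algebraMapSubmonoid B p.primeCompl ≤ q.primeCompl := by
    rintro _ ⟨x, hx, rfl⟩ h
    exact hx ((Ideal.mem_of_liesOver q p x).mpr h)
  have : IsLocalization (q.primeCompl.map (algebraMap B (A ⊗[R] B))) S :=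
    IsLocalization.isLocalization_of_submonoid_le (A ⊗[R] B) S _ q.primeCompl hle
  have hbc : Function.Bijective (TensorProduct.toIntegralClosure A S K) :=
    TensorProduct.toIntegralClosure_bijective_of_tower (S := A ⊗[R] B)
      TensorProduct.toIntegralClosure_bijective_of_smooth
      (TensorProduct.toIntegralClosure_bijective_of_isLocalization
        (q.primeCompl.map (algebraMap B (A ⊗[R] B))))
  have : Module.Flat (A ⊗[R] B) S :=
    IsLocalization.flat S (q.primeCompl.map (algebraMap B (A ⊗[R] B)))
  have : Module.Flat A S := Module.Flat.trans A (A ⊗[R] B) S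
  have : Algebra.FormallyUnramified (A ⊗[R] B) S :=
    .of_isLocalization (q.primeCompl.map (algebraMap B (A ⊗[R] B)))
  have : Algebra.FormallyUnramified A S := .comp A (A ⊗[R] B) S
  have : Algebra.EssFiniteType (A ⊗[R] B) S :=
    .of_isLocalization S (q.primeCompl.map (algebraMap B (A ⊗[R] B)))
  have : Algebra.EssFiniteType A S := .comp A (A ⊗[R] B) S
  obtain ⟨h1, h2⟩ := isDomain_and_isGeomUnibranch_of_etale hbc hA
  have : Module.FaithfullyFlat A S := Module.FaithfullyFlat.of_flat_of_isLocalHom
  exact ⟨h1, h2, FaithfulSMul.algebraMap_injective A S⟩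

set_option backward.isDefEq.respectTransparency false in
/-- At a point where a morphism is étale, lying over a geometrically unibranch point with integral
local ring, the local ring is a geometrically unibranch domain and the stalk map is injective. -/
theorem isGeomUnibranch_stalk_of_etale {X Y : Scheme.{u}} (f : X ⟶ Y) (x : X)
    (hf : ∃ W : X.Opens, x ∈ W ∧ Etale (W.ι ≫ f)) (hd : IsDomain (Y.presheaf.stalk (f x)))
    (hY : CAlg2.IsGeomUnibranch (Y.presheaf.stalk (f x))) :
    IsDomain (X.presheaf.stalk x) ∧ CAlg2.IsGeomUnibranch (X.presheaf.stalk x) ∧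
      Function.Injective (f.stalkMap x) := by
  obtain ⟨W, hxW, hW⟩ := hf
  obtain ⟨U, hU, V, hV, hVU, hx⟩ := exists_chart (W.ι ≫ f) ⟨x, hxW⟩
  let := ((W.ι ≫ f).appLE U V hVU).hom.toAlgebra
  have : Algebra.Etale Γ(Y, U) Γ(W.toScheme, V) :=
    HasRingHomProperty.appLE (P := @Etale) (W.ι ≫ f) hW ⟨U, hU⟩ ⟨V, hV⟩ hVU
  let p := (hU.primeIdealOf ⟨(W.ι ≫ f) ⟨x, hxW⟩, hVU hx⟩).asIdeal
  let q := (hV.primeIdealOf ⟨⟨x, hxW⟩, hx⟩).asIdeal
  have : q.LiesOver p :=
    ⟨congr($(IsAffineOpen.comap_primeIdealOf_appLE U hU V hV hVU hx).1).symm⟩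
  let := Localization.AtPrime.algebraOfLiesOver p q
  let := TopCat.Presheaf.algebra_section_stalk Y.presheaf (⟨f x, hVU hx⟩ : U)
  have : IsLocalization.AtPrime (Y.presheaf.stalk (f x)) p := hU.isLocalization_stalk _
  let := TopCat.Presheaf.algebra_section_stalk W.toScheme.presheaf (⟨⟨x, hxW⟩, hx⟩ : V)
  have : IsLocalization.AtPrime (W.toScheme.presheaf.stalk ⟨x, hxW⟩) q := hV.isLocalization_stalk _
  let eY : Y.presheaf.stalk (f x) ≃+* Localization.AtPrime p :=
    (IsLocalization.algEquiv p.primeCompl _ _).toRingEquiv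
  have hd' : IsDomain (Localization.AtPrime p) := eY.symm.toMulEquiv.isDomain_iff.mpr hd
  obtain ⟨h1, h2, h3⟩ := isGeomUnibranch_localization_of_etale p q hd'
    (isGeomUnibranch_of_ringEquiv eY hY)
  let eX : Localization.AtPrime q ≃+* X.presheaf.stalk x :=
    (IsLocalization.algEquiv q.primeCompl _ (W.toScheme.presheaf.stalk ⟨x, hxW⟩)).toRingEquiv.trans
      (asIso (W.ι.stalkMap ⟨x, hxW⟩)).commRingCatIsoToRingEquiv.symm
  have hdX : IsDomain (X.presheaf.stalk x) := eX.symm.toMulEquiv.isDomain_iff.mpr h1
  refine ⟨hdX, isGeomUnibranch_of_ringEquiv eX h2, ?_⟩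
  refine (stalkMap_ι_comp_iff (P := fun φ ↦ Function.Injective φ) f
    RingHom.injective_respectsIso W ⟨x, hxW⟩).mp ?_
  exact (RingHom.injective_respectsIso.arrow_mk_iso_iff
    (IsAffineOpen.arrowStalkMapIso (W.ι ≫ f) U hU V hV hVU hx)).mpr h3

end Groth.Agent.EtStruct

namespace Groth.Agent.EtStruct

open TensorProduct AlgebraicGeometry CategoryTheory

universe u

/-- A ring map out of a flat unramified domain over a domain is injective if it is injective on the
base. -/
theorem injective_of_comp_algebraMap_injective {A S T : Type u} [CommRing A] [IsDomain A]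
    [CommRing S] [IsDomain S] [CommRing T] [Algebra A S] [Module.Flat A S]
    [Algebra.FormallyUnramified A S] [Algebra.EssFiniteType A S] (ψ : S →+* T)
    (h : Function.Injective (ψ.comp (algebraMap A S))) : Function.Injective ψ := by
  let K := FractionRing A
  rw [injective_iff_map_eq_zero]
  intro c hc
  by_contra hne
  have hinj : Function.Injective (Algebra.TensorProduct.includeRight : S →ₐ[A] K ⊗[A] S) := by
    intro a b hab
    have h1 : Function.Injective (LinearMap.rTensor S (Algebra.linearMap A K)) :=
      Module.Flat.rTensor_preserves_injective_linearMap _ (IsFractionRing.injective A K)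
    have : (1 : A) ⊗ₜ[A] a = (1 : A) ⊗ₜ[A] b := h1 (by simpa using hab)
    simpa using congr(TensorProduct.lid A S $this)
  have : Module.Finite K (K ⊗[A] S) := Algebra.FormallyUnramified.finite_of_free K (K ⊗[A] S)
  have halg : IsAlgebraic A c := (isAlgebraic_algHom_iff _ hinj).mp
    ((IsFractionRing.isAlgebraic_iff A K (K ⊗[A] S)).mpr
      (Algebra.IsIntegral.isIntegral _).isAlgebraic)
  obtain ⟨r, hr, s, hs⟩ := halg.exists_nonzero_dvd (mem_nonZeroDivisors_of_ne_zero hne)
  refine hr (h ?_)
  rw [map_zero, RingHom.comp_apply, hs, map_mul, hc, zero_mul]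

set_option backward.isDefEq.respectTransparency false in
attribute [local instance] Localization.AtPrime.algebraOfLiesOver in
/-- Over a geometrically unibranch point with integral local ring, an unramified morphism with
injective stalk map is flat. -/
theorem flat_stalkMap_of_formallyUnramified_of_injective {X Y : Scheme.{u}} (f : X ⟶ Y)
    [LocallyOfFiniteType f] (x : X) (hu : (f.stalkMap x).hom.FormallyUnramified)
    (hd : IsDomain (Y.presheaf.stalk (f x))) (hY : CAlg2.IsGeomUnibranch (Y.presheaf.stalk (f x)))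
    (hinj : Function.Injective (f.stalkMap x)) : (f.stalkMap x).hom.Flat := by
  obtain ⟨U, hU, V, hV, hVU, hx⟩ := exists_chart f x
  let := (f.appLE U V hVU).hom.toAlgebra
  have : Algebra.FiniteType Γ(Y, U) Γ(X, V) := f.finiteType_appLE hU hV hVU
  let p := (hU.primeIdealOf ⟨f x, hVU hx⟩).asIdeal
  let q := (hV.primeIdealOf ⟨x, hx⟩).asIdeal
  have : q.LiesOver p :=
    ⟨congr($(IsAffineOpen.comap_primeIdealOf_appLE U hU V hV hVU hx).1).symm⟩
  let := TopCat.Presheaf.algebra_section_stalk Y.presheaf (⟨f x, hVU hx⟩ : U)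
  have : IsLocalization.AtPrime (Y.presheaf.stalk (f x)) p := hU.isLocalization_stalk _
  let eY : Y.presheaf.stalk (f x) ≃+* Localization.AtPrime p :=
    (IsLocalization.algEquiv p.primeCompl _ _).toRingEquiv
  have hd' : IsDomain (Localization.AtPrime p) := eY.symm.toMulEquiv.isDomain_iff.mpr hd
  have := (formallyUnramified_stalkMap_iff f hU hV hVU hx).mp hu
  obtain ⟨C, _, _, _, Q, hQ, ψ, hψ, hQp, -⟩ :=
    exists_etale_localRing_surjection (A := Γ(Y, U)) q
  have : Q.LiesOver p := ⟨(Ideal.over_def q p).trans hQp.symm⟩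
  obtain ⟨hdS, -, -⟩ :=
    isGeomUnibranch_localization_of_etale p Q hd' (isGeomUnibranch_of_ringEquiv eY hY)
  have hflat : Module.Flat Γ(Y, U) (Localization.AtPrime Q) :=
    Module.Flat.trans Γ(Y, U) C _
  have : Module.Flat (Localization.AtPrime p) (Localization.AtPrime Q) :=
    (Module.flat_iff_of_isLocalization (Localization.AtPrime p) p.primeCompl _).mpr hflat
  have : Algebra.FormallyUnramified C (Localization.AtPrime Q) := .of_isLocalization Q.primeCompl
  have : Algebra.FormallyUnramified Γ(Y, U) (Localization.AtPrime Q) := .comp _ C _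
  have : Algebra.FormallyUnramified (Localization.AtPrime p) (Localization.AtPrime Q) :=
    .of_restrictScalars Γ(Y, U) _ _
  have : Algebra.EssFiniteType C (Localization.AtPrime Q) := .of_isLocalization _ Q.primeCompl
  have : Algebra.EssFiniteType Γ(Y, U) (Localization.AtPrime Q) := .comp _ C _
  have : Algebra.EssFiniteType (Localization.AtPrime p) (Localization.AtPrime Q) :=
    .of_comp Γ(Y, U) _ _
  have hcomp : ψ.toRingHom.comp (algebraMap (Localization.AtPrime p) (Localization.AtPrime Q)) =
      algebraMap (Localization.AtPrime p) (Localization.AtPrime q) := by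
    refine IsLocalization.ringHom_ext p.primeCompl (RingHom.ext fun a ↦ ?_)
    simp [← IsScalarTower.algebraMap_apply]
  have hb : Function.Injective ψ.toRingHom := by
    refine injective_of_comp_algebraMap_injective (A := Localization.AtPrime p) ψ.toRingHom ?_
    rw [hcomp]
    exact (RingHom.injective_respectsIso.arrow_mk_iso_iff
      (IsAffineOpen.arrowStalkMapIso f U hU V hV hVU hx)).mp hinj
  exact (flat_stalkMap_iff f hU hV hVU hx).mpr
    (Module.Flat.of_linearEquiv (AlgEquiv.ofBijective ψ ⟨hb, hψ⟩).symm.toLinearEquiv)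

end Groth.Agent.EtStruct
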