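import Mathlib.RingTheory.Smooth.Locus
import Mathlib.RingTheory.Unramified.Locus
import Mathlib.RingTheory.Extension.Cotangent.BaseChange
import Mathlib.RingTheory.Kaehler.TensorProduct
import Mathlib.RingTheory.Flat.FaithfullyFlat.Algebra
import Mathlib.RingTheory.RingHom.FiniteType

/-!
# Descent of smoothness at a point along flat base change
-/

namespace Groth.Agent.EtStruct

open TensorProduct

universe u

section module

variable {B T : Type u} [CommRing B] [CommRing T] [Algebra B T] (q' : Ideal T) [q'.IsPrime]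

/-- Along a flat map, a module vanishes at `q` if its base change vanishes above `q`. -/
theorem notMem_support_of_flat [Module.Flat B T] {M : Type u} [AddCommGroup M] [Module B M]
    (h : ∀ m : M, ∃ s : T, s ∉ q' ∧ s • ((1 : T) ⊗ₜ[B] m) = 0) :
    (⟨q'.comap (algebraMap B T), inferInstance⟩ : PrimeSpectrum B) ∉ Module.support B M := by
  let q := q'.comap (algebraMap B T)
  let Bq := Localization.AtPrime q
  let Tq := Localization.AtPrime q'
  let : Algebra Bq Tq := (Localization.localRingHom q q' (algebraMap B T) rfl).toAlgebra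
  have : IsScalarTower B Bq Tq := .of_algebraMap_eq fun b ↦ by
    simp [Bq, Tq, RingHom.algebraMap_toAlgebra, Localization.localRingHom_to_map,
      ← IsScalarTower.algebraMap_apply]
  have : IsLocalHom (algebraMap Bq Tq) := Localization.isLocalHom_localRingHom _ _ _ rfl
  have hT : Module.Flat B Tq := Module.Flat.trans B T Tq
  have : Module.Flat Bq Tq := (Module.flat_iff_of_isLocalization Bq q.primeCompl Tq).mpr hT
  have := Module.FaithfullyFlat.of_flat_of_isLocalHom (A := Bq) (B := Tq)
  have h0 : Subsingleton (Tq ⊗[B] M) := by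
    refine subsingleton_of_forall_eq 0 fun z ↦ ?_
    induction z with
    | zero => rfl
    | add a b ha hb => rw [ha, hb, add_zero]
    | tmul t m =>
      obtain ⟨s, hs, hsm⟩ := h m
      have h1 : (algebraMap T Tq s) • ((1 : Tq) ⊗ₜ[B] m) = 0 := by
        rw [TensorProduct.smul_tmul', smul_eq_mul, mul_one]
        have := congr(TensorProduct.map (IsScalarTower.toAlgHom B T Tq).toLinearMap LinearMap.id $hsm)
        simpa [TensorProduct.smul_tmul'] using this
      have hu : IsUnit (algebraMap T Tq s) := IsLocalization.map_units Tq (⟨s, hs⟩ : q'.primeCompl)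
      have h2 : (1 : Tq) ⊗ₜ[B] m = 0 := hu.smul_eq_zero.mp h1
      rw [show t ⊗ₜ[B] m = t • ((1 : Tq) ⊗ₜ[B] m) by simp [TensorProduct.smul_tmul'], h2, smul_zero]
  have h1 : Subsingleton (Tq ⊗[Bq] (Bq ⊗[B] M)) :=
    (AlgebraTensorModule.cancelBaseChange B Bq Bq Tq M).subsingleton
  have h2 : Subsingleton (Bq ⊗[B] M) := Module.FaithfullyFlat.lTensor_reflects_triviality Bq Tq _
  rw [Module.notMem_support_iff]
  exact (IsLocalizedModule.iso q.primeCompl (TensorProduct.mk B Bq M 1)).subsingleton

/-- Along a flat map, a finitely presented module is free at `q` if its base change is free above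
`q`. -/
theorem mem_freeLocus_of_flat [Module.Flat B T] {M : Type u} [AddCommGroup M] [Module B M]
    [Module.FinitePresentation B M]
    (h : (⟨q', inferInstance⟩ : PrimeSpectrum T) ∈ Module.freeLocus T (T ⊗[B] M)) :
    (⟨q'.comap (algebraMap B T), inferInstance⟩ : PrimeSpectrum B) ∈ Module.freeLocus B M := by
  let q := q'.comap (algebraMap B T)
  let Bq := Localization.AtPrime q
  let Tq := Localization.AtPrime q'
  let : Algebra Bq Tq := (Localization.localRingHom q q' (algebraMap B T) rfl).toAlgebra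
  have : IsScalarTower B Bq Tq := .of_algebraMap_eq fun b ↦ by
    simp [Bq, Tq, RingHom.algebraMap_toAlgebra, Localization.localRingHom_to_map,
      ← IsScalarTower.algebraMap_apply]
  have : IsLocalHom (algebraMap Bq Tq) := Localization.isLocalHom_localRingHom _ _ _ rfl
  have hT : Module.Flat B Tq := Module.Flat.trans B T Tq
  have : Module.Flat Bq Tq := (Module.flat_iff_of_isLocalization Bq q.primeCompl Tq).mpr hT
  have := Module.FaithfullyFlat.of_flat_of_isLocalHom (A := Bq) (B := Tq)
  rw [Module.mem_freeLocus_iff_tensor _ Tq] at h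
  rw [Module.mem_freeLocus_iff_tensor _ Bq]
  have : Module.Free Tq (Tq ⊗[Bq] (Bq ⊗[B] M)) :=
    .of_equiv ((AlgebraTensorModule.cancelBaseChange B T Tq Tq M).trans
      (AlgebraTensorModule.cancelBaseChange B Bq Tq Tq M).symm)
  have : Module.Flat Bq (Bq ⊗[B] M) := Module.Flat.of_flat_tensorProduct _ _ Tq
  exact Module.free_of_flat_of_isLocalRing

end module

section baseChange

variable {A A' B : Type u} [CommRing A] [CommRing A'] [CommRing B] [Algebra A A'] [Algebra A B]

attribute [local instance] Algebra.TensorProduct.rightAlgebra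

theorem smul_h1Map_eq [Module.Flat A A'] (x : Algebra.H1Cotangent A B) (s : A' ⊗[A] B) :
    s • Algebra.H1Cotangent.map A A' B (A' ⊗[A] B) x =
      Algebra.tensorH1CotangentOfFlat A B A'
        (LinearMap.lTensor A' ((LinearMap.toSpanSingleton B _ x).restrictScalars A) s) := by
  induction s with
  | zero => simp
  | add a b ha hb => simp [add_smul, ha, hb]
  | tmul t b =>
    rw [LinearMap.lTensor_tmul, LinearMap.restrictScalars_apply, LinearMap.toSpanSingleton_apply,
      Algebra.tensorH1CotangentOfFlat_tmul, map_smul,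
      ← algebraMap_smul (A' ⊗[A] B) b (Algebra.H1Cotangent.map A A' B (A' ⊗[A] B) x),
      ← algebraMap_smul (A' ⊗[A] B) t, smul_smul]
    congr 1
    simp [RingHom.algebraMap_toAlgebra, Algebra.TensorProduct.algebraMap_apply]

theorem smul_one_tmul_eq_zero {M : Type u} [AddCommGroup M] [Module A M] [Module B M]
    [IsScalarTower A B M] (x : M) (s : A' ⊗[A] B)
    (h : LinearMap.lTensor A' ((LinearMap.toSpanSingleton B M x).restrictScalars A) s = 0) :
    s • ((1 : A' ⊗[A] B) ⊗ₜ[B] x) = 0 := by
  let L : A' ⊗[A] M →ₗ[A] (A' ⊗[A] B) ⊗[B] M := TensorProduct.lift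
    (LinearMap.mk₂ A (fun t m ↦ (t ⊗ₜ[A] (1 : B)) ⊗ₜ[B] m)
      (fun _ _ _ ↦ by simp [TensorProduct.add_tmul])
      (fun a t m ↦ by simp [TensorProduct.smul_tmul'])
      (fun _ _ _ ↦ by simp [TensorProduct.tmul_add])
      (fun a t m ↦ by simp [TensorProduct.tmul_smul]))
  have key : s • ((1 : A' ⊗[A] B) ⊗ₜ[B] x) =
      L (LinearMap.lTensor A' ((LinearMap.toSpanSingleton B M x).restrictScalars A) s) := by
    clear h
    induction s with
    | zero => simp
    | add a b ha hb => simp [add_smul, ha, hb]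
    | tmul t b =>
      rw [LinearMap.lTensor_tmul, LinearMap.restrictScalars_apply, LinearMap.toSpanSingleton_apply,
        TensorProduct.smul_tmul', smul_eq_mul, mul_one]
      change _ = (t ⊗ₜ[A] (1 : B)) ⊗ₜ[B] (b • x)
      rw [← TensorProduct.smul_tmul, Algebra.smul_def]
      congr 1
      simp [RingHom.algebraMap_toAlgebra]
  rw [key, h, map_zero]

/-- Smoothness at a point descends along flat base change. -/
theorem isSmoothAt_of_flat_baseChange [Module.Flat A A'] [Algebra.FinitePresentation A B]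
    (q' : Ideal (A' ⊗[A] B)) [q'.IsPrime] [Algebra.IsSmoothAt A' q'] :
    Algebra.IsSmoothAt A (q'.comap (algebraMap B (A' ⊗[A] B))) := by
  have h := (Algebra.smoothLocus_eq_compl_support_inter (R := A') (A := A' ⊗[A] B)).le
    (show (⟨q', inferInstance⟩ : PrimeSpectrum (A' ⊗[A] B)) ∈ Algebra.smoothLocus A' _ from
      ‹Algebra.IsSmoothAt A' q'›)
  obtain ⟨h₁, h₂⟩ := h
  have : Module.Flat B (A' ⊗[A] B) := by
    have : Algebra.IsPushout A B A' (A' ⊗[A] B) := inferInstance
    exact Module.Flat.of_linearEquiv (Algebra.IsPushout.equiv A B A' (A' ⊗[A] B)).symm.toLinearEquiv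
  suffices (⟨q'.comap (algebraMap B (A' ⊗[A] B)), inferInstance⟩ : PrimeSpectrum B) ∈
      Algebra.smoothLocus A B from this
  rw [Algebra.smoothLocus_eq_compl_support_inter]
  refine ⟨notMem_support_of_flat q' fun x ↦ ?_, ?_⟩
  · rw [Set.mem_compl_iff, Module.notMem_support_iff'] at h₁
    obtain ⟨s, hs, hsx⟩ := h₁ (Algebra.H1Cotangent.map A A' B (A' ⊗[A] B) x)
    refine ⟨s, hs, smul_one_tmul_eq_zero x s ?_⟩
    rw [smul_h1Map_eq] at hsx
    exact (Algebra.tensorH1CotangentOfFlat A B A').injective (hsx.trans (map_zero _).symm)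
  · refine mem_freeLocus_of_flat q' ?_
    rwa [Module.freeLocus_congr (KaehlerDifferential.tensorKaehlerEquiv A A' B (A' ⊗[A] B))]

/-- Unramifiedness at a point descends along flat base change. -/
theorem isUnramifiedAt_of_flat_baseChange [Module.Flat A A'] [Algebra.FiniteType A B]
    (q' : Ideal (A' ⊗[A] B)) [q'.IsPrime] [Algebra.IsUnramifiedAt A' q'] :
    Algebra.IsUnramifiedAt A (q'.comap (algebraMap B (A' ⊗[A] B))) := by
  have h₁ : (⟨q', inferInstance⟩ : PrimeSpectrum (A' ⊗[A] B)) ∉
      Module.support (A' ⊗[A] B) Ω[(A' ⊗[A] B)⁄A'] :=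
    (Algebra.unramifiedLocus_eq_compl_support (R := A') (A := A' ⊗[A] B)).le
      ‹Algebra.IsUnramifiedAt A' q'›
  have : Module.Flat B (A' ⊗[A] B) := by
    have : Algebra.IsPushout A B A' (A' ⊗[A] B) := inferInstance
    exact Module.Flat.of_linearEquiv (Algebra.IsPushout.equiv A B A' (A' ⊗[A] B)).symm.toLinearEquiv
  suffices (⟨q'.comap (algebraMap B (A' ⊗[A] B)), inferInstance⟩ : PrimeSpectrum B) ∈
      Algebra.unramifiedLocus A B from this
  rw [Algebra.unramifiedLocus_eq_compl_support]
  refine notMem_support_of_flat q' fun x ↦ ?_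
  rw [Module.notMem_support_iff'] at h₁
  obtain ⟨s, hs, hsx⟩ := h₁ (KaehlerDifferential.tensorKaehlerEquiv A A' B (A' ⊗[A] B) (1 ⊗ₜ x))
  refine ⟨s, hs, ?_⟩
  apply (KaehlerDifferential.tensorKaehlerEquiv A A' B (A' ⊗[A] B)).injective
  rw [map_smul, hsx, map_zero]

end baseChange

end Groth.Agent.EtStruct
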