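import Groth.Agent.ConsPairLib.Loci
import Groth.Agent.ConsPropLib.Examples
import Groth.Agent.FlatMisc.GenericFlat
import Groth.Agent.FlatOpen.FibreMapAt
import Groth.Agent.S16765
import Mathlib.AlgebraicGeometry.Morphisms.LocalFlatDescent

/-!
# Constructibility of loci of smooth, étale and unramified fibre maps
-/

set_option autoImplicit false

universe u

open CategoryTheory CategoryTheory.Limits AlgebraicGeometry Topology

namespace Groth.Agent.EtStruct

variable (P : MorphismProperty Scheme.{u})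

/-- A morphism property, viewed as a relation on morphisms over a base. -/
abbrev relOf : ∀ ⦃X Y T : Scheme.{u}⦄, (X ⟶ Y) → (Y ⟶ T) → Prop := fun _ _ _ f _ => P f

/-- The pointwise fibre criterion of a morphism property at points flat over the base. -/
def HasFibreCriterion : Prop :=
  ∀ ⦃X Y S : Scheme.{u}⦄ (f : X ⟶ Y) (g : Y ⟶ S) [LocallyOfFinitePresentation g]
    [LocallyOfFinitePresentation (f ≫ g)] (x : X), ((f ≫ g).stalkMap x).hom.Flat →
    ∀ (x' : (f ≫ g).fiber (g (f x))), (f ≫ g).fiberι (g (f x)) x' = x →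
    ((∃ U : X.Opens, x ∈ U ∧ P (U.ι ≫ f)) ↔
      ∃ V : ((f ≫ g).fiber (g (f x))).Opens, x' ∈ V ∧ P (V.ι ≫ MoreMor.fiberMap f g (g (f x))))

theorem isFieldStableMor_relOf [P.IsStableUnderBaseChange]
    [P.DescendsAlong (@Surjective ⊓ @Flat ⊓ @QuasiCompact)] :
    ConsProp.IsFieldStableMor (relOf P) := by
  intro X X' Y Y' T T' f g f' g' eX eY h _ _ _ _ _ _ _ _ sqY sqX
  refine ⟨fun hf => MorphismProperty.of_isPullback sqX hf, fun hf => ?_⟩
  have hh : ((@Surjective ⊓ @Flat ⊓ @QuasiCompact : MorphismProperty Scheme.{u})) h :=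
    ConsPropLib.fpqc_of_points h
  have heY : (@Surjective ⊓ @Flat ⊓ @QuasiCompact : MorphismProperty Scheme.{u}) eY :=
    ⟨⟨MorphismProperty.of_isPullback (P := @Surjective) sqY.flip hh.1.1,
      MorphismProperty.of_isPullback (P := @Flat) sqY.flip hh.1.2⟩,
      MorphismProperty.of_isPullback (P := @QuasiCompact) sqY.flip hh.2⟩
  exact MorphismProperty.DescendsAlong.of_isPullback (P := P)
    (Q := @Surjective ⊓ @Flat ⊓ @QuasiCompact) sqX.flip heY hf

theorem exists_nhd_of [IsZariskiLocalAtSource P] {X Y : Scheme.{u}} {f : X ⟶ Y} (hf : P f) (x : X) :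
    ∃ U : X.Opens, x ∈ U ∧ P (U.ι ≫ f) :=
  ⟨⊤, trivial, IsZariskiLocalAtSource.comp hf _⟩

theorem iff_forall_exists_nhd [IsZariskiLocalAtSource P] {X Y : Scheme.{u}} (f : X ⟶ Y) :
    P f ↔ ∀ x : X, ∃ U : X.Opens, x ∈ U ∧ P (U.ι ≫ f) := by
  refine ⟨fun h x => exists_nhd_of P h x, fun h => ?_⟩
  choose U hU hP using h
  exact (IsZariskiLocalAtSource.iff_of_iSup_eq_top U
    (top_le_iff.mp fun x _ => TopologicalSpace.Opens.mem_iSup.mpr ⟨x, hU x⟩)).mpr hP

theorem isConsMor_relOf [P.IsStableUnderBaseChange] [IsZariskiLocalAtSource P]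
    [P.DescendsAlong (@Surjective ⊓ @Flat ⊓ @QuasiCompact)] (hP : HasFibreCriterion P) :
    ConsProp.IsConsMor (relOf P) := by
  refine ⟨isFieldStableMor_relOf P, fun X Y S f g _ _ _ _ _ _ => ?_⟩
  haveI : IsLocallyNoetherian X := LocallyOfFiniteType.isLocallyNoetherian (f ≫ g)
  haveI : CompactSpace X := QuasiCompact.compactSpace_of_compactSpace (f ≫ g)
  haveI : IsNoetherian X := ⟨⟩
  haveI : LocallyOfFinitePresentation g :=
    LocallyOfFinitePresentation.iff_locallyOfFiniteType.2 ‹_›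
  haveI : LocallyOfFinitePresentation (f ≫ g) :=
    LocallyOfFinitePresentation.iff_locallyOfFiniteType.2 ‹_›
  obtain ⟨W, -, hWne, hWflat, -⟩ := FlatMisc.GenericFlat.exists_open (f ≫ g) ⊤ ⟨genericPoint S, trivial⟩
  have hflat : ∀ x, g (f x) ∈ W → ((f ≫ g).stalkMap x).hom.Flat := by
    intro x hx
    haveI : Flat (((f ≫ g) ⁻¹ᵁ W).ι ≫ (f ≫ g)) := by
      rw [← morphismRestrict_ι]; infer_instance
    exact (stalkMap_ι_comp_iff (f ≫ g) RingHom.Flat.respectsIso ((f ≫ g) ⁻¹ᵁ W) ⟨x, hx⟩).mp (Flat.stalkMap _ _)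
  let E : Set X := {x | ∃ U : X.Opens, x ∈ U ∧ P (U.ι ≫ f)}
  have hE : IsOpen E := isOpen_iff_forall_mem_open.mpr fun x ⟨U, hx, hU⟩ =>
    ⟨U, fun z hz => ⟨U, hz, hU⟩, U.2, hx⟩
  have hC : IsConstructible ((f ≫ g) '' Eᶜ) :=
    (f ≫ g).isConstructible_image (ConstrLib.isConstructible_of_isClosed hE.isClosed_compl)
  have key : ∀ s ∈ W, s ∈ ConsProp.locusMor (relOf P) f g ↔ s ∉ (f ≫ g) '' Eᶜ := by
    intro s hs
    show P (MoreMor.fiberMap f g s) ↔ _
    rw [iff_forall_exists_nhd P]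
    constructor
    · rintro H ⟨x, hx, rfl⟩
      obtain ⟨x', hx'⟩ : x ∈ Set.range ((f ≫ g).fiberι (g (f x))) := by
        rw [Scheme.Hom.range_fiberι]; rfl
      exact hx ((hP f g x (hflat x hs) x' hx').mpr (H x'))
    · intro H x'
      have hx : g (f ((f ≫ g).fiberι s x')) = s := by
        have := Set.mem_range_self (f := (f ≫ g).fiberι s) x'
        rwa [Scheme.Hom.range_fiberι] at this
      have hxE : (f ≫ g).fiberι s x' ∈ E := by
        by_contra h
        exact H ⟨_, h, hx⟩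
      have aux : ∀ (x : X), x ∈ E → ∀ s, g (f x) = s → s ∈ W → ∀ x' : (f ≫ g).fiber s,
          (f ≫ g).fiberι s x' = x →
          ∃ V : ((f ≫ g).fiber s).Opens, x' ∈ V ∧ P (V.ι ≫ MoreMor.fiberMap f g s) := by
        rintro x hxE _ rfl hs x' hx'
        exact (hP f g x (hflat x hs) x' hx').mp hxE
      exact aux _ hxE s hx hs x' rfl
  have hη : genericPoint S ∈ W :=
    ((genericPoint_spec S).mem_open_set_iff W.2).mpr (by simpa using hWne)
  by_cases hs : genericPoint S ∈ (f ≫ g) '' Eᶜ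
  · obtain ⟨U, hU, hmem, hsub⟩ := ConsPropLib.exists_open_subset_of_generic hC hs
    refine Or.inr ⟨genericPoint S, interior_maximal (s := _) ?_ (hU.inter W.2) ⟨hmem, hη⟩⟩
    exact fun s ⟨h1, h2⟩ h3 => (key s h2).mp h3 (hsub h1)
  · obtain ⟨U, hU, hmem, hsub⟩ := ConsPropLib.exists_open_subset_of_generic hC.compl hs
    refine Or.inl ⟨genericPoint S, interior_maximal (s := _) ?_ (hU.inter W.2) ⟨hmem, hη⟩⟩
    exact fun s ⟨h1, h2⟩ => (key s h2).mpr (hsub h1)

theorem isLocallyConstructible_locus [P.IsStableUnderBaseChange] [IsZariskiLocalAtSource P]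
    [P.DescendsAlong (@Surjective ⊓ @Flat ⊓ @QuasiCompact)] (hP : HasFibreCriterion P)
    {X Y S : Scheme.{u}} (g : Y ⟶ S) (h : X ⟶ S)
    [LocallyOfFinitePresentation g] [QuasiCompact g] [QuasiSeparated g]
    [LocallyOfFinitePresentation h] [QuasiCompact h] [QuasiSeparated h]
    (f : X ⟶ Y) (w : f ≫ g = h) :
    IsLocallyConstructible {s : S | P (pullback.snd f (g.fiberι s))} := by
  subst w
  have e : {s : S | P (pullback.snd f (g.fiberι s))} = ConsProp.locusMor (relOf P) f g := by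
    ext s
    show P _ ↔ P (MoreMor.fiberMap f g s)
    have hsq := ConsPropLib.isPullback_fiberMap f g s
    rw [← hsq.isoPullback_hom_snd, MorphismProperty.cancel_left_of_respectsIso P]
  rw [e]
  exact ConsPairLib.isLocallyConstructible_locusMor (isConsMor_relOf P hP) f g

theorem hasFibreCriterion_smooth : HasFibreCriterion.{u} @Smooth := by
  intro X Y S f g _ _ x hflat x' hx'
  exact FlatOpen.FibreMapAt.smoothAt_iff f g x hflat x' hx'

theorem hasFibreCriterion_etale : HasFibreCriterion.{u} @Etale := by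
  intro X Y S f g _ _ x hflat x' hx'
  exact FlatOpen.FibreMapAt.etaleAt_iff f g x hflat x' hx'

theorem hasFibreCriterion_formallyUnramified : HasFibreCriterion.{u} @FormallyUnramified := by
  intro X Y S f g _ _ x _ x' hx'
  have := S16765.result g (f ≫ g) f rfl x x' hx'
  rwa [FlatOpen.FibreMapAt.fiberMapOver_eq] at this

end Groth.Agent.EtStruct
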