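import Mathlib.RingTheory.Localization.AtPrime.Basic
import Mathlib.Algebra.Ring.Pi

/-!
# Localizations of products of domains
-/

namespace Groth.Agent.EtStruct

universe u

variable {ι : Type u} {R : ι → Type u} [∀ i, CommRing (R i)] (P : Ideal (∀ i, R i)) [P.IsPrime]

open scoped Classical in
/-- One of two complementary idempotents of a product lies outside a prime. -/
theorem pi_idem_notMem_or (s : ι → Prop) :
    (fun i ↦ if s i then (1 : R i) else 0) ∉ P ∨ (fun i ↦ if s i then (0 : R i) else 1) ∉ P := by
  by_contra h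
  push Not at h
  refine (inferInstance : P.IsPrime).ne_top ((Ideal.eq_top_iff_one P).mpr ?_)
  convert P.add_mem h.1 h.2 using 1
  ext i
  by_cases hi : s i <;> simp [hi]

/-- The localization of a product of domains at a prime is a domain. -/
theorem isDomain_localization_pi [∀ i, IsDomain (R i)] : IsDomain (Localization.AtPrime P) := by
  classical
  refine @NoZeroDivisors.to_isDomain _ _ _ ⟨fun {a b} hab ↦ ?_⟩
  obtain ⟨x, s, rfl⟩ := IsLocalization.exists_mk'_eq P.primeCompl a
  obtain ⟨y, t, rfl⟩ := IsLocalization.exists_mk'_eq P.primeCompl b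
  rw [← IsLocalization.mk'_mul, IsLocalization.mk'_eq_zero_iff] at hab
  obtain ⟨⟨u, hu⟩, hxy⟩ := hab
  simp only [IsLocalization.mk'_eq_zero_iff]
  rcases pi_idem_notMem_or P (fun i ↦ x i = 0) with h | h
  · left
    refine ⟨⟨_, h⟩, funext fun i ↦ ?_⟩
    by_cases hi : x i = 0 <;> simp [hi]
  · right
    refine ⟨⟨_, P.primeCompl.mul_mem hu h⟩, funext fun i ↦ ?_⟩
    have hi' := congrFun hxy i
    simp only [Pi.mul_apply, Pi.zero_apply, mul_eq_zero] at hi' ⊢
    by_cases hi : x i = 0
    · exact Or.inl (Or.inr (by simp [hi]))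
    · rcases hi' with h' | h' | h'
      · exact Or.inl (Or.inl h')
      · exact absurd h' hi
      · exact Or.inr h'

end Groth.Agent.EtStruct
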