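import Groth.Agent.FlatOpen.API
import Groth.Agent.FlatMisc.ValuationFP
import Mathlib

/-! Finitely presented algebras over Prüfer domains are coherent. -/

universe u

open MvPolynomial

namespace Groth.Agent.EtStruct.PruferCoherent

theorem mk_eq_zero_iff {A : Type*} [CommRing A] {S : Submonoid A} {M : Type*} [AddCommGroup M] [Module A M] (y : M) (s : S) :
    LocalizedModule.mk y s = 0 ↔ ∃ u : S, u • y = 0 := by
  rw [← LocalizedModule.zero_mk (1 : S), LocalizedModule.mk_eq]
  simp

variable (R : Type u) [CommRing R] [IsDomain R]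

theorem exists_clear_denominators {n : ℕ} (m : Ideal R) [m.IsPrime]
    (p : MvPolynomial (Fin n) (Localization.AtPrime m)) :
    ∃ t ∈ m.primeCompl, ∃ p₀ : MvPolynomial (Fin n) R,
      map (algebraMap R (Localization.AtPrime m)) p₀ = C (algebraMap R _ t) * p := by
  classical
  obtain ⟨⟨b, hb⟩, h⟩ := IsLocalization.exist_integer_multiples m.primeCompl p.support fun i => p.coeff i
  refine ⟨b, hb, (mem_range_map_iff_coeffs_subset.mpr fun c hc => ?_)⟩
  obtain ⟨i, hi, rfl⟩ := mem_coeffs_iff.mp hc
  rw [coeff_C_mul]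
  rw [mem_support_iff, coeff_C_mul] at hi
  obtain ⟨y, hy⟩ := h i (mem_support_iff.mpr fun h0 => hi (by rw [h0, mul_zero]))
  exact ⟨y, hy.trans (Algebra.smul_def _ _)⟩

theorem fg_of_saturated (hR : ∀ (p : Ideal R) [p.IsPrime], ValuationRing (Localization.AtPrime p)) {n r : ℕ}
    (K : Submodule (MvPolynomial (Fin n) R) (Fin r → MvPolynomial (Fin n) R))
    (hsat : ∀ a : R, a ≠ 0 → ∀ v : Fin r → MvPolynomial (Fin n) R, (C a : MvPolynomial (Fin n) R) • v ∈ K → v ∈ K) :
    K.FG := by
  classical
  let P := MvPolynomial (Fin n) R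
  -- generators near a maximal ideal
  have step1 : ∀ (m : Ideal R) [m.IsPrime], ∃ F : Finset (Fin r → P), (F : Set (Fin r → P)) ⊆ K ∧
      ∀ k ∈ K, ∃ t ∈ m.primeCompl, (C t : P) • k ∈ Submodule.span P (F : Set (Fin r → P)) := by
    intro m _
    haveI := hR m
    let Rm := Localization.AtPrime m
    let φ : P →+* MvPolynomial (Fin n) Rm := map (algebraMap R Rm)
    have hφ : Function.Injective φ := map_injective _ (IsLocalization.injective Rm m.primeCompl_le_nonZeroDivisors)
    have hmapC : ∀ a : R, φ (C a) = C (algebraMap R Rm a) := fun a => MvPolynomial.map_C _ _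
    have hclear : ∀ w : Fin r → MvPolynomial (Fin n) Rm, ∃ t ∈ m.primeCompl, ∃ v : Fin r → P,
        ∀ i, φ (v i) = C (algebraMap R Rm t) * w i := by
      intro w
      choose t ht p hp using fun i => exists_clear_denominators R m (w i)
      refine ⟨∏ i, t i, prod_mem fun i _ => ht i, fun i => C (∏ j ∈ Finset.univ.erase i, t j) * p i, fun i => ?_⟩
      rw [map_mul, hmapC, show φ (p i) = _ from hp i, ← mul_assoc, ← C_mul, ← map_mul]
      rw [Finset.prod_erase_mul _ t (Finset.mem_univ i)]
    choose t ht v hv using hclear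
    let S : Set (Fin r → MvPolynomial (Fin n) Rm) := (fun x i => φ (x i)) '' (K : Set (Fin r → P))
    let Km := Submodule.span (MvPolynomial (Fin n) Rm) S
    have hgen : ∀ (G : Set (Fin r → P)), ∀ z ∈ Submodule.span (MvPolynomial (Fin n) Rm) ((fun (x : Fin r → P) i => φ (x i)) '' G),
        ∃ s ∈ m.primeCompl, ∃ x ∈ Submodule.span P G, ∀ i, φ (x i) = C (algebraMap R Rm s) * z i := by
      intro G z hz
      induction hz using Submodule.span_induction with
      | mem w hw =>
        obtain ⟨x, hx, rfl⟩ := hw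
        exact ⟨1, one_mem _, x, Submodule.subset_span hx, fun i => by simp⟩
      | zero => exact ⟨1, one_mem _, 0, zero_mem _, fun i => by simp⟩
      | add y z _ _ ihy ihz =>
        obtain ⟨s, hs, x, hx, hx'⟩ := ihy
        obtain ⟨s', hs', x', hx1, hx2⟩ := ihz
        refine ⟨s * s', mul_mem hs hs', C s' • x + C s • x', add_mem (Submodule.smul_mem _ _ hx) (Submodule.smul_mem _ _ hx1), fun i => ?_⟩
        simp only [Pi.add_apply, Pi.smul_apply, smul_eq_mul, map_add, map_mul, hx', hx2, hmapC]
        ring
      | smul a y _ ih =>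
        obtain ⟨s, hs, x, hx, hx'⟩ := ih
        obtain ⟨b, hb, p, hp⟩ := exists_clear_denominators R m a
        refine ⟨b * s, mul_mem hb hs, p • x, Submodule.smul_mem _ _ hx, fun i => ?_⟩
        simp only [Pi.smul_apply, smul_eq_mul, map_mul, hx', show φ p = _ from hp]
        ring
    have hunit : ∀ w, IsUnit (C (algebraMap R Rm (t w)) : MvPolynomial (Fin n) Rm) := fun w =>
      (IsLocalization.map_units Rm (⟨t w, ht w⟩ : m.primeCompl)).map C
    obtain ⟨T, hT⟩ := FlatMisc.ValuationFP.fg_of_saturated (A := Rm) (σ := Fin n) Km.mkQ fun a z h => by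
      by_cases ha : a = 0
      · exact Or.inl ha
      obtain ⟨w, rfl⟩ := Km.mkQ_surjective z
      refine Or.inr ?_
      rw [← algebraMap_smul (MvPolynomial (Fin n) Rm) a, ← map_smul, Submodule.mkQ_apply, Submodule.Quotient.mk_eq_zero] at h
      obtain ⟨s, hs, x, hx, hxs⟩ := hgen (K : Set (Fin r → P)) _ h
      rw [Submodule.span_eq] at hx
      obtain ⟨⟨a₀, t₀⟩, rfl⟩ := IsLocalization.mk'_surjective m.primeCompl a
      have ha₀ : a₀ ≠ 0 := fun h0 => ha (by simp [h0, IsLocalization.mk'_zero])
      have hs0 : s ≠ 0 := fun h0 => hs (h0 ▸ zero_mem _)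
      have hvK : v w ∈ K := by
        refine hsat (a₀ * s) (mul_ne_zero ha₀ hs0) _ ?_
        have : (C (a₀ * s) : P) • v w = (C ((t₀ : R) * t w) : P) • x := _root_.funext fun i => hφ (by
          simp only [Pi.smul_apply, smul_eq_mul, map_mul, hmapC, hv, hxs, MvPolynomial.algebraMap_eq]
          rw [← IsLocalization.mk'_spec Rm a₀ t₀, map_mul]
          ring)
        rw [this]
        exact Submodule.smul_mem _ _ hx
      rw [Submodule.mkQ_apply, Submodule.Quotient.mk_eq_zero, ← (Submodule.smul_mem_iff_of_isUnit Km (hunit w))]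
      rw [show (C (algebraMap R Rm (t w)) : MvPolynomial (Fin n) Rm) • w = fun i => φ (v w i) from
        _root_.funext fun i => (hv w i).symm]
      exact Submodule.subset_span ⟨v w, hvK, rfl⟩
    rw [Submodule.ker_mkQ] at hT
    have hex : ∀ w ∈ T, ∃ G : Finset (Fin r → P), (G : Set (Fin r → P)) ⊆ K ∧
        w ∈ Submodule.span (MvPolynomial (Fin n) Rm) ((fun (x : Fin r → P) i => φ (x i)) '' (G : Set (Fin r → P))) := by
      intro w hw
      obtain ⟨G, hGS, hwG⟩ := Submodule.mem_span_finite_of_mem_span (hT.le (Submodule.subset_span hw))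
      obtain ⟨G', hG', rfl⟩ := Finset.subset_set_image_iff.mp hGS
      exact ⟨G', hG', by rwa [← Finset.coe_image]⟩
    choose! G hGK hG using hex
    refine ⟨T.biUnion G, fun x hx => ?_, fun k hk => ?_⟩
    · obtain ⟨w, hw, hxw⟩ := Finset.mem_biUnion.mp (Finset.mem_coe.mp hx)
      exact hGK w hw hxw
    · have hkm : (fun i => φ (k i)) ∈ Submodule.span (MvPolynomial (Fin n) Rm)
          ((fun (x : Fin r → P) i => φ (x i)) '' ((T.biUnion G : Finset _) : Set (Fin r → P))) := by
        have h1 : (fun i => φ (k i)) ∈ Submodule.span (MvPolynomial (Fin n) Rm) (T : Set _) :=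
          hT.ge (Submodule.subset_span ⟨k, hk, rfl⟩)
        refine Submodule.span_le.mpr (fun w hw => ?_) h1
        exact Submodule.span_mono (Set.image_mono (Finset.coe_subset.mpr (Finset.subset_biUnion_of_mem G hw))) (hG w hw)
      obtain ⟨s, hs, x, hx, hxk⟩ := hgen _ _ hkm
      refine ⟨s, hs, ?_⟩
      rwa [show (C s : P) • k = x from _root_.funext fun i => hφ (by rw [hxk i, Pi.smul_apply, smul_eq_mul, map_mul, hmapC])]
  -- spread out
  have htors : ∀ M : Type u, ∀ [AddCommGroup M] [Module R M], Module.Flat R M ↔ Submodule.torsion R M = ⊥ := fun M _ _ =>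
    Module.Flat.flat_iff_torsion_eq_bot_of_valuationRing_localization_isMaximal fun P _ => hR P
  have step2 : ∀ (m : Ideal R) [m.IsMaximal], ∃ (f : R) (F : Finset (Fin r → P)), f ∉ m ∧
      (F : Set (Fin r → P)) ⊆ K ∧ ∀ k ∈ K, ∃ e : ℕ, (C (f ^ e) : P) • k ∈ Submodule.span P (F : Set (Fin r → P)) := by
    intro m _
    obtain ⟨F, hFK, hF⟩ := step1 m
    let Q := (Fin r → P) ⧸ Submodule.span P (F : Set (Fin r → P))
    haveI : Module.FinitePresentation P Q :=
      Module.finitePresentation_of_surjective (Submodule.mkQ _) (Submodule.mkQ_surjective _) (by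
        rw [Submodule.ker_mkQ]; exact ⟨F, rfl⟩)
    have hsm : ∀ (a : R) (y : Q), a • y = (C a : P) • y := fun a y => (algebraMap_smul P a y).symm
    have hU : ∀ q : PrimeSpectrum P, (∀ a : R, C a ∈ q.asIdeal → a ∈ m) → FlatCA.FlatAt R q.asIdeal Q := by
      intro q hq
      show Module.Flat R (LocalizedModule q.asIdeal.primeCompl Q)
      rw [htors, eq_bot_iff]
      intro z hz
      rw [Submodule.mem_torsion_iff] at hz
      obtain ⟨⟨a, ha⟩, haz⟩ := hz
      induction z using LocalizedModule.induction_on with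
      | h y s =>
        rw [Submodule.mem_bot, mk_eq_zero_iff]
        rw [Submonoid.smul_def, ← algebraMap_smul P a, LocalizedModule.smul'_mk, mk_eq_zero_iff] at haz
        obtain ⟨u, hu⟩ := haz
        obtain ⟨y, rfl⟩ := Submodule.mkQ_surjective _ y
        rw [Submonoid.smul_def, smul_smul, ← map_smul, Submodule.mkQ_apply, Submodule.Quotient.mk_eq_zero] at hu
        have hyK : (u : P) • y ∈ K := by
          refine hsat a (nonZeroDivisors.ne_zero ha) _ ?_
          rw [smul_smul, mul_comm]
          exact (Submodule.span_le.mpr hFK) hu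
        obtain ⟨t, ht, htk⟩ := hF _ hyK
        refine ⟨⟨C t * (u : P), fun h => (Ideal.IsPrime.mem_or_mem q.2 h).elim (fun h => ht (hq t h)) u.2⟩, ?_⟩
        rw [Submonoid.smul_def, ← map_smul, Submodule.mkQ_apply, Submodule.Quotient.mk_eq_zero]
        rw [smul_smul] at htk
        exact htk
    have hopen := FlatOpen.isOpen_flatLocus R P Q
    obtain ⟨J, hJ⟩ := (PrimeSpectrum.isClosed_iff_zeroLocus_ideal _).mp hopen.isClosed_compl
    obtain ⟨f, hfm, hf⟩ : ∃ f, f ∉ m ∧ (C f : P) ∈ J := by
      by_contra! h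
      obtain ⟨q, hq, hJq, hdis⟩ := Ideal.exists_le_prime_disjoint (m.primeCompl.map (C : R →+* P)) (I := J)
        (Set.disjoint_left.mpr fun x hx ⟨a, ha, hax⟩ => h a ha (by rwa [← hax] at hx))
      have h2 : (⟨q, hq⟩ : PrimeSpectrum P) ∈ PrimeSpectrum.zeroLocus (J : Set P) := hJq
      rw [← hJ] at h2
      exact h2 (hU ⟨q, hq⟩ fun a ha => by
        by_contra ham
        exact Set.disjoint_left.mp hdis ha ⟨a, ham, rfl⟩)
    refine ⟨f, F, hfm, hFK, fun k hk => ?_⟩
    obtain ⟨t, ht, htk⟩ := hF k hk
    let y : Q := Submodule.mkQ _ k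
    let ann : Ideal P := LinearMap.ker (LinearMap.toSpanSingleton P Q y)
    have hmem : (C f : P) ∈ ann.radical := by
      rw [Ideal.radical_eq_sInf, Submodule.mem_sInf]
      rintro (q : Ideal P) ⟨hle, hq⟩
      by_contra hfq
      have hflat : FlatCA.FlatAt R q Q := by
        by_contra hn
        have : (⟨q, hq⟩ : PrimeSpectrum P) ∈ PrimeSpectrum.zeroLocus (J : Set P) := hJ ▸ hn
        exact hfq (this hf)
      replace hflat : Submodule.torsion R (LocalizedModule q.primeCompl Q) = ⊥ := (htors _).mp hflat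
      have hy : LocalizedModule.mk y (1 : q.primeCompl) ∈ Submodule.torsion R (LocalizedModule q.primeCompl Q) := by
        rw [Submodule.mem_torsion_iff]
        refine ⟨⟨t, mem_nonZeroDivisors_of_ne_zero fun h => ht (h ▸ zero_mem _)⟩, ?_⟩
        rw [Submonoid.smul_def, ← algebraMap_smul P t, LocalizedModule.smul'_mk]
        have : algebraMap R P t • y = 0 := by
          show (C t : P) • Submodule.mkQ _ k = 0
          rw [← map_smul, Submodule.mkQ_apply, Submodule.Quotient.mk_eq_zero]
          exact htk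
        rw [this, LocalizedModule.zero_mk]
      rw [hflat, Submodule.mem_bot, mk_eq_zero_iff] at hy
      obtain ⟨u, hu⟩ := hy
      exact u.2 (hle (show (u : P) ∈ ann from hu))
    obtain ⟨e, he⟩ := hmem
    refine ⟨e, ?_⟩
    rw [← Submodule.Quotient.mk_eq_zero, map_pow]
    exact he
  -- finitely many suffice
  choose f F hfm hFK hF using fun m : MaximalSpectrum R => step2 m.asIdeal
  have htop : Ideal.span (Set.range f) = ⊤ := by
    by_contra h
    obtain ⟨m, hm, hle⟩ := Ideal.exists_le_maximal _ h
    exact hfm ⟨m, hm⟩ (hle (Ideal.subset_span ⟨⟨m, hm⟩, rfl⟩))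
  obtain ⟨s, hs1, hs⟩ := Submodule.mem_span_finite_of_mem_span ((Ideal.eq_top_iff_one _).mp htop)
  choose idx hidx using fun x : {x // x ∈ s} => hs1 x.2
  let s' : Finset (MaximalSpectrum R) := s.attach.image idx
  refine ⟨s'.biUnion F, le_antisymm (Submodule.span_le.mpr fun x hx => ?_) fun k hk => ?_⟩
  · obtain ⟨m, hm, hx⟩ := Finset.mem_biUnion.mp (Finset.mem_coe.mp hx)
    exact hFK m hx
  · let N := Submodule.span P ((s'.biUnion F : Finset _) : Set (Fin r → P))
    let Aid : Ideal R := Submodule.comap ((LinearMap.toSpanSingleton P (Fin r → P) k).restrictScalars R ∘ₗ Algebra.linearMap R P) (N.restrictScalars R)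
    have hrad : ∀ m ∈ s', f m ∈ Aid.radical := fun m hm => by
      obtain ⟨e, he⟩ := hF m k hk
      exact ⟨e, Submodule.span_mono (Finset.coe_subset.mpr (Finset.subset_biUnion_of_mem F hm)) he⟩
    have h1 : Aid.radical = ⊤ := by
      rw [Ideal.eq_top_iff_one]
      refine (Ideal.span_le.mpr fun x hx => ?_ : Ideal.span (s : Set R) ≤ Aid.radical) hs
      have := hrad _ (Finset.mem_image_of_mem idx (Finset.mem_attach s ⟨x, hx⟩))
      rwa [hidx] at this
    rw [Ideal.radical_eq_top, Ideal.eq_top_iff_one] at h1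
    have h2 : (algebraMap R P 1) • k ∈ N := h1
    rwa [map_one, one_smul] at h2

theorem ker_fg (hR : ∀ (p : Ideal R) [p.IsPrime], ValuationRing (Localization.AtPrime p)) {n r : ℕ}
    (g : Fin r → MvPolynomial (Fin n) R) :
    (LinearMap.ker (Fintype.linearCombination (MvPolynomial (Fin n) R) g)).FG :=
  fg_of_saturated R hR _ fun a ha v hv => by
    rw [LinearMap.mem_ker, map_smul, smul_eq_mul] at hv
    exact (mul_eq_zero.mp hv).resolve_left fun h => ha (C_eq_zero.mp h)

/-- Finitely generated ideals of finitely presented algebras over a Prüfer domain are finitely presented. -/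
theorem finitePresentation (hR : ∀ (p : Ideal R) [p.IsPrime], ValuationRing (Localization.AtPrime p))
    (A : Type u) [CommRing A] [Algebra R A] [Algebra.FinitePresentation R A] (I : Ideal A) (hI : I.FG) :
    Module.FinitePresentation A I := by
  classical
  obtain ⟨n, φ, hφ, hker⟩ := (inferInstance : Algebra.FinitePresentation R A).out
  obtain ⟨s, g₀, hg₀⟩ := Submodule.fg_iff_exists_fin_generating_family.mp hker
  obtain ⟨r, a, ha⟩ := Submodule.fg_iff_exists_fin_generating_family.mp hI
  choose g hg using fun i => hφ (a i)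
  let P := MvPolynomial (Fin n) R
  let G : Fin (r + s) → P := Fin.append g g₀
  obtain ⟨T, hT⟩ := ker_fg R hR G
  let π : (Fin r → A) →ₗ[A] I := LinearMap.codRestrict I (Fintype.linearCombination A a) fun v => by
    rw [Fintype.linearCombination_apply]
    exact I.sum_mem fun i _ => I.mul_mem_left _ (ha ▸ Submodule.subset_span ⟨i, rfl⟩)
  have hπ : Function.Surjective π := fun ⟨x, hx⟩ => by
    have hx' : x ∈ Submodule.span A (Set.range a) := by rw [ha]; exact hx
    rw [← Fintype.range_linearCombination] at hx'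
    obtain ⟨v, hv⟩ := hx'
    exact ⟨v, Subtype.ext hv⟩
  let pr : (Fin (r + s) → P) → (Fin r → A) := fun w i => φ (w (Fin.castAdd s i))
  have hφ0 : ∀ i, φ (g₀ i) = 0 := fun i => by
    have h : g₀ i ∈ RingHom.ker φ.toRingHom := hg₀ ▸ Submodule.subset_span ⟨i, rfl⟩
    exact h
  have hlin : ∀ w, φ (Fintype.linearCombination P G w) = Fintype.linearCombination A a (pr w) := fun w => by
    simp [Fintype.linearCombination_apply, Fin.sum_univ_add, G, pr, map_sum, hg, hφ0]
  refine Module.finitePresentation_of_surjective π hπ ⟨T.image pr, le_antisymm (Submodule.span_le.mpr fun x hx => ?_) fun v hv => ?_⟩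
  · obtain ⟨w, hw, rfl⟩ := Finset.mem_image.mp (Finset.mem_coe.mp hx)
    have hwk : Fintype.linearCombination P G w = 0 := LinearMap.mem_ker.mp (hT ▸ Submodule.subset_span hw)
    refine Subtype.ext ?_
    show Fintype.linearCombination A a (pr w) = 0
    rw [← hlin, hwk, map_zero]
  · choose v₀ hv₀ using fun i => hφ (v i)
    have h0 : Fintype.linearCombination P g v₀ ∈ RingHom.ker φ.toRingHom := by
      show φ _ = 0
      have := congrArg Subtype.val (LinearMap.mem_ker.mp hv)
      change Fintype.linearCombination A a v = 0 at this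
      simpa [Fintype.linearCombination_apply, hg, hv₀] using this
    rw [← hg₀, ← Fintype.range_linearCombination] at h0
    obtain ⟨c, hc⟩ := h0
    have hw : Fin.append v₀ (-c) ∈ LinearMap.ker (Fintype.linearCombination P G) := by
      rw [LinearMap.mem_ker]
      simp only [Fintype.linearCombination_apply] at hc ⊢
      simp only [smul_eq_mul] at hc ⊢
      simp only [G, Fin.sum_univ_add, ← hc, Fin.append_left, Fin.append_right]
      rw [← Finset.sum_add_distrib]
      exact Finset.sum_eq_zero fun x _ => show c x * g₀ x + -(c x) * g₀ x = 0 by ring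
    have hspan : ∀ w ∈ LinearMap.ker (Fintype.linearCombination P G),
        pr w ∈ Submodule.span A ((T.image pr : Finset _) : Set (Fin r → A)) := by
      intro w hw
      rw [← hT] at hw
      induction hw using Submodule.span_induction with
      | mem x hx => exact Submodule.subset_span (Finset.mem_coe.mpr (Finset.mem_image_of_mem pr hx))
      | zero => rw [show pr 0 = 0 from _root_.funext fun i => by simp [pr]]; exact zero_mem _
      | add x y _ _ ihx ihy => convert add_mem ihx ihy using 1; ext i; simp [pr]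
      | smul p x _ ih => convert Submodule.smul_mem _ (φ p) ih using 1; ext i; simp [pr]
    convert hspan _ hw using 1
    ext i
    simp [pr, hv₀]

end Groth.Agent.EtStruct.PruferCoherent
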