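import Groth.Agent.DimSpec.Core
import Groth.Agent.FibSemi.Basic
import Mathlib

/-!
# The dimension function of finite type algebras over Prüfer domains
-/

set_option autoImplicit false
set_option linter.style.haveILetI false
universe u

open scoped TensorProduct
open Groth.Agent.DimSpec

noncomputable section

namespace Groth.Agent.EtStruct.PruferDim

variable {R S : Type u} [CommRing R] [CommRing S] [Algebra R S]

/-- Transcendence degree of `S ⧸ P` over `R ⧸ (P ∩ R)`. -/
abbrev td (R : Type u) {S : Type u} [CommRing R] [CommRing S] [Algebra R S] (P : Ideal S) : ℕ :=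
  Cardinal.toNat (Algebra.trdeg (R ⧸ P.under R) (S ⧸ P))

/-- The dimension function. -/
abbrev delta (R : Type u) {S : Type u} [CommRing R] [CommRing S] [Algebra R S] (P : Ideal S) : ℤ :=
  (td R P : ℤ) - ((P.under R).height.toNat : ℤ)

theorem indep_iff_quotient (P : Ideal S) [P.IsPrime] {n : ℕ} (a : Fin n → S) :
    Indep (P.under R) P a ↔
      AlgebraicIndependent (R ⧸ P.under R) fun i => Ideal.Quotient.mk P (a i) := by
  have key : ∀ Q : MvPolynomial (Fin n) R,
      MvPolynomial.aeval (fun i => Ideal.Quotient.mk P (a i))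
          (MvPolynomial.map (algebraMap R (R ⧸ P.under R)) Q) = 0 ↔ MvPolynomial.aeval a Q ∈ P := by
    intro Q
    rw [MvPolynomial.aeval_map_algebraMap, ← Ideal.Quotient.eq_zero_iff_mem]
    show MvPolynomial.aeval (fun i => Ideal.Quotient.mkₐ R P (a i)) Q = 0 ↔
      Ideal.Quotient.mkₐ R P (MvPolynomial.aeval a Q) = 0
    rw [← MvPolynomial.comp_aeval, AlgHom.comp_apply]
  rw [algebraicIndependent_iff]
  constructor
  · intro h G hG
    obtain ⟨Q, rfl⟩ := MvPolynomial.map_surjective _ Ideal.Quotient.mk_surjective G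
    by_contra hne
    obtain ⟨m, hm⟩ := MvPolynomial.ne_zero_iff.mp hne
    refine h Q ⟨m, fun hmem => hm ?_⟩ ((key Q).mp hG)
    rw [MvPolynomial.coeff_map]
    exact Ideal.Quotient.eq_zero_iff_mem.mpr hmem
  · intro h Q hQ hmem
    obtain ⟨m, hm⟩ := hQ
    have h2 := congrArg (MvPolynomial.coeff m) (h _ ((key Q).mpr hmem))
    rw [MvPolynomial.coeff_map, MvPolynomial.coeff_zero] at h2
    exact hm (Ideal.Quotient.eq_zero_iff_mem.mp h2)

variable [Algebra.FiniteType R S]

theorem finiteType_quotient_under (P : Ideal S) [P.IsPrime] :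
    Algebra.FiniteType (R ⧸ P.under R) (S ⧸ P) := .of_restrictScalars_finiteType R _ _

theorem le_td_iff (P : Ideal S) [P.IsPrime] (n : ℕ) :
    n ≤ td R P ↔ ∃ a : Fin n → S, Indep (P.under R) P a := by
  haveI := finiteType_quotient_under (R := R) P
  have hlt : Algebra.trdeg (R ⧸ P.under R) (S ⧸ P) < Cardinal.aleph0 := trdeg_lt_aleph0_of_finiteType
  obtain ⟨m, hm⟩ := Cardinal.lt_aleph0.mp hlt
  have htd : td R P = m := by rw [td, hm, Cardinal.toNat_natCast]
  rw [htd]
  constructor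
  · intro hn
    haveI : FaithfulSMul (R ⧸ P.under R) (S ⧸ P) :=
      (faithfulSMul_iff_algebraMap_injective _ _).mpr Ideal.algebraMap_quotient_injective
    obtain ⟨s, hs⟩ := exists_isTranscendenceBasis (R ⧸ P.under R) (S ⧸ P)
    obtain ⟨ι⟩ := Cardinal.lift_mk_le'.mp (show Cardinal.lift.{u} (Cardinal.mk (Fin n)) ≤ Cardinal.lift.{0, u} (Cardinal.mk s) by
      rw [Cardinal.mk_fin, Cardinal.lift_natCast, hs.cardinalMk_eq_trdeg, hm, Cardinal.lift_natCast]
      exact_mod_cast hn)
    choose a ha using fun i => Ideal.Quotient.mk_surjective (I := P) (ι i).1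
    refine ⟨a, (indep_iff_quotient P a).mpr ?_⟩
    simp only [ha]
    exact hs.1.comp ι ι.injective
  · rintro ⟨a, ha⟩
    have h := ((indep_iff_quotient P a).mp ha).lift_cardinalMk_le_trdeg
    rw [hm, Cardinal.mk_fin, Cardinal.lift_natCast, Cardinal.lift_natCast] at h
    exact_mod_cast h

omit [Algebra.FiniteType R S] in
theorem exists_bound [Algebra.FiniteType R S] :
    ∃ N : ℕ, ∀ (P : Ideal S) [P.IsPrime], td R P ≤ N := by
  obtain ⟨N, f, hf⟩ := Algebra.FiniteType.iff_quotient_mvPolynomial''.mp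
    (inferInstance : Algebra.FiniteType R S)
  refine ⟨N, fun P _ => ?_⟩
  obtain ⟨a, ha⟩ := (le_td_iff (R := R) P (td R P)).mp le_rfl
  choose b hb using fun i => hf (a i)
  let g : MvPolynomial (Fin N) (R ⧸ P.under R) →ₐ[R ⧸ P.under R] S ⧸ P :=
    MvPolynomial.aeval fun i => Ideal.Quotient.mk P (f (MvPolynomial.X i))
  have hg : Function.Surjective g := by
    intro x
    obtain ⟨x, rfl⟩ := Ideal.Quotient.mk_surjective x
    obtain ⟨y, rfl⟩ := hf x
    refine ⟨MvPolynomial.map (algebraMap R _) y, ?_⟩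
    rw [MvPolynomial.aeval_map_algebraMap]
    show MvPolynomial.aeval (fun i => (Ideal.Quotient.mkₐ R P) (f (MvPolynomial.X i))) y =
      Ideal.Quotient.mkₐ R P (f y)
    rw [← MvPolynomial.comp_aeval, AlgHom.comp_apply, MvPolynomial.aeval_unique f]
    simp
  have h := ((indep_iff_quotient P a).mp ha).lift_cardinalMk_le_trdeg.trans
    (Cardinal.lift_le.mpr (trdeg_le_of_surjective g hg))
  rw [MvPolynomial.trdeg_of_isDomain, Cardinal.mk_fin, Cardinal.mk_fin, Cardinal.lift_natCast,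
    Cardinal.lift_natCast, Cardinal.lift_natCast] at h
  exact_mod_cast h

theorem length_le_td (P : PrimeSpectrum S) (l : LTSeries (PrimeSpectrum S)) (hP : P ≤ l.head)
    (hl : ∀ i, (l i).asIdeal.under R = P.asIdeal.under R) : l.length ≤ td R P.asIdeal := by
  obtain ⟨a, ha⟩ := exists_indep_of_chain (P.asIdeal.under R) l
    (fun i => PrimeSpectrum.ext (hl i))
  exact (le_td_iff P.asIdeal _).mpr ⟨a, fun Q hQ h => ha Q hQ (hP h)⟩

theorem exists_chain (P : PrimeSpectrum S) {n : ℕ} (hn : n ≤ td R P.asIdeal) :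
    ∃ l : LTSeries (PrimeSpectrum S), l.length = n ∧ l.head = P ∧
      ∀ i, (l i).asIdeal.under R = P.asIdeal.under R := by
  obtain ⟨a, ha⟩ := (le_td_iff P.asIdeal n).mp hn
  obtain ⟨l, hl, hl'⟩ := exists_chain_of_indep (P.asIdeal.under R) P (PrimeSpectrum.ext rfl) a ha
  refine ⟨LTSeries.mk l.length (fun i => if i = 0 then P else l i) ?_, hl, ?_, ?_⟩
  · intro i j hij
    have hj : j ≠ 0 := fun h => by subst h; exact absurd hij (Fin.not_lt_zero i)
    simp only [if_neg hj]
    split_ifs with hi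
    · exact lt_of_le_of_lt (hl' 0).1 (l.strictMono (hi ▸ hij))
    · exact l.strictMono hij
  · show (if (0 : Fin (l.length + 1)) = 0 then P else l 0) = P
    rw [if_pos rfl]
  · intro i
    show (if i = 0 then P else l i).asIdeal.under R = _
    split_ifs
    · rfl
    · exact congrArg PrimeSpectrum.asIdeal (hl' i).2

theorem td_add_one_le {P Q : PrimeSpectrum S} (h : P < Q)
    (hpq : P.asIdeal.under R = Q.asIdeal.under R) : td R Q.asIdeal + 1 ≤ td R P.asIdeal := by
  obtain ⟨l, hl, hhead, hfib⟩ := exists_chain Q (le_refl (td R Q.asIdeal))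
  have := length_le_td (R := R) P (l.cons P (hhead.symm ▸ h)) (by rw [RelSeries.head_cons]) fun i => by
    refine Fin.cases ?_ (fun j => ?_) i
    · exact congrArg (fun z => Ideal.under R z.asIdeal) (RelSeries.head_cons l P _)
    · have hm : (l.cons P (hhead.symm ▸ h)) j.succ ∈ l.cons P (hhead.symm ▸ h) := ⟨_, rfl⟩
      rw [← RelSeries.mem_toList, RelSeries.toList_cons] at hm
      rcases List.mem_cons.mp hm with h0 | h0
      · exact congrArg (fun z => Ideal.under R z.asIdeal) h0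
      · obtain ⟨k, hk⟩ := RelSeries.mem_toList.mp h0
        exact (congrArg (fun z => Ideal.under R z.asIdeal) hk.symm).trans ((hfib k).trans hpq.symm)
  rw [RelSeries.cons_length, hl] at this
  exact this

theorem td_covBy {P Q : PrimeSpectrum S} (h : P ⋖ Q)
    (hpq : P.asIdeal.under R = Q.asIdeal.under R) : td R P.asIdeal = td R Q.asIdeal + 1 := by
  let p : PrimeSpectrum R := ⟨P.asIdeal.under R, inferInstance⟩
  let e := PrimeSpectrum.preimageOrderIsoFiber R S p
  have hP : P.comap (algebraMap R S) = p := rfl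
  have hQ : Q.comap (algebraMap R S) = p := PrimeSpectrum.ext hpq.symm
  have hcov : e ⟨P, hP⟩ ⋖ e ⟨Q, hQ⟩ := by
    refine ⟨e.strictMono h.lt, fun z h1 h2 => ?_⟩
    obtain ⟨z, rfl⟩ := e.surjective z
    exact h.2 (c := z.1) (e.lt_iff_lt.mp h1) (e.lt_iff_lt.mp h2)
  have key : ∀ (T : PrimeSpectrum S) (hT : T.comap (algebraMap R S) = p),
      Algebra.trdeg p.asIdeal.ResidueField (p.asIdeal.Fiber S ⧸ (e ⟨T, hT⟩).asIdeal) = td R T.asIdeal := by
    intro T hT
    obtain ⟨m, hdim, htr⟩ := exists_trdeg p.asIdeal (e ⟨T, hT⟩)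
    rw [htr]
    congr 1
    have hTu : T.asIdeal.under R = p.asIdeal := congrArg PrimeSpectrum.asIdeal hT
    refine le_antisymm ?_ ?_
    · obtain ⟨l, hl⟩ := Order.le_krullDim_iff.mp (hdim.ge : (m : WithBot ℕ∞) ≤
        Order.krullDim (PrimeSpectrum (p.asIdeal.Fiber S ⧸ (e ⟨T, hT⟩).asIdeal)))
      let ι := Ideal.primeSpectrumQuotientOrderIsoZeroLocus (e ⟨T, hT⟩).asIdeal
      rw [← hl]
      refine length_le_td (R := R) T (l.map (fun x => (e.symm (ι x).1).1)
        (fun x y hxy => e.symm.strictMono (ι.strictMono hxy))) ?_ fun i => ?_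
      · show (⟨T, hT⟩ : PrimeSpectrum.comap (algebraMap R S) ⁻¹' {p}) ≤ e.symm (ι l.head).1
        rw [e.le_symm_apply]
        exact fun x hx => (ι l.head).2 hx
      · exact (congrArg PrimeSpectrum.asIdeal (e.symm (ι (l i)).1).2).trans hTu.symm
    · obtain ⟨a, ha⟩ := (le_td_iff T.asIdeal _).mp (le_refl (td R T.asIdeal))
      rw [hTu] at ha
      have h := ((indep_iff p.asIdeal T hT a).mp ha).lift_cardinalMk_le_trdeg
      rw [htr, Cardinal.mk_fin, Cardinal.lift_natCast, Cardinal.lift_natCast] at h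
      exact_mod_cast h
  have := Groth.Agent.VarDim.trdeg_quotient_of_covBy p.asIdeal.ResidueField (p.asIdeal.Fiber S) hcov
  rw [key P hP, key Q hQ] at this
  exact_mod_cast this.symm

section Prufer

variable [IsDomain R] (hR : ∀ (p : Ideal R) [p.IsPrime], ValuationRing (Localization.AtPrime p))

/-- Divisibility at a prime. -/
def Dvd' (q : Ideal R) (a b : R) : Prop := ∃ w e : R, w ∉ q ∧ w * b = e * a

include hR in
theorem dvd'_total (q : Ideal R) [q.IsPrime] (a b : R) : Dvd' q a b ∨ Dvd' q b a := by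
  haveI : IsDomain (Localization.AtPrime q) :=
    IsLocalization.isDomain_localization q.primeCompl_le_nonZeroDivisors
  haveI := hR q
  have main : ∀ a b : R, algebraMap R (Localization.AtPrime q) a ∣ algebraMap R _ b → Dvd' q a b := by
    rintro a b ⟨c, hc⟩
    obtain ⟨⟨e, w⟩, hew⟩ := IsLocalization.surj q.primeCompl c
    refine ⟨w, e, w.2, ?_⟩
    apply IsLocalization.injective (Localization.AtPrime q) q.primeCompl_le_nonZeroDivisors
    rw [map_mul, map_mul, hc]
    rw [show algebraMap R (Localization.AtPrime q) e = c * algebraMap R _ (w : R) from hew.symm]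
    ring
  exact (ValuationRing.dvd_total (algebraMap R (Localization.AtPrime q) a) (algebraMap R _ b)).imp
    (main a b) (main b a)

omit [Algebra.FiniteType R S] [IsDomain R] in
theorem dvd'_trans {q : Ideal R} [q.IsPrime] {a b c : R} (h : Dvd' q a b) (h' : Dvd' q b c) :
    Dvd' q a c := by
  obtain ⟨w, e, hw, h⟩ := h
  obtain ⟨w', e', hw', h'⟩ := h'
  exact ⟨w * w', e * e', fun h0 => (Ideal.IsPrime.mem_or_mem ‹_› h0).elim hw hw',
    by linear_combination w * h' + e' * h⟩

include hR in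
theorem exists_dvd'_all (q : Ideal R) [q.IsPrime] {ι : Type*} (c : ι → R) (s : Finset ι)
    (hs : s.Nonempty) : ∃ i ∈ s, ∀ j ∈ s, Dvd' q (c i) (c j) := by
  have hrefl : ∀ a, Dvd' q a a := fun a => ⟨1, 1, Ideal.IsPrime.one_notMem ‹_›, rfl⟩
  induction hs using Finset.Nonempty.cons_induction with
  | singleton a => exact ⟨a, by simp, by simpa using hrefl _⟩
  | cons a s ha hs ih =>
    obtain ⟨i, hi, hall⟩ := ih
    rcases dvd'_total hR q (c a) (c i) with h | h
    · exact ⟨a, by simp, by simpa using ⟨hrefl _, fun j hj => dvd'_trans h (hall j hj)⟩⟩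
    · exact ⟨i, by simp [hi], by simpa using ⟨h, hall⟩⟩

include hR in
theorem td_le_of_le (P Q : Ideal S) [P.IsPrime] [Q.IsPrime] (h : P ≤ Q) :
    td R Q ≤ td R P := by
  classical
  obtain ⟨a, ha⟩ := (le_td_iff (R := R) Q (td R Q)).mp le_rfl
  refine (le_td_iff P _).mpr ⟨a, fun F hF hFP => ?_⟩
  obtain ⟨m₁, hm₁⟩ := hF
  let q := Q.under R
  have hpq : P.under R ≤ q := Ideal.comap_mono h
  have hne : F.support.Nonempty := ⟨m₁, MvPolynomial.mem_support_iff.mpr fun h0 => hm₁ (h0 ▸ zero_mem _)⟩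
  obtain ⟨m₀, hm₀, hall⟩ := exists_dvd'_all hR q F.coeff F.support hne
  choose! w e hw he using hall
  have hc₀ : F.coeff m₀ ∉ P.under R := by
    intro h0
    have hmem : m₁ ∈ F.support := MvPolynomial.mem_support_iff.mpr fun h0 => hm₁ (h0 ▸ zero_mem _)
    have h1 : w m₁ * F.coeff m₁ ∈ P.under R := he m₁ hmem ▸ Ideal.mul_mem_left _ _ h0
    exact (Ideal.IsPrime.mem_or_mem inferInstance h1).elim (fun h2 => hw m₁ hmem (hpq h2)) hm₁
  let W : R := ∏ m ∈ F.support, w m
  have hW : W ∉ q := fun hW => by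
    obtain ⟨m, hm, hmq⟩ := (Ideal.IsPrime.prod_mem_iff (p := q)).mp hW
    exact hw m hm hmq
  let G : MvPolynomial (Fin (td R Q)) R :=
    ∑ m ∈ F.support, MvPolynomial.monomial m (e m * ∏ m' ∈ F.support.erase m, w m')
  have hG : MvPolynomial.C W * F = MvPolynomial.C (F.coeff m₀) * G := by
    conv_lhs => arg 2; rw [F.as_sum]
    rw [Finset.mul_sum, Finset.mul_sum]
    refine Finset.sum_congr rfl fun m hm => ?_
    rw [MvPolynomial.C_mul_monomial, MvPolynomial.C_mul_monomial]
    congr 1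
    show (∏ m' ∈ F.support, w m') * F.coeff m = _
    rw [← Finset.mul_prod_erase _ _ hm]
    linear_combination (∏ m' ∈ F.support.erase m, w m') * he m hm
  have hG₀ : G.coeff m₀ = W := by
    have := congrArg (MvPolynomial.coeff m₀) hG
    rw [MvPolynomial.coeff_C_mul, MvPolynomial.coeff_C_mul] at this
    have hne0 : F.coeff m₀ ≠ 0 := fun h0 => hc₀ (h0 ▸ zero_mem _)
    exact mul_left_cancel₀ hne0 (this.symm.trans (mul_comm _ _))
  have hGa := congrArg (MvPolynomial.aeval a) hG
  rw [map_mul, map_mul, MvPolynomial.aeval_C, MvPolynomial.aeval_C] at hGa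
  have : algebraMap R S (F.coeff m₀) * MvPolynomial.aeval a G ∈ P := hGa ▸ P.mul_mem_left _ hFP
  refine ha G ⟨m₀, hG₀.symm ▸ hW⟩ ?_
  exact h ((Ideal.IsPrime.mem_or_mem ‹_› this).resolve_left hc₀)

omit [Algebra.FiniteType R S] in
include hR in
/-- Primes in between lift: a form of going down. -/
theorem exists_prime_between (P Q : Ideal S) [P.IsPrime] [Q.IsPrime] (h : P ≤ Q)
    (r : Ideal R) [r.IsPrime] (h₁ : P.under R < r) (h₂ : r ≤ Q.under R) :
    ∃ Q' : Ideal S, Q'.IsPrime ∧ P ≤ Q' ∧ Q' ≤ Q ∧ Q'.under R = r := by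
  let q := Q.under R
  let J : Ideal S := P ⊔ r.map (algebraMap R S)
  let T : Submonoid S :=
    { carrier := {z | ∃ s t, s ∉ r ∧ t ∉ Q ∧ z = algebraMap R S s * t}
      mul_mem' := by
        rintro _ _ ⟨s, t, hs, ht, rfl⟩ ⟨s', t', hs', ht', rfl⟩
        exact ⟨s * s', t * t', fun h0 => (Ideal.IsPrime.mem_or_mem ‹_› h0).elim hs hs',
          fun h0 => (Ideal.IsPrime.mem_or_mem ‹_› h0).elim ht ht', by rw [map_mul]; ring⟩
      one_mem' := ⟨1, 1, Ideal.IsPrime.one_notMem ‹_›, Ideal.IsPrime.one_notMem ‹_›, by simp⟩ }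
  have hJ : ∀ x ∈ J, ∃ u c : R, ∃ y : S, u ∉ q ∧ c ∈ r ∧
      algebraMap R S u * x - algebraMap R S c * y ∈ P := by
    intro x hx
    obtain ⟨x₁, hx₁, x₂, hx₂, rfl⟩ := Submodule.mem_sup.mp hx
    suffices ∃ u c : R, ∃ y : S, u ∉ q ∧ c ∈ r ∧ algebraMap R S u * x₂ - algebraMap R S c * y ∈ P by
      obtain ⟨u, c, y, hu, hc, hy⟩ := this
      refine ⟨u, c, y, hu, hc, ?_⟩
      rw [mul_add, add_sub_assoc]
      exact add_mem (P.mul_mem_left _ hx₁) hy
    clear hx₁ hx
    rw [Ideal.map, ← Ideal.submodule_span_eq] at hx₂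
    induction hx₂ using Submodule.span_induction with
    | mem z hz =>
      obtain ⟨c, hc, rfl⟩ := hz
      exact ⟨1, c, 1, Ideal.IsPrime.one_notMem inferInstance, hc, by simp⟩
    | zero => exact ⟨1, 0, 0, Ideal.IsPrime.one_notMem inferInstance, zero_mem _, by simp⟩
    | smul z x _ ih =>
      obtain ⟨u, c, y, hu, hc, hy⟩ := ih
      refine ⟨u, c, z * y, hu, hc, ?_⟩
      have := P.mul_mem_left z hy
      rw [smul_eq_mul]
      convert this using 1
      ring
    | add x x' _ _ ih ih' =>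
      obtain ⟨u, c, y, hu, hc, hy⟩ := ih
      obtain ⟨u', c', y', hu', hc', hy'⟩ := ih'
      have hmul : ∀ {a b c : R}, a ∉ q → b ∉ q → c ∉ q → a * b * c ∉ q := fun ha hb hc h0 =>
        ((Ideal.IsPrime.mem_or_mem inferInstance h0).elim
          (fun h1 => (Ideal.IsPrime.mem_or_mem inferInstance h1).elim ha hb) hc)
      rcases dvd'_total hR q c c' with ⟨w, e, hw, hwe⟩ | ⟨w, e, hw, hwe⟩
      · refine ⟨w * u * u', c, algebraMap R S (w * u') * y + algebraMap R S (e * u) * y', hmul hw hu hu', hc, ?_⟩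
        have hwe' := congrArg (algebraMap R S) hwe
        simp only [map_mul] at hwe' ⊢
        have := add_mem (P.mul_mem_left (algebraMap R S w * algebraMap R S u') hy)
          (P.mul_mem_left (algebraMap R S w * algebraMap R S u) hy')
        convert this using 1
        linear_combination (algebraMap R S u * y') * hwe'
      · refine ⟨w * u * u', c', algebraMap R S (e * u') * y + algebraMap R S (w * u) * y', hmul hw hu hu', hc', ?_⟩
        have hwe' := congrArg (algebraMap R S) hwe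
        simp only [map_mul] at hwe' ⊢
        have := add_mem (P.mul_mem_left (algebraMap R S w * algebraMap R S u') hy)
          (P.mul_mem_left (algebraMap R S w * algebraMap R S u) hy')
        convert this using 1
        linear_combination (algebraMap R S u' * y) * hwe'
  have hdisj : Disjoint (J : Set S) (T : Set S) := by
    rw [Set.disjoint_left]
    rintro _ hxJ ⟨s, t, hs, ht, rfl⟩
    obtain ⟨u, c, y, hu, hc, hy⟩ := hJ _ hxJ
    have hus : u * s ∉ r := fun h0 => (Ideal.IsPrime.mem_or_mem ‹_› h0).elim (fun h3 => hu (h₂ h3)) hs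
    have husp : u * s ∉ P.under R := fun h0 => hus (h₁.le h0)
    rcases dvd'_total hR q c (u * s) with ⟨w, e, hw, hwe⟩ | ⟨w, e, hw, hwe⟩
    · have hm : w * (u * s) ∈ r := hwe ▸ Ideal.mul_mem_left _ _ hc
      exact (Ideal.IsPrime.mem_or_mem ‹_› hm).elim (fun h3 => hw (h₂ h3)) hus
    · have he : e ∈ r := by
        have : e * (u * s) ∈ r := hwe ▸ Ideal.mul_mem_left _ _ hc
        exact (Ideal.IsPrime.mem_or_mem ‹_› this).resolve_right hus
      have hkey : algebraMap R S (u * s) * (algebraMap R S w * t - algebraMap R S e * y) ∈ P := by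
        have h3 := P.mul_mem_left (algebraMap R S w) hy
        have hwe' := congrArg (algebraMap R S) hwe
        simp only [map_mul] at hwe' ⊢
        convert h3 using 1
        linear_combination y * hwe'
      have h4 := h ((Ideal.IsPrime.mem_or_mem ‹P.IsPrime› hkey).resolve_left husp)
      have h5 : algebraMap R S w * t ∈ Q := by
        have := add_mem h4 (Q.mul_mem_right y (h₂ he : algebraMap R S e ∈ Q))
        simpa using this
      exact (Ideal.IsPrime.mem_or_mem ‹Q.IsPrime› h5).elim hw ht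
  obtain ⟨Q', hQ', hJQ, hd⟩ := Ideal.exists_le_prime_disjoint J T hdisj
  rw [Set.disjoint_left] at hd
  refine ⟨Q', hQ', le_sup_left.trans hJQ, fun x hx => ?_, le_antisymm (fun s hs => ?_) ?_⟩
  · by_contra hxQ
    exact hd hx ⟨1, x, Ideal.IsPrime.one_notMem ‹_›, hxQ, by simp⟩
  · by_contra hsr
    exact hd (hs : algebraMap R S s ∈ Q') ⟨s, 1, hsr, Ideal.IsPrime.one_notMem ‹_›, by simp⟩
  · exact Ideal.map_le_iff_le_comap.mp (le_sup_right.trans hJQ)

theorem td_le_of_covBy_of_lt {P Q : PrimeSpectrum S} (h : P ⋖ Q)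
    (hpq : P.asIdeal.under R ≠ Q.asIdeal.under R) : td R P.asIdeal ≤ td R Q.asIdeal := by
  classical
  let q : PrimeSpectrum R := ⟨Q.asIdeal.under R, inferInstance⟩
  let e := PrimeSpectrum.preimageOrderIsoFiber R S q
  haveI : IsNoetherianRing (q.asIdeal.Fiber S) :=
    Algebra.FiniteType.isNoetherianRing q.asIdeal.ResidueField _
  haveI : IsJacobsonRing (q.asIdeal.Fiber S) :=
    isJacobsonRing_of_finiteType (A := q.asIdeal.ResidueField)
  have hQmin : ∀ z : PrimeSpectrum S, P ≤ z → z ≤ Q → z.asIdeal.under R = q.asIdeal → z = Q := by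
    intro z h1 h2 h3
    rcases h.eq_or_eq h1 h2 with rfl | rfl
    · exact absurd h3 hpq
    · rfl
  -- choose an element cutting out the component of `Q`
  let incl : S →+* q.asIdeal.Fiber S := Algebra.TensorProduct.includeRight.toRingHom
  have hmem : ∀ (z : PrimeSpectrum S) (hz : z.comap (algebraMap R S) = q) (x : S),
      incl x ∈ (e ⟨z, hz⟩).asIdeal ↔ x ∈ z.asIdeal := fun z hz x => by
    refine (mem_iff_fibre q.asIdeal (e ⟨z, hz⟩) x).symm.trans ?_
    show x ∈ ((e.symm (e ⟨z, hz⟩)).1).asIdeal ↔ _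
    rw [OrderIso.symm_apply_apply]
  let J₀ : Ideal (q.asIdeal.Fiber S) := P.asIdeal.map incl
  have hmem' : ∀ (J : PrimeSpectrum (q.asIdeal.Fiber S)) (x : S),
      incl x ∈ J.asIdeal ↔ x ∈ (e.symm J).1.asIdeal := fun J x => (mem_iff_fibre q.asIdeal J x).symm
  have hfin := Ideal.finite_minimalPrimes_of_isNoetherianRing _ J₀
  haveI := hfin.to_subtype
  let comp : J₀.minimalPrimes → PrimeSpectrum S := fun J => (e.symm ⟨J.1, J.2.1.1⟩).1
  have hcompP : ∀ J, P ≤ comp J := fun J x hx =>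
    (hmem' ⟨J.1, J.2.1.1⟩ x).mp (J.2.1.2 (Ideal.mem_map_of_mem incl hx))
  choose! g hg hgQ using fun (z : PrimeSpectrum S) (hz : ¬ z ≤ Q) => Set.not_subset.mp hz
  letI := Fintype.ofFinite J₀.minimalPrimes
  let G : S := ∏ J ∈ Finset.univ.filter (fun J => ¬ comp J ≤ Q), g (comp J)
  have hGQ : G ∉ Q.asIdeal := fun h0 => by
    obtain ⟨z, hz, hzQ⟩ := (Ideal.IsPrime.prod_mem_iff (p := Q.asIdeal)).mp h0
    exact hgQ _ (Finset.mem_filter.mp hz).2 hzQ
  have hcomp : ∀ z : PrimeSpectrum S, P ≤ z → z.comap (algebraMap R S) = q → G ∉ z.asIdeal → Q ≤ z := by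
    intro z hPz hz hGz
    obtain ⟨J, hJ, hJle⟩ := Ideal.exists_minimalPrimes_le (I := J₀) (J := (e ⟨z, hz⟩).asIdeal)
      (Ideal.map_le_iff_le_comap.mpr fun x hx => (hmem z hz x).mpr (hPz hx))
    have hle : comp ⟨J, hJ⟩ ≤ z := fun x hx => (hmem z hz x).mp (hJle ((hmem' ⟨J, hJ.1.1⟩ x).mpr hx))
    by_cases hn : comp ⟨J, hJ⟩ ≤ Q
    · exact (hQmin _ (hcompP _) hn (congrArg PrimeSpectrum.asIdeal (e.symm ⟨J, hJ.1.1⟩).2)).ge.trans hle
    · exact absurd (hle ((Ideal.IsPrime.prod_mem_iff (p := (comp ⟨J, hJ⟩).asIdeal)).mpr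
        ⟨⟨J, hJ⟩, Finset.mem_filter.mpr ⟨Finset.mem_univ _, hn⟩, hg _ hn⟩)) hGz
  -- a maximal point of the fibre on that component only
  obtain ⟨M, hQM, hM, hGM⟩ : ∃ M : Ideal (q.asIdeal.Fiber S),
      (e ⟨Q, rfl⟩).asIdeal ≤ M ∧ M.IsMaximal ∧ incl G ∉ M := by
    have hj : (e ⟨Q, rfl⟩).asIdeal.jacobson = (e ⟨Q, rfl⟩).asIdeal :=
      IsJacobsonRing.out inferInstance (e ⟨Q, rfl⟩).isPrime.isRadical
    have hnot : incl G ∉ (e ⟨Q, rfl⟩).asIdeal.jacobson := by
      rw [hj, hmem]
      exact hGQ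
    rw [Ideal.jacobson, Submodule.mem_sInf] at hnot
    push Not at hnot
    obtain ⟨M, ⟨h1, h2⟩, h3⟩ := hnot
    exact ⟨M, h1, h2, h3⟩
  let m := (e.symm ⟨M, hM.isPrime⟩).1
  have hm : m.comap (algebraMap R S) = q := (e.symm ⟨M, hM.isPrime⟩).2
  have hQm : Q ≤ m := fun x hx => (hmem' ⟨M, hM.isPrime⟩ x).mp (hQM ((hmem Q rfl x).mpr hx))
  have hGm : G ∉ m.asIdeal := fun h0 => hGM ((hmem' ⟨M, hM.isPrime⟩ G).mpr h0)
  obtain ⟨l, hl, hhead, hfib⟩ := exists_chain P (le_refl (td R P.asIdeal))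
  rw [← hl]
  let ι := Ideal.primeSpectrumQuotientOrderIsoZeroLocus P.asIdeal
  have hPm : m ∈ PrimeSpectrum.zeroLocus (R := S) P.asIdeal := h.le.trans hQm
  have hzl : ∀ i, l i ∈ PrimeSpectrum.zeroLocus (R := S) P.asIdeal := fun i =>
    show P ≤ l i from hhead ▸ l.monotone (Fin.zero_le i)
  let m' := ι.symm ⟨m, hPm⟩
  have hunder : ∀ x : PrimeSpectrum (S ⧸ P.asIdeal),
      x.asIdeal.comap (algebraMap R (S ⧸ P.asIdeal)) = (ι x).1.asIdeal.under R := fun x => rfl
  have hm' : (ι m').1 = m := congrArg Subtype.val (ι.apply_symm_apply _)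
  refine FibSemi.length_le_of_chain (A := R) m'.asIdeal (d := td R Q.asIdeal) ?_ ?_
    (LTSeries.mk l.length (fun i => ι.symm ⟨l i, hzl i⟩) fun i j hij =>
      ι.symm.strictMono (show (⟨l i, hzl i⟩ : PrimeSpectrum.zeroLocus (R := S) P.asIdeal) < ⟨l j, hzl j⟩
        from l.strictMono hij)) ?_ ?_
  · intro x hx hle hfx
    have hxq : (ι ⟨x, hx⟩).1.comap (algebraMap R S) = q := PrimeSpectrum.ext
      ((hunder ⟨x, hx⟩).symm.trans (hfx.trans ((hunder m').trans (by rw [hm']; exact congrArg PrimeSpectrum.asIdeal hm))))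
    have h1 : m ≤ (ι ⟨x, hx⟩).1 := hm' ▸ (ι.monotone (show m' ≤ ⟨x, hx⟩ from hle))
    have h2 : (⟨M, hM.isPrime⟩ : PrimeSpectrum (q.asIdeal.Fiber S)) ≤ e ⟨_, hxq⟩ := by
      rw [← e.apply_symm_apply ⟨M, hM.isPrime⟩]
      exact e.monotone h1
    have h3 : (⟨M, hM.isPrime⟩ : PrimeSpectrum (q.asIdeal.Fiber S)) = e ⟨_, hxq⟩ :=
      PrimeSpectrum.ext (hM.eq_of_le (e ⟨_, hxq⟩).isPrime.ne_top h2)
    have h4 : (ι ⟨x, hx⟩).1 = m := congrArg Subtype.val ((e.symm_apply_eq).mpr h3).symm
    have h5 : ι ⟨x, hx⟩ = ι m' := Subtype.ext (h4.trans hm'.symm)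
    exact congrArg PrimeSpectrum.asIdeal (ι.injective h5)
  · intro l' hl' hlast
    have hq' : ∀ i, (ι (l' i)).1.asIdeal.under R = Q.asIdeal.under R := fun i =>
      (hunder _).symm.trans ((hl' i).trans ((hunder m').trans (by rw [hm']; exact congrArg PrimeSpectrum.asIdeal hm)))
    refine length_le_td (R := R) Q (l'.map (fun x => (ι x).1) fun a b hab => ι.strictMono hab) ?_ hq'
    refine hcomp _ (ι l'.head).2 (PrimeSpectrum.ext (hq' 0)) fun h0 => hGm ?_
    have h1 : (ι l'.head).1 ≤ m := by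
      rw [← hm']
      exact ι.monotone (show l'.head ≤ m' from (PrimeSpectrum.ext hlast : l'.last = m') ▸ l'.head_le_last)
    exact h1 h0
  · show (ι.symm ⟨l.head, hzl 0⟩).asIdeal = ⊥
    rw [eq_bot_iff]
    intro x hx
    obtain ⟨x, rfl⟩ := Ideal.Quotient.mk_surjective x
    have h1 : x ∈ (ι (ι.symm ⟨l.head, hzl 0⟩)).1.asIdeal := hx
    rw [ι.apply_symm_apply] at h1
    exact Ideal.Quotient.eq_zero_iff_mem.mpr (hhead ▸ (show x ∈ l.head.asIdeal from h1))
  · intro i
    show (ι.symm ⟨l i, hzl i⟩).asIdeal.comap (algebraMap R (S ⧸ P.asIdeal)) =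
      RingHom.ker (algebraMap R (S ⧸ P.asIdeal))
    rw [hunder, ι.apply_symm_apply, hfib i]
    refine Ideal.ext fun r => Ideal.mem_comap.trans ?_
    exact (Ideal.Quotient.eq_zero_iff_mem).symm.trans RingHom.mem_ker.symm

omit [Algebra.FiniteType R S] in
include hR in
theorem le_or_le_of_le (q : Ideal R) [q.IsPrime] (x y : Ideal R) [x.IsPrime] [y.IsPrime]
    (hx : x ≤ q) (hy : y ≤ q) : x ≤ y ∨ y ≤ x := by
  by_contra! h
  obtain ⟨a, hax, hay⟩ := Set.not_subset.mp h.1
  obtain ⟨b, hby, hbx⟩ := Set.not_subset.mp h.2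
  rcases dvd'_total hR q a b with ⟨w, e, hw, hwe⟩ | ⟨w, e, hw, hwe⟩
  · have : w * b ∈ x := hwe ▸ Ideal.mul_mem_left _ _ hax
    exact (Ideal.IsPrime.mem_or_mem ‹_› this).elim (fun h0 => hw (hx h0)) hbx
  · have : w * a ∈ y := hwe ▸ Ideal.mul_mem_left _ _ hby
    exact (Ideal.IsPrime.mem_or_mem ‹_› this).elim (fun h0 => hw (hy h0)) hay

omit [Algebra.FiniteType R S] in
theorem height_ne_top (hdim : ringKrullDim R < ⊤) (p : PrimeSpectrum R) : p.asIdeal.height ≠ ⊤ := by
  intro h
  have h1 := Ideal.height_le_ringKrullDim_of_isPrime (I := p.asIdeal)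
  rw [h] at h1
  exact absurd h1 (not_le.mpr hdim)

omit [Algebra.FiniteType R S] in
theorem height_toNat_lt (hdim : ringKrullDim R < ⊤) {p q : PrimeSpectrum R} (h : p < q) :
    p.asIdeal.height.toNat + 1 ≤ q.asIdeal.height.toNat := by
  have h1 := Order.height_add_one_le h
  rw [← PrimeSpectrum.height_eq_orderHeight, ← PrimeSpectrum.height_eq_orderHeight] at h1
  obtain ⟨a, ha⟩ := ENat.ne_top_iff_exists.mp (height_ne_top hdim p)
  obtain ⟨b, hb⟩ := ENat.ne_top_iff_exists.mp (height_ne_top hdim q)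
  rw [← ha, ← hb] at h1 ⊢
  norm_cast at h1 ⊢

include hR in
theorem height_covBy (hdim : ringKrullDim R < ⊤) {P Q : PrimeSpectrum S} (h : P ⋖ Q)
    (hpq : P.asIdeal.under R ≠ Q.asIdeal.under R) :
    (Q.asIdeal.under R).height.toNat = (P.asIdeal.under R).height.toNat + 1 := by
  let p : PrimeSpectrum R := ⟨P.asIdeal.under R, inferInstance⟩
  let q : PrimeSpectrum R := ⟨Q.asIdeal.under R, inferInstance⟩
  have hlt : p < q := lt_of_le_of_ne (show p.asIdeal ≤ q.asIdeal from Ideal.comap_mono h.le)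
    fun h0 => hpq (congrArg PrimeSpectrum.asIdeal h0)
  show q.asIdeal.height.toNat = p.asIdeal.height.toNat + 1
  refine le_antisymm ?_ (height_toNat_lt hdim hlt)
  have hle : Order.height q ≤ Order.height p + 1 := by
    rw [Order.height_eq_iSup_lt_height q]
    refine iSup₂_le fun y hy => ?_
    have hyp : y ≤ p := by
      rcases le_or_le_of_le hR q.asIdeal y.asIdeal p.asIdeal hy.le hlt.le with h1 | h1
      · exact h1
      · rcases eq_or_lt_of_le (show p ≤ y from h1) with rfl | h2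
        · exact le_rfl
        · obtain ⟨Q', hQ', hPQ', hQ'Q, hQ'r⟩ :=
            exists_prime_between hR P.asIdeal Q.asIdeal h.le y.asIdeal h2 hy.le
          rcases h.eq_or_eq (c := ⟨Q', hQ'⟩) hPQ' hQ'Q with h3 | h3
          · exact absurd (hQ'r.symm.trans (congrArg (fun z => Ideal.under R z.asIdeal) h3))
              (fun h4 => h2.ne (PrimeSpectrum.ext h4.symm))
          · exact absurd (hQ'r.symm.trans (congrArg (fun z => Ideal.under R z.asIdeal) h3))
              (fun h4 => hy.ne (PrimeSpectrum.ext h4))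
    exact add_le_add_left (Order.height_mono hyp) 1
  rw [← PrimeSpectrum.height_eq_orderHeight, ← PrimeSpectrum.height_eq_orderHeight] at hle
  obtain ⟨a, ha⟩ := ENat.ne_top_iff_exists.mp (height_ne_top hdim p)
  obtain ⟨b, hb⟩ := ENat.ne_top_iff_exists.mp (height_ne_top hdim q)
  rw [← ha, ← hb] at hle ⊢
  norm_cast at hle ⊢

include hR in
theorem delta_lt (hdim : ringKrullDim R < ⊤) {P Q : PrimeSpectrum S} (h : P < Q) :
    delta R Q.asIdeal < delta R P.asIdeal := by
  by_cases hpq : P.asIdeal.under R = Q.asIdeal.under R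
  · have := td_add_one_le h hpq
    simp only [delta, hpq]
    omega
  · have h1 := td_le_of_le hR P.asIdeal Q.asIdeal h.le
    have h2 := height_toNat_lt hdim (p := ⟨P.asIdeal.under R, inferInstance⟩) (q := ⟨Q.asIdeal.under R, inferInstance⟩)
      (lt_of_le_of_ne (show P.asIdeal.under R ≤ Q.asIdeal.under R from Ideal.comap_mono h.le)
        fun h0 => hpq (congrArg PrimeSpectrum.asIdeal h0))
    change (P.asIdeal.under R).height.toNat + 1 ≤ (Q.asIdeal.under R).height.toNat at h2
    simp only [delta]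
    omega

include hR in
theorem delta_covBy (hdim : ringKrullDim R < ⊤) {P Q : PrimeSpectrum S} (h : P ⋖ Q) :
    delta R P.asIdeal = delta R Q.asIdeal + 1 := by
  by_cases hpq : P.asIdeal.under R = Q.asIdeal.under R
  · have := td_covBy h hpq
    simp only [delta, hpq]
    omega
  · have h1 := td_le_of_le hR P.asIdeal Q.asIdeal h.le
    have h2 := td_le_of_covBy_of_lt h hpq
    have h3 := height_covBy hR hdim h hpq
    simp only [delta]
    omega

include hR in
theorem covBy_iff (hdim : ringKrullDim R < ⊤) {P Q : PrimeSpectrum S} (h : P < Q) :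
    P ⋖ Q ↔ delta R P.asIdeal = delta R Q.asIdeal + 1 := by
  refine ⟨delta_covBy hR hdim, fun heq => ⟨h, fun z h1 h2 => ?_⟩⟩
  have := delta_lt hR hdim h1
  have := delta_lt hR hdim h2
  omega

include hR in
theorem length_add_le (hdim : ringKrullDim R < ⊤) (l : LTSeries (PrimeSpectrum S)) (i : Fin (l.length + 1)) :
    delta R (l i).asIdeal + i.val ≤ delta R l.head.asIdeal := by
  induction i using Fin.induction with
  | zero => simp [RelSeries.head]
  | succ i ih =>
    have := delta_lt hR hdim (l.step i)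
    simp only [Fin.val_castSucc, Fin.val_succ] at ih ⊢
    push_cast
    omega

include hR in
theorem length_eq_of_saturated (hdim : ringKrullDim R < ⊤) (l : LTSeries (PrimeSpectrum S))
    (hl : ∀ i : Fin l.length, l (Fin.castSucc i) ⋖ l (Fin.succ i)) (i : Fin (l.length + 1)) :
    delta R (l i).asIdeal + i.val = delta R l.head.asIdeal := by
  induction i using Fin.induction with
  | zero => simp [RelSeries.head]
  | succ i ih =>
    have := delta_covBy hR hdim (hl i)
    simp only [Fin.val_castSucc, Fin.val_succ] at ih ⊢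
    push_cast
    omega

include hR in
theorem exists_length_bound (hdim : ringKrullDim R < ⊤) :
    ∃ B : ℕ, ∀ l : LTSeries (PrimeSpectrum S), l.length ≤ B := by
  obtain ⟨N, hN⟩ := exists_bound (R := R) (S := S)
  obtain ⟨D, hD⟩ : ∃ D : ℕ, ∀ p : PrimeSpectrum R, p.asIdeal.height.toNat ≤ D := by
    have hne : ringKrullDim R ≠ ⊥ := fun h0 => by
      have h1 : (0 : WithBot ℕ∞) ≤ ringKrullDim R := ringKrullDim_nonneg_of_nontrivial
      rw [h0] at h1
      exact absurd h1 (by simp)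
    obtain ⟨d, hd⟩ := WithBot.ne_bot_iff_exists.mp hne
    have hdt : d ≠ ⊤ := fun h0 => by rw [← hd, h0] at hdim; exact lt_irrefl _ hdim
    obtain ⟨D, rfl⟩ := ENat.ne_top_iff_exists.mp hdt
    refine ⟨D, fun p => ENat.toNat_le_of_le_coe ?_⟩
    have := Ideal.height_le_ringKrullDim_of_isPrime (I := p.asIdeal)
    rw [← hd] at this
    exact_mod_cast this
  refine ⟨N + D, fun l => ?_⟩
  have h1 := length_add_le hR hdim l (Fin.last _)
  have h2 := hN l.head.asIdeal
  have h3 := hD ⟨(l (Fin.last _)).asIdeal.under R, inferInstance⟩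
  simp only [delta, Fin.val_last] at h1
  change ((l (Fin.last _)).asIdeal.under R).height.toNat ≤ D at h3
  omega

end Prufer

end Groth.Agent.EtStruct.PruferDim
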