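import Mathlib

/-! Spectrum of a semilocal Prüfer domain of finite dimension is finite; finite type algebras over
rings with finite spectrum have Noetherian spectra. -/

universe u v

open PrimeSpectrum

namespace Groth.Agent.EtStruct

theorem finite_primeSpectrum_of_semilocal_prufer (R : Type u) [CommRing R] [IsDomain R]
    (hR : ∀ (p : Ideal R) [p.IsPrime], ValuationRing (Localization.AtPrime p))
    (hfin : Finite (MaximalSpectrum R)) (hdim : ringKrullDim R < ⊤) : Finite (PrimeSpectrum R) := by
  haveI := hfin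
  have hm : ∀ p : PrimeSpectrum R, ∃ m : MaximalSpectrum R, p.asIdeal ≤ m.asIdeal := fun p => by
    obtain ⟨m, hm, hle⟩ := Ideal.exists_le_maximal p.asIdeal p.2.ne_top
    exact ⟨⟨m, hm⟩, hle⟩
  choose m hm using hm
  obtain ⟨d, hd⟩ : ∃ d : ℕ, ∀ p : PrimeSpectrum R, Order.height p ≤ (d : ℕ∞) := by
    obtain ⟨d, hd⟩ : ∃ d : ℕ, ringKrullDim R ≤ (d : WithBot ℕ∞) := by
      cases hc : ringKrullDim R with
      | bot => exact ⟨0, bot_le⟩
      | coe a =>
        cases a with
        | top => exact absurd hc hdim.ne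
        | coe a => exact ⟨a, le_rfl⟩
    exact ⟨d, fun p => WithBot.coe_le_coe.mp ((Order.height_le_krullDim p).trans hd)⟩
  let g : PrimeSpectrum R → MaximalSpectrum R × Fin (d + 1) := fun p =>
    (m p, ⟨(Order.height p).toNat, Nat.lt_succ_of_le (ENat.toNat_le_of_le_natCast (hd p))⟩)
  refine Finite.of_injective g fun p q hpq => ?_
  obtain ⟨h1, h2⟩ := Prod.mk.injEq .. ▸ hpq
  have hh : (Order.height p).toNat = (Order.height q).toNat := congrArg Fin.val h2
  have hfinh : ∀ p : PrimeSpectrum R, Order.height p < ⊤ := fun p => (hd p).trans_lt (ENat.natCast_lt_top d)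
  have hh' : Order.height p = Order.height q := by
    rw [← ENat.coe_toNat (hfinh p).ne, ← ENat.coe_toNat (hfinh q).ne, hh]
  haveI := (m p).isMaximal.isPrime
  haveI := hR (m p).asIdeal
  have hq : q.asIdeal ≤ (m p).asIdeal := by rw [show m p = m q from h1]; exact hm q
  let e := IsLocalization.AtPrime.primeSpectrumOrderIso (Localization.AtPrime (m p).asIdeal) (m p).asIdeal
  rcases (inferInstance : @Std.Total (Ideal (Localization.AtPrime (m p).asIdeal)) (· ≤ ·)).total (e.symm ⟨p, hm p⟩).asIdeal (e.symm ⟨q, hq⟩).asIdeal with h | h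
  · rcases eq_or_lt_of_le (show p ≤ q from e.symm.le_iff_le.mp h) with h' | h'
    · exact h'
    · exact absurd hh' (Order.height_strictMono h' (hfinh p)).ne
  · rcases eq_or_lt_of_le (show q ≤ p from e.symm.le_iff_le.mp h) with h' | h'
    · exact h'.symm
    · exact absurd hh'.symm (Order.height_strictMono h' (hfinh q)).ne

theorem noetherianSpace_of_finite_primeSpectrum (R : Type u) [CommRing R] [Finite (PrimeSpectrum R)]
    (S : Type v) [CommRing S] [Algebra R S] [Algebra.FiniteType R S] :
    TopologicalSpace.NoetherianSpace (PrimeSpectrum S) := by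
  haveI : ∀ p : PrimeSpectrum R, TopologicalSpace.NoetherianSpace (comap (algebraMap R S) ⁻¹' {p}) := fun p => by
    haveI : IsNoetherianRing (p.asIdeal.Fiber S) := Algebra.FiniteType.isNoetherianRing p.asIdeal.ResidueField _
    exact (TopologicalSpace.noetherianSpace_iff_of_homeomorph (PrimeSpectrum.preimageHomeomorphFiber R S p)).mpr inferInstance
  rw [← TopologicalSpace.noetherian_univ_iff]
  have huniv : (Set.univ : Set (PrimeSpectrum S)) = ⋃ p : PrimeSpectrum R, comap (algebraMap R S) ⁻¹' {p} := by
    ext x; simp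
  rw [huniv]
  exact TopologicalSpace.NoetherianSpace.iUnion _

end Groth.Agent.EtStruct
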