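import Groth.Agent.EtStruct.LocalImm
import Mathlib.RingTheory.Idempotents
import Mathlib.RingTheory.Spectrum.Prime.Topology

/-!
# Étale localisation splits off unramified points: rings
-/

namespace Groth.Agent.EtStruct

open AlgebraicGeometry CategoryTheory CategoryTheory.Limits TensorProduct

set_option backward.isDefEq.respectTransparency false

universe u

/-- An idempotent whose basic open maps onto a closed subscheme cuts out a quotient of the base. -/
theorem surjective_quotient_of_isClosedImmersion {R' T : Type u} [CommRing R'] [CommRing T]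
    [Algebra R' T] {e : T} (he : IsIdempotentElem e)
    (h : IsClosedImmersion ((show (Spec (CommRingCat.of T)).Opens from PrimeSpectrum.basicOpen e).ι ≫
      Spec.map (CommRingCat.ofHom (algebraMap R' T)))) :
    Function.Surjective (algebraMap R' (T ⧸ Ideal.span {1 - e})) := by
  let A := T ⧸ Ideal.span {1 - e}
  have : IsLocalization.Away e A :=
    IsLocalization.away_of_isIdempotentElem he (Ideal.mk_ker) Ideal.Quotient.mk_surjective
  let j : Spec (CommRingCat.of A) ⟶ Spec (CommRingCat.of T) :=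
    Spec.map (CommRingCat.ofHom (algebraMap T A))
  have : IsOpenImmersion j := IsOpenImmersion.of_isLocalization e
  have hr : j.opensRange = (show (Spec (CommRingCat.of T)).Opens from PrimeSpectrum.basicOpen e) :=
    TopologicalSpace.Opens.ext (PrimeSpectrum.localization_away_comap_range A e)
  rw [← hr, ← MorphismProperty.cancel_left_of_respectsIso @IsClosedImmersion
    j.isoOpensRange.hom, Scheme.Hom.isoOpensRange_hom_ι_assoc, ← Spec.map_comp] at h
  exact Groth.Agent.GenFinite.surjective_of_isClosedImmersion_SpecMap _ h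

/-- After an étale extension of the base, the unramified primes `q i` over `p` split off as
quotients of the base. -/
theorem exists_etale_decomposition (R S : Type u) [CommRing R] [CommRing S] [Algebra R S]
    (p : Ideal R) [p.IsPrime] {m : ℕ} (q : Fin m → PrimeSpectrum S)
    (hq : ∀ i, (q i).asIdeal.under R = p)
    (hx : ∀ i, ∃ W : (Spec (CommRingCat.of S)).Opens, q i ∈ W ∧
      LocallyOfFiniteType (W.ι ≫ Spec.map (CommRingCat.ofHom (algebraMap R S))) ∧
      FormallyUnramified (W.ι ≫ Spec.map (CommRingCat.ofHom (algebraMap R S)))) :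
    ∃ (R' : Type u) (_ : CommRing R') (_ : Algebra R R') (_ : Algebra.Etale R R') (p' : Ideal R')
      (_ : p'.IsPrime) (_ : p'.LiesOver p) (n : ℕ) (e : Fin (n + 1) → R' ⊗[R] S)
      (P : Fin n → PrimeSpectrum (R' ⊗[R] S)),
      CompleteOrthogonalIdempotents e ∧
      (∀ k, e k.castSucc ∉ (P k).asIdeal ∧ (P k).asIdeal.under R' = p' ∧
        (∃ i, (P k).asIdeal.comap
          (Algebra.TensorProduct.includeRight : S →ₐ[R] R' ⊗[R] S).toRingHom = (q i).asIdeal) ∧
        Function.Surjective (algebraMap R' ((R' ⊗[R] S) ⧸ Ideal.span {1 - e k.castSucc}))) ∧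
      (∀ Q : PrimeSpectrum (R' ⊗[R] S), Q.asIdeal.under R' = p' → ∀ i,
        Q.asIdeal.comap (Algebra.TensorProduct.includeRight : S →ₐ[R] R' ⊗[R] S).toRingHom =
          (q i).asIdeal → ∃ k, P k = Q) := by
  let f := Spec.map (CommRingCat.ofHom (algebraMap R S))
  have hs : ∀ i, f (q i) = (⟨p, ‹_›⟩ : PrimeSpectrum R) := fun i ↦ PrimeSpectrum.ext (hq i)
  obtain ⟨U, g, u₀, hg, hgu, ⟨D₀⟩⟩ := exists_parts f _ q hs hx
  obtain ⟨D, W, hdis, hWdis, hcov, hW, hclopen, -⟩ := D₀.exists_disjoint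
  obtain ⟨A, j, hj, ⟨u', hu'⟩, -⟩ := Scheme.exists_affine_mem_range_and_range_subset
    (show u₀ ∈ (⊤ : U.Opens) from trivial)
  obtain ⟨φ, hφ⟩ := Spec.map_surjective (j ≫ g)
  let : Algebra R A := φ.hom.toAlgebra
  have hφe : φ = CommRingCat.ofHom (algebraMap R A) := rfl
  have : Algebra.Etale R A := by
    rw [← RingHom.etale_algebraMap, RingHom.algebraMap_toAlgebra]
    rw [← HasRingHomProperty.Spec_iff (P := @Etale), hφ]
    infer_instance
  let g' := Spec.map (CommRingCat.ofHom (algebraMap R A))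
  have hg' : j ≫ g = g' := hφ.symm.trans (congrArg Spec.map hφe)
  let θ : Spec (CommRingCat.of (A ⊗[R] S)) ≅ pullback f g' :=
    (pullbackSpecIso R A S).symm ≪≫ pullbackSymmetry _ _
  have hθ₁ : θ.hom ≫ pullback.fst f g' =
      Spec.map (CommRingCat.ofHom
        (Algebra.TensorProduct.includeRight : S →ₐ[R] A ⊗[R] S).toRingHom) := by
    simp only [θ, f, g', Iso.trans_hom, Iso.symm_hom, Category.assoc, pullbackSymmetry_hom_comp_fst]
    exact pullbackSpecIso_inv_snd ..
  have hθ₂ : θ.hom ≫ pullback.snd f g' =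
      Spec.map (CommRingCat.ofHom (algebraMap A (A ⊗[R] S))) := by
    simp only [θ, f, g', Iso.trans_hom, Iso.symm_hom, Category.assoc, pullbackSymmetry_hom_comp_snd]
    exact pullbackSpecIso_inv_fst ..
  let a := Groth.Agent.Wt.Parts.bcMap f j (g := g) (g' := g') hg'
  have ha := Groth.Agent.Wt.Parts.isPullback_bcMap f j (g := g) (g' := g') hg'
  have : IsOpenImmersion a := MorphismProperty.of_isPullback ha.flip hj
  let b : Spec (CommRingCat.of (A ⊗[R] S)) ⟶ pullback f g := θ.hom ≫ a
  have hbfst : ∀ Q, pullback.fst f g (b Q) =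
      PrimeSpectrum.comap (Algebra.TensorProduct.includeRight : S →ₐ[R] A ⊗[R] S).toRingHom Q := fun Q ↦ by
    show pullback.fst f g (a (θ.hom Q)) = _
    rw [Groth.Agent.Wt.Parts.fst_bcMap]
    exact congrArg (fun m : Spec (CommRingCat.of (A ⊗[R] S)) ⟶ Spec (CommRingCat.of S) ↦ m Q) hθ₁
  have hbsnd : ∀ Q, pullback.snd f g (b Q) = j (PrimeSpectrum.comap (algebraMap A (A ⊗[R] S)) Q) :=
    fun Q ↦ by
    show pullback.snd f g (a (θ.hom Q)) = _
    rw [Groth.Agent.Wt.Parts.snd_bcMap]
    exact congrArg j (congrArg (fun m : Spec (CommRingCat.of (A ⊗[R] S)) ⟶ Spec A ↦ m Q) hθ₂)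
  let C : Fin (D.n + 1) → (pullback f g).Opens := Fin.lastCases W D.V
  have hCcov : ∀ w, ∃ k, w ∈ C k := fun w ↦ by
    have : w ∈ W ⊔ ⨆ k, D.V k := hcov ▸ trivial
    rcases this with h | h
    · exact ⟨Fin.last _, by simpa [C] using h⟩
    · obtain ⟨k, hk⟩ := TopologicalSpace.Opens.mem_iSup.mp h
      exact ⟨k.castSucc, by simpa [C] using hk⟩
  have hCdis : ∀ k l w, w ∈ C k → w ∈ C l → k = l := by
    intro k l w
    induction k using Fin.lastCases with
    | last =>
      induction l using Fin.lastCases with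
      | last => simp
      | cast l =>
        simp only [C, Fin.lastCases_last, Fin.lastCases_castSucc]
        exact fun h h' ↦ ((hWdis l).le_bot ⟨h, h'⟩).elim
    | cast k =>
      induction l using Fin.lastCases with
      | last =>
        simp only [C, Fin.lastCases_last, Fin.lastCases_castSucc]
        exact fun h h' ↦ ((hWdis k).le_bot ⟨h', h⟩).elim
      | cast l =>
        simp only [C, Fin.lastCases_castSucc]
        intro h h'
        by_contra hne
        exact ((hdis k l (fun e ↦ hne (congrArg Fin.castSucc e))).le_bot ⟨h, h'⟩).elim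
  have hclopen' : ∀ k, IsClopen {Q : PrimeSpectrum (A ⊗[R] S) | b Q ∈ C k} := by
    intro k
    refine ⟨?_, (b ⁻¹ᵁ C k).2⟩
    have : {Q : PrimeSpectrum (A ⊗[R] S) | b Q ∈ C k} =
        (⋃ l ∈ ({k}ᶜ : Set _), {Q : PrimeSpectrum (A ⊗[R] S) | b Q ∈ C l})ᶜ := by
      ext Q
      simp only [Set.mem_compl_iff, Set.mem_iUnion, not_exists]
      constructor
      · intro hQ l hl hQl
        exact hl (hCdis l k (b Q) hQl hQ)
      · intro h
        obtain ⟨l, hl⟩ := hCcov (b Q)
        by_contra hQ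
        exact h l (fun e ↦ hQ (Set.mem_singleton_iff.mp e ▸ hl)) hl
    rw [this]
    exact (isOpen_biUnion fun l _ ↦ (b ⁻¹ᵁ C l).2).isClosed_compl
  choose e he heC using fun k ↦ PrimeSpectrum.isClopen_iff.mp (hclopen' k)
  have hmem : ∀ k (Q : PrimeSpectrum (A ⊗[R] S)), e k ∉ Q.asIdeal ↔ b Q ∈ C k := fun k Q ↦
    (Set.ext_iff.mp (heC k) Q).symm
  have horth : ∀ k l, k ≠ l → e k * e l = 0 := by
    intro k l hne
    refine ((he k).mul (he l)).eq_zero_of_isNilpotent ?_
    rw [← mem_nilradical, nilradical_eq_sInf, Ideal.mem_sInf]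
    intro I hI
    by_contra h
    exact hne (hCdis k l _ ((hmem k ⟨I, hI⟩).mp fun h' ↦ h (I.mul_mem_right _ h'))
      ((hmem l ⟨I, hI⟩).mp fun h' ↦ h (I.mul_mem_left _ h')))
  have hcomplete : CompleteOrthogonalIdempotents e := by
    refine ⟨⟨he, horth⟩, ?_⟩
    have hidem := (⟨he, horth⟩ : OrthogonalIdempotents e).isIdempotentElem_sum
      (s := Finset.univ)
    refine ((IsIdempotentElem.iff_eq_one_of_isUnit ?_).mp hidem)
    by_contra hu
    obtain ⟨I, hI, hsI⟩ := exists_max_ideal_of_mem_nonunits hu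
    obtain ⟨k, hk⟩ := hCcov (b ⟨I, hI.isPrime⟩)
    refine (hmem k ⟨I, hI.isPrime⟩).mpr hk ?_
    have : e k * ∑ l, e l = e k := by
      rw [Finset.mul_sum, Finset.sum_eq_single k (fun l _ hl ↦ horth k l hl.symm) (by simp)]
      exact he k
    show e k ∈ I
    rw [← this]
    exact I.mul_mem_left _ hsI
  have hpre : ∀ k, ∃ Q : PrimeSpectrum (A ⊗[R] S), b Q = D.pt k ∧
      PrimeSpectrum.comap (algebraMap A (A ⊗[R] S)) Q = u' := by
    intro k
    obtain ⟨w, h1, h2⟩ := Scheme.Pullback.exists_preimage_pullback (f := pullback.snd f g)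
      (g := j) (D.pt k) u' ((D.snd_eq k).trans hu'.symm)
    refine ⟨θ.inv (ha.isoPullback.inv w), ?_, ?_⟩
    · show (θ.inv ≫ θ.hom ≫ a) (ha.isoPullback.inv w) = _
      rw [Iso.inv_hom_id_assoc]
      exact (congrArg (fun m : pullback (pullback.snd f g) j ⟶ pullback f g ↦ m w)
        ha.isoPullback_inv_fst).trans h1
    · refine (congrArg (fun m : Spec (CommRingCat.of (A ⊗[R] S)) ⟶ Spec A ↦
        m (θ.inv (ha.isoPullback.inv w))) hθ₂).symm.trans ?_
      show (θ.inv ≫ θ.hom ≫ pullback.snd f g') (ha.isoPullback.inv w) = _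
      rw [Iso.inv_hom_id_assoc]
      exact (congrArg (fun m : pullback (pullback.snd f g) j ⟶ Spec A ↦ m w)
        ha.isoPullback_inv_snd).trans h2
  choose P hPb hPu using hpre
  refine ⟨A, inferInstance, inferInstance, inferInstance, u'.asIdeal, u'.isPrime, ?_, D.n, e, P,
    hcomplete, fun k ↦ ⟨?_, congrArg PrimeSpectrum.asIdeal (hPu k), ⟨D.lab k, ?_⟩, ?_⟩,
    fun Q hQ i hQi ↦ ?_⟩
  · refine ⟨?_⟩
    have h1 : g' u' = (⟨p, ‹_›⟩ : PrimeSpectrum R) := by
      rw [← hg', Scheme.Hom.comp_apply]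
      exact (congrArg g hu').trans hgu
    exact (congrArg PrimeSpectrum.asIdeal h1).symm
  · rw [hmem, hPb]
    simpa [C] using D.mem k
  · exact congrArg PrimeSpectrum.asIdeal ((hbfst (P k)).symm.trans (hPb k ▸ D.fst_eq k))
  · refine surjective_quotient_of_isClosedImmersion (he _) ?_
    have h1 : IsClosedImmersion ((a ⁻¹ᵁ D.V k).ι ≫ pullback.snd f g') :=
      MorphismProperty.of_isPullback ((isPullback_morphismRestrict a _).paste_vert ha)
        (D.closedImm k)
    have hopen : (show (Spec (CommRingCat.of (A ⊗[R] S))).Opens from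
        PrimeSpectrum.basicOpen (e k.castSucc)) = θ.hom ⁻¹ᵁ (a ⁻¹ᵁ D.V k) := by
      apply TopologicalSpace.Opens.ext
      rw [show D.V k = C k.castSucc by simp [C]]
      exact (heC k.castSucc).symm
    rw [hopen]
    have h2 : IsClosedImmersion ((θ.hom ∣_ (a ⁻¹ᵁ D.V k)) ≫ (a ⁻¹ᵁ D.V k).ι ≫ pullback.snd f g') :=
      inferInstance
    rw [morphismRestrict_ι_assoc, hθ₂] at h2
    exact h2
  · obtain ⟨k, hk⟩ := D.cover (b Q) i
      (by rw [hbsnd, show PrimeSpectrum.comap (algebraMap A (A ⊗[R] S)) Q = u' from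
        PrimeSpectrum.ext hQ, hu'])
      ((hbfst Q).trans (PrimeSpectrum.ext hQi))
    refine ⟨k, b.isOpenEmbedding.injective ?_⟩
    rw [hPb, hk]

end Groth.Agent.EtStruct

namespace Groth.Agent.EtStruct

/-- Product decomposition by complete orthogonal idempotents, splitting off the last factor. -/
theorem exists_algEquiv_pi_prod {A T : Type*} [CommRing A] [CommRing T] [Algebra A T] {n : ℕ}
    (e : Fin (n + 1) → T) (he : CompleteOrthogonalIdempotents e) :
    ∃ E : T ≃ₐ[A] ((∀ k : Fin n, T ⧸ Ideal.span {1 - e k.castSucc}) ×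
        (T ⧸ Ideal.span {1 - e (Fin.last n)})),
      ∀ t, (E t).2 = Ideal.Quotient.mk _ t ∧ ∀ k, (E t).1 k = Ideal.Quotient.mk _ t := by
  let φ : T →ₐ[A] ((∀ k : Fin n, T ⧸ Ideal.span {1 - e k.castSucc}) ×
      (T ⧸ Ideal.span {1 - e (Fin.last n)})) :=
    (AlgHom.pi fun k ↦ Ideal.Quotient.mkₐ A _).prod (Ideal.Quotient.mkₐ A _)
  refine ⟨AlgEquiv.ofBijective φ ⟨fun x y h ↦ he.bijective_pi.1 (funext fun k ↦ ?_), fun v ↦ ?_⟩,
    fun t ↦ ⟨rfl, fun k ↦ rfl⟩⟩
  · induction k using Fin.lastCases with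
    | last => exact congrArg Prod.snd h
    | cast k => exact congrFun (congrArg Prod.fst h) k
  · obtain ⟨t, ht⟩ := he.bijective_pi.2 (Fin.lastCases
      (motive := fun k ↦ T ⧸ Ideal.span {1 - e k}) v.2 v.1)
    refine ⟨t, Prod.ext (funext fun k ↦ ?_) ?_⟩
    · exact (congrFun ht k.castSucc).trans (Fin.lastCases_castSucc _)
    · exact (congrFun ht (Fin.last n)).trans Fin.lastCases_last

/-- A prime lying over `p'` with surjective structure map is generated by `p'`. -/
theorem map_eq_of_surjective {A B : Type*} [CommRing A] [CommRing B] [Algebra A B]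
    (h : Function.Surjective (algebraMap A B)) (P : Ideal B) (p : Ideal A)
    (hP : P.comap (algebraMap A B) = p) : p.map (algebraMap A B) = P := by
  rw [← hP, Ideal.map_comap_of_surjective _ h]

end Groth.Agent.EtStruct
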