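import Groth.Agent.CAlg76.ValHeight
import Mathlib

/-! Intersections of finitely many valuation subrings (with a subfield) are semilocal Prüfer domains. -/

universe u v w

namespace Groth.Agent.EtStruct.SemiVal

variable {L : Type u} [Field L]

/-- Finitely many valuations: a partition of unity `∑ z x ^ j = 1` with integral terms. -/
theorem exists_partition {ι : Type w} [Finite ι] (V : ι → ValuationSubring L) (x : L) :
    ∃ (n : ℕ) (z : L), z ≠ 0 ∧ (∀ j < n, ∀ i, z * x ^ j ∈ V i) ∧ ∑ j ∈ Finset.range n, z * x ^ j = 1 ∧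
      (∀ K : Subfield L, x ∈ K → z ∈ K) ∧ 2 ≤ n := by
  classical
  let W : Option ι → ValuationSubring L := fun o => o.elim ⊤ V
  haveI := Fintype.ofFinite ι
  let bad : Finset ℕ := (Finset.univ : Finset (Option ι)).biUnion fun i =>
    if h : x ∈ W i then {ringChar (IsLocalRing.ResidueField (W i)), orderOf (IsLocalRing.residue (W i) ⟨x, h⟩)} else ∅
  obtain ⟨n, hn, hp⟩ := Nat.exists_infinite_primes (bad.sup id + 1)
  have hnb : n ∉ bad := fun h => absurd (Finset.le_sup (f := id) h) (by simp only [id]; omega)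
  set f : L := ∑ j ∈ Finset.range n, x ^ j with hf
  have hval : ∀ i, ∀ j < n, (W i).valuation (x ^ j) ≤ (W i).valuation f ∧ 0 < (W i).valuation f := by
    intro i j hj
    by_cases hx : x ∈ W i
    · have hu : IsUnit (∑ j ∈ Finset.range n, (⟨x, hx⟩ : W i) ^ j) := by
        rw [← IsLocalRing.residue_ne_zero_iff_isUnit, map_sum]
        simp only [map_pow]
        set a := IsLocalRing.residue (W i) ⟨x, hx⟩ with ha
        intro h0
        refine hnb (Finset.mem_biUnion.mpr ⟨i, Finset.mem_univ i, ?_⟩)
        rw [dif_pos hx, Finset.mem_insert, Finset.mem_singleton]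
        by_cases h1 : a = 1
        · left
          simp only [h1, one_pow, Finset.sum_const, Finset.card_range, nsmul_eq_mul, mul_one] at h0
          have := (ringChar.spec (IsLocalRing.ResidueField (W i)) n).mp h0
          rcases hp.eq_one_or_self_of_dvd _ this with h | h
          · exact absurd h (CharP.ringChar_ne_one)
          · exact h.symm
        · right
          have hpow : a ^ n = 1 := by
            have := geom_sum_mul a n
            rw [h0, zero_mul] at this
            exact sub_eq_zero.mp this.symm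
          rcases hp.eq_one_or_self_of_dvd _ (orderOf_dvd_of_pow_eq_one hpow) with h | h
          · exact absurd (orderOf_eq_one_iff.mp h) h1
          · exact h.symm
      have h1 : (W i).valuation f = 1 := by
        have := (W i).valuation_unit hu.unit
        rw [IsUnit.unit_spec, AddSubmonoidClass.coe_finsetSum] at this
        simpa [hf] using this
      refine ⟨?_, h1 ▸ zero_lt_one⟩
      rw [h1, map_pow]
      exact pow_le_one₀ zero_le ((W i).valuation_le_one_iff x |>.mpr hx)
    · have hx1 : 1 < (W i).valuation x := not_le.mp fun h => hx ((W i).valuation_le_one_iff x |>.mp h)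
      have h1 : (W i).valuation f = (W i).valuation (x ^ (n - 1)) := by
        refine Valuation.map_sum_eq_of_lt _ (Finset.mem_range.mpr (by omega)) fun k hk => ?_
        rw [Finset.mem_sdiff, Finset.mem_range, Finset.mem_singleton] at hk
        rw [map_pow, map_pow]
        exact pow_lt_pow_right₀ hx1 (by omega)
      rw [h1, map_pow, map_pow]
      exact ⟨pow_le_pow_right₀ hx1.le (by omega), pow_pos (zero_lt_one.trans hx1) _⟩
  have hn2 := hp.two_le
  have hf0 : f ≠ 0 := fun h => by
    have := (hval none 0 (by omega)).2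
    rw [h, map_zero] at this
    exact lt_irrefl _ this
  refine ⟨n, f⁻¹, inv_ne_zero hf0, fun j hj i => ?_, by rw [← Finset.mul_sum, ← hf, inv_mul_cancel₀ hf0],
    fun K hK => K.inv_mem (K.sum_mem fun j _ => pow_mem hK j), hn2⟩
  obtain ⟨h1, h2⟩ := hval (some i) j hj
  change f⁻¹ * x ^ j ∈ W (some i)
  rw [← (W (some i)).valuation_le_one_iff, map_mul, map_inv₀, inv_mul_le_one₀ h2]
  exact h1

variable {ι : Type w} [Finite ι] (V : ι → ValuationSubring L) (K : Subfield L)
  {O : Type v} [CommRing O] [IsDomain O] (φ : O →+* L) (hφ : Function.Injective φ)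
  (hO : ∀ y : L, y ∈ φ.range ↔ y ∈ K ∧ ∀ i, y ∈ V i)

include hO in
theorem exists_div {x : L} (hx : x ∈ K) : ∃ a b : L, a ∈ φ.range ∧ b ∈ φ.range ∧ b ≠ 0 ∧ x = a / b := by
  obtain ⟨n, z, hz, hmem, -, hK, hn⟩ := exists_partition V x
  refine ⟨z * x, z, (hO _).mpr ⟨mul_mem (hK K hx) hx, fun i => ?_⟩, (hO _).mpr ⟨hK K hx, fun i => ?_⟩, hz, by field_simp⟩
  · simpa using hmem 1 (by omega) i
  · simpa using hmem 0 (by omega) i

include hφ hO in
theorem valuationRing (p : Ideal O) [p.IsPrime] : ValuationRing (Localization.AtPrime p) := by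
  classical
  haveI : IsDomain (Localization.AtPrime p) := inferInstance
  have key : ∀ a b : O, algebraMap O (Localization.AtPrime p) a ∣ algebraMap O _ b ∨
      algebraMap O (Localization.AtPrime p) b ∣ algebraMap O _ a := by
    intro a b
    by_cases hb : b = 0
    · exact Or.inl (by rw [hb, map_zero]; exact dvd_zero _)
    set x := φ a / φ b with hxd
    have hb0 : φ b ≠ 0 := (map_ne_zero_iff _ hφ).mpr hb
    have hab : φ a = x * φ b := (div_mul_cancel₀ _ hb0).symm
    have hxK : x ∈ K := div_mem ((hO _).mp ⟨a, rfl⟩).1 ((hO _).mp ⟨b, rfl⟩).1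
    obtain ⟨n, z, hz, hmem, hsum, hK, hn⟩ := exists_partition V x
    have hu : ∀ j < n, ∃ u : O, φ u = z * x ^ j := fun j hj =>
      (hO _).mpr ⟨mul_mem (hK K hxK) (pow_mem hxK j), fun i => hmem j hj i⟩
    choose u hu using hu
    obtain ⟨j, hj, hjp⟩ : ∃ j, ∃ hj : j < n, u j hj ∉ p := by
      by_contra! h
      let u' : ℕ → O := fun j => if hj : j < n then u j hj else 0
      have h1 : ∑ j ∈ Finset.range n, u' j = 1 := hφ (by
        rw [map_sum, map_one, ← hsum]
        exact Finset.sum_congr rfl fun j hj => by simp [u', Finset.mem_range.mp hj, hu])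
      refine ‹p.IsPrime›.ne_top ((Ideal.eq_top_iff_one _).mpr (h1 ▸ Ideal.sum_mem _ fun j hj => ?_))
      simp [u', Finset.mem_range.mp hj, h]
    have hunit : IsUnit (algebraMap O (Localization.AtPrime p) (u j hj)) :=
      IsLocalization.map_units _ (⟨_, hjp⟩ : p.primeCompl)
    rcases j with _ | j
    · refine Or.inr (hunit.dvd_mul_right.mp ⟨algebraMap O _ (u 1 (by omega)), ?_⟩)
      rw [← map_mul, ← map_mul]
      refine congrArg _ (hφ ?_)
      rw [map_mul, map_mul, hu, hu, hab]
      ring
    · refine Or.inl (hunit.dvd_mul_right.mp ⟨algebraMap O _ (u j (by omega)), ?_⟩)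
      rw [← map_mul, ← map_mul]
      refine congrArg _ (hφ ?_)
      rw [map_mul, map_mul, hu, hu, hab]
      ring
  refine ValuationRing.iff_dvd_total.mpr ⟨fun r s => ?_⟩
  obtain ⟨⟨a, t⟩, rfl⟩ := IsLocalization.mk'_surjective p.primeCompl r
  obtain ⟨⟨b, t'⟩, rfl⟩ := IsLocalization.mk'_surjective p.primeCompl s
  dsimp only
  have hassoc : ∀ (a : O) (t : p.primeCompl), Associated (IsLocalization.mk' (Localization.AtPrime p) a t) (algebraMap O _ a) :=
    fun a t => ⟨(IsLocalization.map_units _ t).unit, by rw [IsUnit.unit_spec, IsLocalization.mk'_spec]⟩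
  rcases key a b with h | h
  · exact Or.inl ((hassoc a t).dvd_iff_dvd_left.mpr ((hassoc b t').dvd_iff_dvd_right.mpr h))
  · exact Or.inr ((hassoc b t').dvd_iff_dvd_left.mpr ((hassoc a t).dvd_iff_dvd_right.mpr h))

open Classical in
/-- The centre on `O` of the `i`-th valuation ring (`none`: the zero ideal). -/
noncomputable def centre (o : Option ι) : Ideal O :=
  o.elim ⊥ fun i => if h : ∀ a, φ a ∈ V i then (IsLocalRing.maximalIdeal (V i)).comap (φ.codRestrict _ h) else ⊥

include hO hφ in
theorem mem_centre_some (i : ι) (a : O) : a ∈ centre V φ (some i) ↔ (V i).valuation (φ a) < 1 := by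
  have h : ∀ a, φ a ∈ V i := fun a => ((hO _).mp ⟨a, rfl⟩).2 i
  rw [centre, Option.elim, dif_pos h, Ideal.mem_comap, (V i).valuation_lt_one_iff]
  rfl

include hO hφ in
theorem isPrime_centre (o : Option ι) : (centre V φ o).IsPrime := by
  cases o with
  | none => exact Ideal.isPrime_bot
  | some i =>
    have h : ∀ a, φ a ∈ V i := fun a => ((hO _).mp ⟨a, rfl⟩).2 i
    rw [centre, Option.elim, dif_pos h]
    exact Ideal.comap_isPrime _ _

include hO hφ in
theorem exists_le_centre (p : Ideal O) [p.IsPrime] : ∃ o, p ≤ centre V φ o := by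
  classical
  haveI := Fintype.ofFinite ι
  have h : (p : Set O) ⊆ ⋃ o ∈ (↑(Finset.univ : Finset (Option ι)) : Set (Option ι)), (centre V φ o : Set O) := by
    intro a ha
    rw [Set.mem_iUnion₂]
    by_cases ha0 : a = 0
    · exact ⟨none, by simp, by rw [ha0]; exact zero_mem _⟩
    by_contra! hnot
    have hinv : (φ a)⁻¹ ∈ φ.range := (hO _).mpr ⟨K.inv_mem ((hO _).mp ⟨a, rfl⟩).1, fun i => by
      have h1 : ¬ (V i).valuation (φ a) < 1 := fun hlt =>
        hnot (some i) (by simp) ((mem_centre_some V K φ hφ hO i a).mpr hlt)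
      rw [← (V i).valuation_le_one_iff, map_inv₀]
      exact inv_le_one_of_one_le₀ (not_lt.mp h1)⟩
    obtain ⟨b, hb⟩ := hinv
    have : a * b = 1 := hφ (by rw [map_mul, map_one, hb, mul_inv_cancel₀ ((map_ne_zero_iff _ hφ).mpr ha0)])
    exact ‹p.IsPrime›.ne_top ((Ideal.eq_top_iff_one _).mpr (this ▸ p.mul_mem_right b ha))
  rw [Ideal.subset_union_prime none none (fun o _ _ _ => isPrime_centre V K φ hφ hO o)] at h
  exact ⟨h.choose, h.choose_spec.2⟩

include hO hφ in
theorem finite_maximalSpectrum : Finite (MaximalSpectrum O) := by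
  have h : ∀ m : MaximalSpectrum O, ∃ o, m.asIdeal = centre V φ o := fun m => by
    obtain ⟨o, ho⟩ := exists_le_centre V K φ hφ hO m.asIdeal
    exact ⟨o, m.isMaximal.eq_of_le (isPrime_centre V K φ hφ hO o).ne_top ho⟩
  choose g hg using h
  exact Finite.of_injective g fun m m' he => MaximalSpectrum.ext ((hg m).trans (he ▸ (hg m').symm))

include hO hφ in
theorem ringKrullDim_le {N : ℕ}
    (hN : ∀ i, ringKrullDim ((V i).comap K.subtype) ≤ (N : WithBot ℕ∞)) : ringKrullDim O ≤ (N : WithBot ℕ∞) := by
  have hc : ∀ o, (centre V φ o).height ≤ (N : ℕ∞) := by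
    intro o
    haveI := isPrime_centre V K φ hφ hO o
    cases o with
    | none => simp [centre]
    | some i =>
      set A := (V i).comap K.subtype
      let ψ₀ : O →+* K := φ.codRestrict K fun a => ((hO _).mp ⟨a, rfl⟩).1
      let ψ : O →+* A := ψ₀.codRestrict A fun a => ((hO _).mp ⟨a, rfl⟩).2 i
      have hval : ∀ a : O, (ψ a : K).1 = φ a := fun _ => rfl
      have hunit : ∀ y : (centre V φ (some i)).primeCompl, IsUnit (ψ y) := fun y => by
        have h1 : ¬ (V i).valuation (φ y) < 1 := fun h => y.2 ((mem_centre_some V K φ hφ hO i y).mpr h)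
        have h0 : φ y ≠ 0 := fun h => h1 (by rw [h, map_zero]; exact zero_lt_one)
        refine IsUnit.of_mul_eq_one ⟨⟨(φ y)⁻¹, K.inv_mem ((hO _).mp ⟨y, rfl⟩).1⟩, ?_⟩ (Subtype.ext (Subtype.ext ?_))
        · show (φ y)⁻¹ ∈ V i
          rw [← (V i).valuation_le_one_iff, map_inv₀]
          exact inv_le_one_of_one_le₀ (not_lt.mp h1)
        · exact mul_inv_cancel₀ h0
      let Ψ : Localization.AtPrime (centre V φ (some i)) →+* A := IsLocalization.lift hunit
      have hψinj : Function.Injective ψ := fun a b h => hφ (congrArg (fun t : A => (t : K).1) h)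
      have hinj : Function.Injective Ψ := by
        rw [IsLocalization.lift_injective_iff]
        exact fun a b => ⟨fun h => congrArg ψ ((IsLocalization.injective _ (centre V φ (some i)).primeCompl_le_nonZeroDivisors) h),
          fun h => congrArg _ (hψinj h)⟩
      have hsurj : Function.Surjective Ψ := by
        rintro ⟨⟨x, hxK⟩, hxA⟩
        obtain ⟨n, z, hz, hmem, hsum, hK, hn⟩ := exists_partition V x
        have hu : ∀ j < n, ∃ u : O, φ u = z * x ^ j := fun j hj =>
          (hO _).mpr ⟨mul_mem (hK K hxK) (pow_mem hxK j), fun i => hmem j hj i⟩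
        obtain ⟨c, hc⟩ := hu 0 (by omega)
        obtain ⟨w, hw⟩ := hu 1 (by omega)
        rw [pow_zero, mul_one] at hc
        rw [pow_one] at hw
        have hcp : c ∈ (centre V φ (some i)).primeCompl := fun hmem' => by
          replace hmem' := (mem_centre_some V K φ hφ hO i c).mp hmem'
          rw [hc] at hmem'
          have hlt : (V i).valuation (∑ j ∈ Finset.range n, z * x ^ j) < 1 :=
            Valuation.map_sum_lt _ one_ne_zero fun j _ => by
              rw [map_mul, map_pow]
              exact mul_lt_one_of_lt_of_le hmem' (pow_le_one₀ zero_le ((V i).valuation_le_one_iff x |>.mpr hxA))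
          rw [hsum, map_one] at hlt
          exact lt_irrefl _ hlt
        refine ⟨IsLocalization.mk' _ w ⟨c, hcp⟩, ?_⟩
        rw [IsLocalization.lift_mk'_spec]
        refine Subtype.ext (Subtype.ext ?_)
        show φ w = φ c * x
        rw [hw, hc]
      rw [← WithBot.coe_le_coe, ← IsLocalization.AtPrime.ringKrullDim_eq_height (centre V φ (some i)) (Localization.AtPrime (centre V φ (some i))),
        ringKrullDim_eq_of_ringEquiv (RingEquiv.ofBijective Ψ ⟨hinj, hsurj⟩)]
      exact hN i
  refine iSup_le fun l => ?_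
  obtain ⟨o, ho⟩ := exists_le_centre V K φ hφ hO l.last.asIdeal
  haveI := isPrime_centre V K φ hφ hO o
  have h1 : (l.length : ℕ∞) ≤ (N : ℕ∞) := by
    refine Order.length_le_height_last.trans ?_
    rw [← PrimeSpectrum.height_eq_orderHeight]
    exact (Ideal.height_mono ho).trans (hc o)
  exact_mod_cast h1

omit [Finite ι] in
/-- The localisations of a semilocal Prüfer domain as valuation subrings of its fraction field. -/
theorem exists_valuationSubrings (R : Type v) [CommRing R] [IsDomain R] [Algebra R L] [IsFractionRing R L]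
    (hR : ∀ (p : Ideal R) [p.IsPrime], ValuationRing (Localization.AtPrime p)) :
    ∃ V : MaximalSpectrum R → ValuationSubring L, ∀ y : L, y ∈ (algebraMap R L).range ↔ ∀ m, y ∈ V m := by
  let S : MaximalSpectrum R → Subring L := fun m =>
    (Localization.subalgebra.ofField L _ m.asIdeal.primeCompl_le_nonZeroDivisors).toSubring
  have hS : ∀ m y, y ∈ S m ↔ ∃ (a s : R) (_ : s ∈ m.asIdeal.primeCompl), y = algebraMap R L a * (algebraMap R L s)⁻¹ :=
    fun m y => Iff.rfl
  have hinj := IsFractionRing.injective R L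
  refine ⟨fun m => ValuationSubring.ofSubring (S m) fun x => ?_, fun y => ?_⟩
  · haveI := hR m.asIdeal
    obtain ⟨a, b, hb, rfl⟩ := IsFractionRing.div_surjective R x
    have hb0 : algebraMap R L b ≠ 0 := (map_ne_zero_iff _ hinj).mpr (nonZeroDivisors.ne_zero hb)
    rcases ValuationRing.dvd_total (algebraMap R (Localization.AtPrime m.asIdeal) b) (algebraMap R _ a) with h | h
    · left
      obtain ⟨r, hr⟩ := h
      obtain ⟨⟨c, t⟩, rfl⟩ := IsLocalization.mk'_surjective m.asIdeal.primeCompl r
      rw [IsLocalization.mul_mk'_eq_mk'_of_mul, IsLocalization.eq_mk'_iff_mul_eq, ← map_mul] at hr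
      have h2 := congrArg (algebraMap R L) (IsLocalization.injective _ m.asIdeal.primeCompl_le_nonZeroDivisors hr)
      rw [map_mul, map_mul] at h2
      refine (hS m _).mpr ⟨c, t, t.2, ?_⟩
      have ht : algebraMap R L (t : R) ≠ 0 := (map_ne_zero_iff _ hinj).mpr fun h => t.2 (h ▸ zero_mem _)
      field_simp
      linear_combination h2
    · obtain ⟨r, hr⟩ := h
      obtain ⟨⟨c, t⟩, rfl⟩ := IsLocalization.mk'_surjective m.asIdeal.primeCompl r
      rw [IsLocalization.mul_mk'_eq_mk'_of_mul, IsLocalization.eq_mk'_iff_mul_eq, ← map_mul] at hr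
      have h2 := congrArg (algebraMap R L) (IsLocalization.injective _ m.asIdeal.primeCompl_le_nonZeroDivisors hr)
      rw [map_mul, map_mul] at h2
      by_cases ha0 : a = 0
      · exact Or.inl (by rw [ha0, map_zero, zero_div]; exact (S m).zero_mem)
      right
      refine (hS m _).mpr ⟨c, t, t.2, ?_⟩
      have ht : algebraMap R L (t : R) ≠ 0 := (map_ne_zero_iff _ hinj).mpr fun h => t.2 (h ▸ zero_mem _)
      have ha : algebraMap R L a ≠ 0 := (map_ne_zero_iff _ hinj).mpr ha0
      rw [inv_div]
      field_simp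
      linear_combination h2
  · have h : y ∈ (⊥ : Subalgebra R L) ↔ ∀ m, y ∈ S m := by
      rw [← MaximalSpectrum.iInf_localization_eq_bot R L, Algebra.mem_iInf]
      rfl
    rwa [Algebra.mem_bot] at h

end Groth.Agent.EtStruct.SemiVal
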