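import Mathlib.RingTheory.Smooth.Locus
import Mathlib.RingTheory.Smooth.Field
import Mathlib.Algebra.Field.Subfield.Basic
import Mathlib.RingTheory.FiniteType
import Mathlib.RingTheory.EssentialFiniteness

/-!
# Smooth models of finitely generated fields
-/

namespace Groth.Agent.EtStruct

universe u v

/-- The subalgebra generated by field generators has the field as fraction field. -/
theorem isFractionRing_of_closure {R : Type v} {L : Type u} [CommRing R] [Field L] [Algebra R L] (s : Set L)
    (hs : Subfield.closure s = ⊤) (A : Subalgebra R L) (hA : s ⊆ A) : IsFractionRing A L := by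
  refine IsFractionRing.of_field A L fun x ↦ ?_
  obtain ⟨y, hy, z, hz, rfl⟩ := Subfield.mem_closure_iff.mp (hs.symm ▸ trivial : x ∈ Subfield.closure s)
  exact ⟨⟨y, Subring.closure_le.mpr (show s ⊆ A.toSubring from hA) hy⟩,
    ⟨z, Subring.closure_le.mpr (show s ⊆ A.toSubring from hA) hz⟩, rfl⟩

/-- A formally smooth finitely generated field extension of a Noetherian ring is the fraction field
of a smooth algebra. -/
theorem exists_smooth_model {R : Type v} {L : Type u} [CommRing R] [IsNoetherianRing R] [Field L] [Algebra R L]
    (s : Finset L) (hs : Subfield.closure (s : Set L) = ⊤) [Algebra.FormallySmooth R L] :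
    ∃ A : Subalgebra R L, Algebra.FiniteType R A ∧ Algebra.Smooth R A ∧ IsFractionRing A L := by
  let B := Algebra.adjoin R (s : Set L)
  have : Algebra.FiniteType R B :=
    (Subalgebra.fg_iff_finiteType B).mp ⟨s, rfl⟩
  have : Algebra.FinitePresentation R B := Algebra.FinitePresentation.of_finiteType.mp ‹_›
  have : IsFractionRing B L := isFractionRing_of_closure _ hs B Algebra.subset_adjoin
  have hloc : IsLocalization.AtPrime L (⊥ : Ideal B) := by
    have h : (⊥ : Ideal B).primeCompl = nonZeroDivisors B :=
      Submonoid.ext fun x ↦ mem_nonZeroDivisors_iff_ne_zero.symm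
    show IsLocalization _ L
    rw [h]; exact ‹IsFractionRing B L›
  have : Algebra.IsSmoothAt R (⊥ : Ideal B) :=
    (Algebra.FormallySmooth.iff_of_equiv ((IsLocalization.algEquiv (⊥ : Ideal B).primeCompl L
      (Localization.AtPrime (⊥ : Ideal B))).restrictScalars R)).mp inferInstance
  obtain ⟨f, hf, hsm⟩ := Algebra.IsSmoothAt.exists_notMem_smooth R (⊥ : Ideal B)
  have hf0 : f ≠ 0 := hf
  let ψ : Localization.Away f →ₐ[R] L :=
    (IsLocalization.liftAlgHom (M := Submonoid.powers f) (S := Localization.Away f)
      (f := IsScalarTower.toAlgHom R B L) fun y ↦ by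
        obtain ⟨n, hn⟩ := y.2
        refine isUnit_iff_ne_zero.mpr ?_
        show algebraMap B L y.1 ≠ 0
        rw [ne_eq, FaithfulSMul.algebraMap_eq_zero_iff, ← hn]
        exact pow_ne_zero n hf0)
  have hψ : Function.Injective ψ := by
    show Function.Injective (IsLocalization.lift (M := Submonoid.powers f) _)
    rw [IsLocalization.lift_injective_iff]
    refine fun x y ↦ ⟨fun h ↦ congrArg _ ?_, fun h ↦ ?_⟩
    · exact IsLocalization.injective _ (powers_le_nonZeroDivisors_of_noZeroDivisors hf0) h
    · exact congrArg _ (FaithfulSMul.algebraMap_injective B L h)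
  let e := AlgEquiv.ofInjective ψ hψ
  have : Algebra.FiniteType B (Localization.Away f) :=
    IsLocalization.finiteType_of_monoid_fg (.powers f) _
  have : Algebra.FiniteType R (Localization.Away f) := Algebra.FiniteType.trans ‹_› ‹_›
  refine ⟨ψ.range, Algebra.FiniteType.equiv ‹_› e, Algebra.Smooth.of_equiv e,
    isFractionRing_of_closure _ hs _ fun x hx ↦
      ⟨algebraMap B _ ⟨x, Algebra.subset_adjoin hx⟩, IsLocalization.lift_eq _ _⟩⟩

/-- A field generated over a ring by finitely many elements is essentially of finite type. -/
theorem essFiniteType_of_closure {R : Type v} {L : Type u} [CommRing R] [Field L] [Algebra R L] (s : Finset L)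
    (hs : Subfield.closure (s : Set L) = ⊤) : Algebra.EssFiniteType R L := by
  let B := Algebra.adjoin R (s : Set L)
  have : Algebra.FiniteType R B := (Subalgebra.fg_iff_finiteType B).mp ⟨s, rfl⟩
  have : IsFractionRing B L := isFractionRing_of_closure _ hs B Algebra.subset_adjoin
  have : Algebra.EssFiniteType B L := Algebra.EssFiniteType.of_isLocalization L (nonZeroDivisors B)
  exact Algebra.EssFiniteType.comp R B L

end Groth.Agent.EtStruct
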