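import Mathlib.RingTheory.Kaehler.JacobiZariski
import Mathlib.RingTheory.Smooth.Kaehler
import Mathlib.RingTheory.Smooth.Local
import Mathlib.RingTheory.Etale.Kaehler
import Mathlib.RingTheory.LocalRing.Module
import Mathlib.RingTheory.Etale.Locus
import Mathlib.RingTheory.LocalRing.ResidueField.Ideal

/-!
# Smoothness and étaleness in towers through differentials
-/

namespace Groth.Agent.EtStruct

open TensorProduct

universe u

variable (R S T : Type u) [CommRing R] [CommRing S] [CommRing T] [Algebra R S] [Algebra R T]
  [Algebra S T] [IsScalarTower R S T]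

theorem injective_mapBaseChange [Algebra.FormallySmooth S T] :
    Function.Injective (KaehlerDifferential.mapBaseChange R S T) := by
  rw [injective_iff_map_eq_zero]
  intro x hx
  obtain ⟨x, rfl⟩ := (Algebra.H1Cotangent.exact_δ_mapBaseChange R S T x).mp hx
  rw [Subsingleton.elim x 0, map_zero]

/-- Over a formally smooth composite, `S → T` is formally smooth iff the map on differentials
splits. -/
theorem formallySmooth_iff_split [Algebra.FormallySmooth R T] :
    Algebra.FormallySmooth S T ↔
      ∃ r : KaehlerDifferential R T →ₗ[T] T ⊗[S] KaehlerDifferential R S,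
        r ∘ₗ KaehlerDifferential.mapBaseChange R S T = LinearMap.id := by
  constructor
  · intro h
    have hex := KaehlerDifferential.exact_mapBaseChange_map R S T
    obtain ⟨l, hl⟩ := Module.projective_lifting_property
      (KaehlerDifferential.map R S T T) LinearMap.id (KaehlerDifferential.map_surjective R S T)
    have hinj := injective_mapBaseChange R S T
    have hmem : ∀ x, x - l (KaehlerDifferential.map R S T T x) ∈
        LinearMap.range (KaehlerDifferential.mapBaseChange R S T) := fun x ↦ by
      refine (hex _).mp ?_
      rw [map_sub, show KaehlerDifferential.map R S T T (l _) = _ from LinearMap.congr_fun hl _]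
      simp
    refine ⟨(LinearEquiv.ofInjective _ hinj).symm.toLinearMap ∘ₗ
      LinearMap.codRestrict _ (LinearMap.id - l ∘ₗ KaehlerDifferential.map R S T T)
        (fun x ↦ hmem x), ?_⟩
    refine LinearMap.ext fun x ↦ ?_
    simp only [LinearMap.coe_comp, LinearEquiv.coe_coe, Function.comp_apply, LinearMap.id_coe,
      id_eq, LinearEquiv.symm_apply_eq]
    refine Subtype.ext ?_
    simp [hex.apply_apply_eq_zero]
  · rintro ⟨r, hr⟩
    have hinj : Function.Injective (KaehlerDifferential.mapBaseChange R S T) :=
      Function.LeftInverse.injective (g := r) (LinearMap.congr_fun hr)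
    refine ⟨?_, ?_⟩
    · have hex := KaehlerDifferential.exact_mapBaseChange_map R S T
      let σ₀ : KaehlerDifferential R T →ₗ[T] KaehlerDifferential R T :=
        LinearMap.id - KaehlerDifferential.mapBaseChange R S T ∘ₗ r
      have hker : LinearMap.ker (KaehlerDifferential.map R S T T) ≤ LinearMap.ker σ₀ := by
        intro x hx
        obtain ⟨y, rfl⟩ := (hex x).mp hx
        simp [σ₀, show r (KaehlerDifferential.mapBaseChange R S T y) = y from
          LinearMap.congr_fun hr y]
      let e := LinearMap.quotKerEquivOfSurjective _ (KaehlerDifferential.map_surjective R S T)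
      refine Module.Projective.of_split
        ((LinearMap.ker (KaehlerDifferential.map R S T T)).liftQ σ₀ hker ∘ₗ e.symm.toLinearMap)
        (KaehlerDifferential.map R S T T) ?_
      refine LinearMap.ext fun y ↦ ?_
      obtain ⟨x, rfl⟩ := KaehlerDifferential.map_surjective R S T y
      have he : e.symm (KaehlerDifferential.map R S T T x) = Submodule.Quotient.mk x := by
        rw [LinearEquiv.symm_apply_eq]; rfl
      simp [he, σ₀, hex.apply_apply_eq_zero]
    · refine subsingleton_of_forall_eq 0 fun x ↦ ?_
      have hx : Algebra.H1Cotangent.δ R S T x = 0 := hinj (by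
        rw [(Algebra.H1Cotangent.exact_δ_mapBaseChange R S T).apply_apply_eq_zero, map_zero])
      obtain ⟨y, rfl⟩ := (Algebra.H1Cotangent.exact_map_δ R S T x).mp hx
      rw [Subsingleton.elim y 0, map_zero]

/-- Over a formally smooth composite, `S → T` is formally étale iff the map on differentials is
bijective. -/
theorem formallyEtale_iff_bijective [Algebra.FormallySmooth R T] :
    Algebra.FormallyEtale S T ↔ Function.Bijective (KaehlerDifferential.mapBaseChange R S T) := by
  constructor
  · intro h
    exact ⟨injective_mapBaseChange R S T, fun x ↦
      (KaehlerDifferential.exact_mapBaseChange_map R S T x).mp (Subsingleton.elim _ _)⟩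
  · intro h
    let e := LinearEquiv.ofBijective (KaehlerDifferential.mapBaseChange R S T) h
    have hs : Algebra.FormallySmooth S T :=
      (formallySmooth_iff_split R S T).mpr ⟨e.symm.toLinearMap, LinearMap.ext e.symm_apply_apply⟩
    have hu : Algebra.FormallyUnramified S T := by
      refine ⟨subsingleton_of_forall_eq 0 fun y ↦ ?_⟩
      obtain ⟨x, rfl⟩ := KaehlerDifferential.map_surjective R S T y
      obtain ⟨z, rfl⟩ := h.2 x
      exact (KaehlerDifferential.exact_mapBaseChange_map R S T).apply_apply_eq_zero z
    exact Algebra.FormallyEtale.of_formallyUnramified_and_formallySmooth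

variable {R S T} in
/-- Smoothness of `C` over `B` at `q` through the fibre at `q` of the map on differentials. -/
theorem isSmoothAt_tower_iff_injective [Algebra.FiniteType R S] [Algebra.EssFiniteType R T]
    (q : Ideal T) [q.IsPrime] (hC : Algebra.IsSmoothAt R q) :
    Algebra.IsSmoothAt S q ↔
      Function.Injective ((KaehlerDifferential.mapBaseChange R S T).lTensor q.ResidueField) := by
  let Tq := Localization.AtPrime q
  have : Algebra.FormallySmooth R Tq := hC
  have : Algebra.EssFiniteType R Tq := .comp R T _
  have : Module.Free Tq (KaehlerDifferential R Tq) := Module.free_of_flat_of_isLocalRing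
  rw [show Algebra.IsSmoothAt S q ↔ Algebra.FormallySmooth S Tq from Iff.rfl,
    formallySmooth_iff_split R S Tq, IsLocalRing.split_injective_iff_lTensor_residueField_injective]
  have : Algebra.FormallyEtale T Tq := .of_isLocalization q.primeCompl
  let k := q.ResidueField
  let e₁ : k ⊗[Tq] (Tq ⊗[S] KaehlerDifferential R S) ≃ₗ[k]
      k ⊗[T] (T ⊗[S] KaehlerDifferential R S) :=
    AlgebraTensorModule.cancelBaseChange S Tq k k _ ≪≫ₗ
      (AlgebraTensorModule.cancelBaseChange S T k k _).symm
  let e₂ : k ⊗[Tq] KaehlerDifferential R Tq ≃ₗ[k] k ⊗[T] KaehlerDifferential R T :=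
    AlgebraTensorModule.congr (.refl k k)
      (KaehlerDifferential.tensorKaehlerEquivOfFormallyEtale R T Tq).symm ≪≫ₗ
      AlgebraTensorModule.cancelBaseChange T Tq k k _
  have key : ∀ x, (KaehlerDifferential.mapBaseChange R S T).lTensor k (e₁ x) =
      e₂ ((KaehlerDifferential.mapBaseChange R S Tq).lTensor k x) := by
    intro x
    induction x with
    | zero => simp
    | add x y hx hy => simp only [map_add, hx, hy]
    | tmul a z =>
      induction z with
      | zero => simp
      | add x y hx hy => simp only [tmul_add, map_add, hx, hy]
      | tmul c w =>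
        have : KaehlerDifferential.mapBaseChange R S Tq (c ⊗ₜ w) =
            KaehlerDifferential.tensorKaehlerEquivOfFormallyEtale R T Tq
              (c ⊗ₜ KaehlerDifferential.map R R S T w) := by
          rw [KaehlerDifferential.tensorKaehlerEquivOfFormallyEtale_apply,
            KaehlerDifferential.mapBaseChange_tmul, KaehlerDifferential.mapBaseChange_tmul]
          congr 1
          have : (KaehlerDifferential.map R R T Tq).restrictScalars S ∘ₗ
              KaehlerDifferential.map R R S T = KaehlerDifferential.map R R S Tq := by
            apply Derivation.liftKaehlerDifferential_unique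
            ext s
            simp [← IsScalarTower.algebraMap_apply]
          exact (LinearMap.congr_fun this w).symm
        simp only [e₁, e₂, LinearEquiv.trans_apply, AlgebraTensorModule.cancelBaseChange_tmul,
          AlgebraTensorModule.cancelBaseChange_symm_tmul, LinearMap.lTensor_tmul, this,
          AlgebraTensorModule.congr_tmul, LinearEquiv.refl_apply, LinearEquiv.symm_apply_apply,
          KaehlerDifferential.mapBaseChange_tmul, one_smul]
  change Function.Injective ((KaehlerDifferential.mapBaseChange R S Tq).lTensor k) ↔ _
  refine (e₂.injective.of_comp_iff _).symm.trans ?_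
  refine Iff.trans ?_ (Function.Injective.of_comp_iff' _ e₁.bijective)
  rw [show (e₂ : _ → _) ∘ (KaehlerDifferential.mapBaseChange R S Tq).lTensor k =
    (KaehlerDifferential.mapBaseChange R S T).lTensor k ∘ e₁ from funext fun x ↦ (key x).symm]

end Groth.Agent.EtStruct
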