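import Groth.Agent.EtStruct.UnibranchGlobal
import Mathlib.AlgebraicGeometry.Morphisms.FlatMono
import Mathlib.AlgebraicGeometry.Morphisms.Separated

/-!
# Rational sections of unramified morphisms at geometrically unibranch points
-/

set_option backward.isDefEq.respectTransparency false

namespace Groth.Agent.EtStruct

open AlgebraicGeometry CategoryTheory CategoryTheory.Limits TopologicalSpace

universe u

variable {X Y : Scheme.{u}}

/-- An étale separated morphism from an irreducible scheme having a section near the image of the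
generic point is a monomorphism. -/
theorem mono_of_etale_of_section {N : Scheme.{u}} (g : N ⟶ Y) [Etale g] [IsSeparated g]
    [IrreducibleSpace N] (W : Y.Opens) (s : W.toScheme ⟶ N) (hs : s ≫ g = W.ι)
    (hW : g (genericPoint N) ∈ W) (hξ : s ⟨_, hW⟩ = genericPoint N) : Mono g := by
  have : LocallyQuasiFinite g := locallyQuasiFinite_of_formallyUnramified g
  have hdiag : Function.Surjective (pullback.diagonal g) := by
    intro z
    have hcl : IsClosed (Set.range (pullback.diagonal g)) :=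
      (pullback.diagonal g).isClosedEmbedding.isClosed_range
    obtain ⟨z', hz', hz'1⟩ := Flat.generalizingMap (pullback.fst g g)
      (genericPoint_specializes (pullback.fst g g z))
    suffices z' ∈ Set.range (pullback.diagonal g) from hz'.mem_closed hcl this
    have hg : g (pullback.snd g g z') = g (genericPoint N) := by
      rw [← hz'1]
      exact (congr($(pullback.condition (f := g) (g := g)) z')).symm
    have hb : pullback.snd g g z' = genericPoint N :=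
      (eq_of_specializes_of_map_eq g (genericPoint_specializes _) hg.symm).symm
    let m : pullback W.ι W.ι ⟶ pullback g g :=
      pullback.map _ _ _ _ s s (𝟙 Y) (by simp [hs]) (by simp [hs])
    have hmz : z' ∈ Set.range m := by
      rw [Scheme.Pullback.range_map]
      exact ⟨⟨_, hξ.trans hz'1.symm⟩, ⟨_, hξ.trans hb.symm⟩⟩
    obtain ⟨w, rfl⟩ := hmz
    have hm : m = (pullback.fst W.ι W.ι ≫ s) ≫ pullback.diagonal g := by
      refine pullback.hom_ext ?_ ?_
      · simp [m]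
      · have h := (cancel_mono W.ι).mp (pullback.condition (f := W.ι) (g := W.ι))
        simp [m, h]
    exact ⟨(pullback.fst W.ι W.ι ≫ s) w, (congr($hm w)).symm⟩
  rw [← pullback.isIso_diagonal_iff, isIso_iff_isOpenImmersion_and_surjective]
  exact ⟨inferInstance, ⟨hdiag⟩⟩

/-- A point of a scheme with locally finitely many irreducible components, lying on a single one,
has an irreducible open neighbourhood. -/
theorem exists_irreducible_opens (hcomp : LocallyFinite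
    (fun Z : ↥(irreducibleComponents ↥Y) => (Z : Set ↥Y))) (y : Y)
    (hy : CAlg2.IsGeomUnibranch (Y.presheaf.stalk y)) :
    ∃ Y₀ : Y.Opens, y ∈ Y₀ ∧ IrreducibleSpace Y₀.toScheme := by
  have hprime : (nilradical (Y.presheaf.stalk y)).IsPrime :=
    (Ideal.Quotient.isDomain_iff_prime _).mp hy.1.1
  have huniq := (SchPoints.isPrime_nilradical_stalk_iff y).mp hprime
  let S : Set ↥(irreducibleComponents ↥Y) := {Z | y ∉ (Z : Set Y)}
  have hcl : IsClosed (⋃ Z : S, (Z.1 : Set Y)) :=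
    (hcomp.comp_injective Subtype.val_injective).isClosed_iUnion fun Z ↦
      isClosed_of_mem_irreducibleComponents _ Z.1.2
  refine ⟨⟨_, hcl.isOpen_compl⟩, ?_, ?_⟩
  · show y ∉ ⋃ Z : S, (Z.1 : Set Y)
    simp only [Set.mem_iUnion, not_exists]
    exact fun Z ↦ Z.2
  · have hsub : (⋃ Z : S, (Z.1 : Set Y))ᶜ ⊆ irreducibleComponent y := by
      intro w hw
      by_contra hwy
      have hyw : y ∉ irreducibleComponent w := fun h ↦ hwy <| by
        rw [huniq _ (irreducibleComponent_mem_irreducibleComponents y) _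
          (irreducibleComponent_mem_irreducibleComponents w) mem_irreducibleComponent h]
        exact mem_irreducibleComponent
      exact hw (Set.mem_iUnion.mpr
        ⟨⟨⟨_, irreducibleComponent_mem_irreducibleComponents w⟩, hyw⟩, mem_irreducibleComponent⟩)
    have hne : y ∈ (⋃ Z : S, (Z.1 : Set Y))ᶜ := by
      simp only [Set.mem_compl_iff, Set.mem_iUnion, not_exists]
      exact fun Z ↦ Z.2
    exact Subtype.irreducibleSpace
      ⟨⟨y, hne⟩, isIrreducible_irreducibleComponent.2.open_subset hcl.isOpen_compl hsub⟩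

/-- A rational section of a separated unramified morphism extends to a geometrically unibranch point
whose fibre meets the closure of its image. -/
theorem exists_section_nhd [IsReduced Y]
    (hcomp : LocallyFinite (fun Z : ↥(irreducibleComponents ↥Y) => (Z : Set ↥Y)))
    (f : X ⟶ Y) [IsSeparated f] [LocallyOfFiniteType f] [FormallyUnramified f]
    (U : Y.Opens) (hU : Dense (U : Set ↥Y)) (u : U.toScheme ⟶ X) (hu : u ≫ f = U.ι)
    (x : X) (hy : CAlg2.IsGeomUnibranch (Y.presheaf.stalk (f x))) (hx : x ∈ closure (Set.range u)) :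
    ∃ (V : Y.Opens) (v : V.toScheme ⟶ X), f x ∈ V ∧ v ≫ f = V.ι ∧
      Y.homOfLE (inf_le_left : U ⊓ V ≤ U) ≫ u = Y.homOfLE (inf_le_right : U ⊓ V ≤ V) ≫ v := by
  obtain ⟨Y₀, hyY₀, hirr⟩ := exists_irreducible_opens hcomp (f x) hy
  have : IsReduced Y₀.toScheme := isReduced_of_isOpenImmersion Y₀.ι
  have : IsIntegral Y₀.toScheme := isIntegral_of_irreducibleSpace_of_isReduced _
  let η : Y := (genericPoint Y₀.toScheme).1
  have hη : ∀ w ∈ Y₀, η ⤳ w := fun w hw ↦
    (genericPoint_specializes (α := Y₀.toScheme) ⟨w, hw⟩).map Y₀.ι.continuous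
  have hηY₀ : η ∈ Y₀ := (genericPoint Y₀.toScheme).2
  have hηU : η ∈ U := by
    obtain ⟨w, hwY₀, hwU⟩ := hU.inter_open_nonempty _ Y₀.2 ⟨_, hyY₀⟩
    exact (hη w hwY₀).mem_open U.2 hwU
  let ξ : X := u ⟨η, hηU⟩
  have hfu : ∀ w : U.toScheme, f (u w) = w.1 := fun w ↦ congr($hu w)
  have hξx : ξ ⤳ x := by
    rw [specializes_iff_mem_closure]
    have h1 : x ∈ closure (Set.range u ∩ (f ⁻¹ᵁ Y₀ : Set X)) :=
      mem_closure_iff.mpr fun o ho hxo ↦ by
        obtain ⟨z, hz, hz'⟩ := mem_closure_iff.mp hx (o ∩ (f ⁻¹ᵁ Y₀ : Set X))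
          (ho.inter (f ⁻¹ᵁ Y₀).2) ⟨hxo, hyY₀⟩
        exact ⟨z, hz.1, hz', hz.2⟩
    refine closure_minimal ?_ isClosed_closure h1
    rintro _ ⟨⟨w, rfl⟩, hw⟩
    rw [← specializes_iff_mem_closure]
    have hw' : w.1 ∈ Y₀ := hfu w ▸ hw
    have h : (⟨η, hηU⟩ : U.toScheme) ⤳ w := by
      rw [← U.ι.isEmbedding.isInducing.specializes_iff]; exact hη _ hw'
    exact h.map u.continuous
  -- an étale irreducible neighbourhood
  let X₀ := f ⁻¹ᵁ Y₀
  have hy₀ : CAlg2.IsGeomUnibranch (Y₀.toScheme.presheaf.stalk ((f ∣_ Y₀) ⟨x, hyY₀⟩)) := by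
    let z : Y₀.toScheme := ⟨f x, hyY₀⟩
    have hz : (f ∣_ Y₀) ⟨x, hyY₀⟩ = z := Subtype.ext (morphismRestrict_base_coe f Y₀ _)
    rw [hz]
    have hd : IsDomain (Y₀.toScheme.presheaf.stalk z) := inferInstance
    let e : Y.presheaf.stalk (f x) ≃+* Y₀.toScheme.presheaf.stalk z :=
      (asIso (Y₀.ι.stalkMap z)).commRingCatIsoToRingEquiv
    have := e.toMulEquiv.isDomain_iff.mpr hd
    exact isGeomUnibranch_of_ringEquiv e hy
  have : FormallyUnramified (f ∣_ Y₀) :=
    MorphismProperty.of_isPullback (isPullback_morphismRestrict f Y₀).flip ‹_›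
  obtain ⟨N₁, hxN₁, hN₁ | hN₁⟩ := exists_nhd_etale_or_disjoint (f ∣_ Y₀) ⟨x, hyY₀⟩ hy₀
    (FormallyUnramified.stalkMap _ _)
  swap
  · have hξ₀ : ξ ∈ X₀ := (congrArg (· ∈ Y₀) (hfu ⟨η, hηU⟩)).mpr hηY₀
    have h : (⟨ξ, hξ₀⟩ : X₀.toScheme) ⤳ ⟨x, hyY₀⟩ := by
      rw [← X₀.ι.isEmbedding.isInducing.specializes_iff]; exact hξx
    exact absurd (Subtype.ext ((morphismRestrict_base_coe f Y₀ _).trans (hfu _)))
      (hN₁ _ (h.mem_open N₁.2 hxN₁))
  obtain ⟨M, hM, hMirr⟩ := exists_irreducible_nhd_of_etale (N₁.ι ≫ f ∣_ Y₀) ⟨_, hxN₁⟩ hy₀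
  let N : X.Opens := X₀.ι ''ᵁ (N₁.ι ''ᵁ M)
  have hxN : x ∈ N := ⟨_, ⟨_, hM, rfl⟩, rfl⟩
  have hξN : ξ ∈ N := hξx.mem_open N.2 hxN
  have hNY₀ : ∀ z ∈ N, f z ∈ Y₀ := by rintro _ ⟨w, -, rfl⟩; exact w.2
  let g := N.ι ≫ f
  have : IrreducibleSpace N.toScheme := Subtype.irreducibleSpace
    ((hMirr.image _ N₁.ι.continuous.continuousOn).image _ X₀.ι.continuous.continuousOn)
  have : Etale g := by
    have h1 : Etale ((N₁.ι ''ᵁ M).ι ≫ f ∣_ Y₀) := by
      rw [← Scheme.Hom.isoImage_inv_ι_assoc]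
      infer_instance
    have h2 : Etale ((N₁.ι ''ᵁ M).ι ≫ X₀.ι ≫ f) := by
      rw [← morphismRestrict_ι, ← Category.assoc]
      infer_instance
    show Etale (N.ι ≫ f)
    rw [show N.ι ≫ f = (X₀.ι.isoImage (N₁.ι ''ᵁ M)).inv ≫ (N₁.ι ''ᵁ M).ι ≫ X₀.ι ≫ f by
      rw [Scheme.Hom.isoImage_inv_ι_assoc]]
    infer_instance
  have : IsSeparated g := inferInstanceAs (IsSeparated (N.ι ≫ f))
  have : LocallyQuasiFinite g := locallyQuasiFinite_of_formallyUnramified g
  have hgen : (⟨ξ, hξN⟩ : N.toScheme) = genericPoint N.toScheme := by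
    have hsp := genericPoint_specializes (α := N.toScheme) ⟨ξ, hξN⟩
    refine (eq_of_specializes_of_map_eq g hsp ?_).symm
    have h1 : g (genericPoint N.toScheme) ⤳ g ⟨ξ, hξN⟩ := hsp.map g.continuous
    have h2 : g ⟨ξ, hξN⟩ = η := hfu ⟨η, hηU⟩
    have h3 : η ⤳ g (genericPoint N.toScheme) := hη _ (hNY₀ _ (genericPoint N.toScheme).2)
    rw [h2] at h1 ⊢
    exact (h1.antisymm h3).eq
  let W : Y.Opens := U.ι ''ᵁ (u ⁻¹ᵁ N)
  have hWU : W ≤ U := by rintro _ ⟨w, -, rfl⟩; exact w.2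
  have hWu : ∀ w : W.toScheme, (Y.homOfLE hWU ≫ u) w ∈ Set.range N.ι := fun w ↦ by
    obtain ⟨w', hw', he⟩ := w.2
    rw [Scheme.Opens.range_ι]
    have : Y.homOfLE hWU w = w' := U.ι.isOpenEmbedding.injective
      ((congr($(Y.homOfLE_ι hWU) w)).trans he.symm)
    show u (Y.homOfLE hWU w) ∈ N
    rw [this]; exact hw'
  let s : W.toScheme ⟶ N.toScheme :=
    IsOpenImmersion.lift N.ι (Y.homOfLE hWU ≫ u) (Set.range_subset_iff.mpr hWu)
  have hs : s ≫ g = W.ι := by
    show s ≫ N.ι ≫ f = W.ι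
    rw [← Category.assoc, IsOpenImmersion.lift_fac, Category.assoc, hu, Scheme.homOfLE_ι]
  have hgW : g (genericPoint N.toScheme) ∈ W := by
    rw [← hgen]
    exact ⟨⟨η, hηU⟩, hξN, (hfu ⟨η, hηU⟩).symm⟩
  have hmono : Mono g := by
    refine mono_of_etale_of_section g W s hs hgW ?_
    apply N.ι.isOpenEmbedding.injective
    rw [← Scheme.Hom.comp_apply, IsOpenImmersion.lift_fac]
    have h1 : Y.homOfLE hWU ⟨_, hgW⟩ = (⟨η, hηU⟩ : U.toScheme) :=
      U.ι.isOpenEmbedding.injective ((congr($(Y.homOfLE_ι hWU) ⟨_, hgW⟩)).trans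
        ((congrArg g hgen.symm).trans (hfu ⟨η, hηU⟩)))
    show u (Y.homOfLE hWU ⟨_, hgW⟩) = _
    rw [h1, ← hgen]
    rfl
  have : IsOpenImmersion g := IsOpenImmersion.of_flat_of_mono g
  let V : Y.Opens := g.opensRange
  let v : V.toScheme ⟶ X := g.isoOpensRange.inv ≫ N.ι
  have hv : v ≫ f = V.ι := by
    show (g.isoOpensRange.inv ≫ N.ι) ≫ f = V.ι
    rw [Category.assoc]
    exact g.isoOpensRange_inv_comp
  refine ⟨V, v, ⟨⟨x, hxN⟩, rfl⟩, hv, ?_⟩
  have : IsReduced (U ⊓ V).toScheme := isReduced_of_isOpenImmersion (U ⊓ V).ι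
  let T : Y.Opens := W ⊓ V
  have hT : T ≤ U ⊓ V := inf_le_inf hWU le_rfl
  have hVY₀ : ∀ w ∈ V, w ∈ Y₀ := by rintro _ ⟨z, rfl⟩; exact hNY₀ _ z.2
  have : IsDominant (Y.homOfLE hT) := by
    refine ⟨fun w ↦ ?_⟩
    have hηV : η ∈ V := ⟨⟨ξ, hξN⟩, hfu ⟨η, hηU⟩⟩
    have hηT : η ∈ T := ⟨⟨⟨η, hηU⟩, hξN, rfl⟩, hηV⟩
    have h : (⟨η, hT hηT⟩ : (U ⊓ V).toScheme) ⤳ w := by
      rw [← (U ⊓ V).ι.isEmbedding.isInducing.specializes_iff]
      exact hη _ (hVY₀ _ w.2.2)
    refine closure_mono ?_ (specializes_iff_mem_closure.mp h)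
    rintro _ rfl
    exact ⟨⟨η, hηT⟩, Subtype.ext (congr($(Y.homOfLE_ι hT) ⟨η, hηT⟩))⟩
  refine ext_of_isDominant_of_isSeparated f (by simp [hu, hv]) (Y.homOfLE hT) ?_
  have h1 : Y.homOfLE (inf_le_right : T ≤ V) ≫ g.isoOpensRange.inv =
      Y.homOfLE (inf_le_left : T ≤ W) ≫ s := by
    rw [← cancel_mono g, Category.assoc, Category.assoc, hs, g.isoOpensRange_inv_comp,
      Scheme.homOfLE_ι, Scheme.homOfLE_ι]
  show Y.homOfLE hT ≫ Y.homOfLE inf_le_left ≫ u = Y.homOfLE hT ≫ Y.homOfLE inf_le_right ≫ v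
  rw [Scheme.homOfLE_homOfLE_assoc, Scheme.homOfLE_homOfLE_assoc]
  show _ = Y.homOfLE _ ≫ g.isoOpensRange.inv ≫ N.ι
  rw [reassoc_of% h1, IsOpenImmersion.lift_fac, Scheme.homOfLE_homOfLE_assoc]

end Groth.Agent.EtStruct
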