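import Mathlib.AlgebraicGeometry.ResidueField
import Mathlib.AlgebraicGeometry.Morphisms.OpenImmersion
import Mathlib.RingTheory.Artinian.Ring
import Mathlib.RingTheory.Noetherian.OfPrime
import Mathlib.RingTheory.Finiteness.Basic
import Mathlib.RingTheory.HopkinsLevitzki

/-!
# Formal versality implies lifting for finite residue field extensions
-/

set_option autoImplicit false
universe u

open CategoryTheory AlgebraicGeometry IsLocalRing

namespace Groth.Agent.EtStruct

/-- Formal versality of `g` at `t`: lifting for trivial residue field extensions. -/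
def VersalAt {S T : Scheme.{u}} (g : T ⟶ S) (t : T) : Prop :=
  ∀ (C C' : Type u) [CommRing C] [CommRing C'] [IsLocalRing C] [IsLocalRing C'] [IsArtinianRing C]
        [IsArtinianRing C'] (π : C' →+* C), Function.Surjective π →
        ∀ (a : Spec (CommRingCat.of C) ⟶ T) (b : Spec (CommRingCat.of C') ⟶ S),
          a (IsLocalRing.closedPoint C) = t →
          Function.Surjective (a.residueFieldMap (IsLocalRing.closedPoint C)).hom →
          Spec.map (CommRingCat.ofHom π) ≫ b = a ≫ g →
          ∃ c : Spec (CommRingCat.of C') ⟶ T, Spec.map (CommRingCat.ofHom π) ≫ c = a ∧ c ≫ g = b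

section Algebra

variable {C K : Type u} [CommRing C] [IsLocalRing C] [Field K] (ρ : C →+* K)

theorem isUnit_iff_of_surjective_field (hρ : Function.Surjective ρ) (c : C) :
    IsUnit c ↔ ρ c ≠ 0 := by
  have hker : RingHom.ker ρ = maximalIdeal C :=
    IsLocalRing.eq_maximalIdeal (RingHom.ker_isMaximal_of_surjective ρ hρ)
  rw [← not_iff_not, not_not, ← mem_nonunits_iff, ← mem_maximalIdeal, ← hker, RingHom.mem_ker]

theorem isUnit_comap_subfield (hρ : Function.Surjective ρ) (k : Subfield K)
    (x : k.toSubring.comap ρ) : IsUnit x ↔ ρ x ≠ 0 := by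
  refine ⟨fun h => (isUnit_iff_of_surjective_field ρ hρ _).mp
    (h.map (k.toSubring.comap ρ).subtype), fun h => ?_⟩
  obtain ⟨w, hw⟩ := isUnit_iff_exists_inv.mp ((isUnit_iff_of_surjective_field ρ hρ x.1).mpr h)
  have hmem : w ∈ k.toSubring.comap ρ := by
    rw [Subring.mem_comap]
    have := congrArg ρ hw
    rw [map_mul, map_one] at this
    rw [eq_inv_of_mul_eq_one_right this]
    exact inv_mem (s := k) x.2
  exact isUnit_iff_exists_inv.mpr ⟨⟨w, hmem⟩, Subtype.ext hw⟩

theorem isLocalRing_comap_subfield (hρ : Function.Surjective ρ) (k : Subfield K) :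
    IsLocalRing (k.toSubring.comap ρ) := by
  refine .of_isUnit_or_isUnit_one_sub_self fun x => ?_
  simp only [isUnit_comap_subfield ρ hρ]
  by_contra! h
  have := h.2
  simp [h.1] at this

theorem isArtinianRing_comap_subfield [IsArtinianRing C] (hρ : Function.Surjective ρ)
    (k : Subfield K) (hk : k.subtype.Finite) : IsArtinianRing (k.toSubring.comap ρ) := by
  let S := k.toSubring.comap ρ
  have hloc : IsLocalRing S := isLocalRing_comap_subfield ρ hρ k
  have hker : ∀ c, ρ c = 0 → c ∈ S := fun c hc => by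
    rw [Subring.mem_comap, hc]; exact zero_mem _
  let _ : Algebra k K := k.subtype.toAlgebra
  obtain ⟨s, hs⟩ : (⊤ : Submodule k K).FG := Module.Finite.fg_top (self := hk)
  choose lift hlift using hρ
  haveI : Module.Finite S C := by
    classical
    refine ⟨⟨insert 1 (s.image lift), ?_⟩⟩
    rw [eq_top_iff]
    rintro c -
    have hone : (1 : C) ∈ Submodule.span S (↑(insert 1 (s.image lift)) : Set C) :=
      Submodule.subset_span (by simp)
    have hS : ∀ c ∈ S, c ∈ Submodule.span S (↑(insert 1 (s.image lift)) : Set C) := fun c hc => by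
      have := Submodule.smul_mem _ (⟨c, hc⟩ : S) hone
      rwa [Subring.smul_def, smul_eq_mul, mul_one] at this
    have key : ∀ z ∈ Submodule.span k (s : Set K),
        ∃ c ∈ Submodule.span S (↑(insert 1 (s.image lift)) : Set C), ρ c = z := by
      intro z hz
      induction hz using Submodule.span_induction with
      | mem z hz => exact ⟨lift z, Submodule.subset_span
          (by simp only [Finset.coe_insert, Finset.coe_image]; exact Or.inr ⟨z, hz, rfl⟩), hlift z⟩
      | zero => exact ⟨0, zero_mem _, map_zero _⟩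
      | add x y _ _ hx hy =>
        obtain ⟨a, ha, rfl⟩ := hx
        obtain ⟨b, hb, rfl⟩ := hy
        exact ⟨a + b, add_mem ha hb, map_add _ _ _⟩
      | smul r x _ hx =>
        obtain ⟨a, ha, rfl⟩ := hx
        refine ⟨lift r.1 * a, ?_, by rw [map_mul, hlift]; rfl⟩
        exact Submodule.smul_mem _ (⟨lift r.1, by rw [Subring.mem_comap, hlift]; exact r.2⟩ : S) ha
    obtain ⟨d, hd, hdc⟩ := key (ρ c) (hs ▸ Submodule.mem_top)
    have : c = (c - d) + d := (sub_add_cancel c d).symm
    rw [this]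
    exact add_mem (hS _ (hker _ (by rw [map_sub, hdc, sub_self]))) hd
  have hmax : ∀ x : S, x ∈ maximalIdeal S ↔ (x : C) ∈ maximalIdeal C := fun x => by
    rw [mem_maximalIdeal, mem_maximalIdeal, mem_nonunits_iff, mem_nonunits_iff,
      isUnit_comap_subfield ρ (fun z => ⟨lift z, hlift z⟩) k x,
      isUnit_iff_of_surjective_field ρ (fun z => ⟨lift z, hlift z⟩)]
  have hfg : (maximalIdeal S).FG := by
    haveI : Module.Finite C (maximalIdeal C) := Module.Finite.iff_fg.mpr (IsNoetherian.noetherian _)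
    haveI : Module.Finite S (maximalIdeal C) := Module.Finite.trans C _
    let L : maximalIdeal C →ₗ[S] S :=
      { toFun := fun m => ⟨m.1, hker _ (by
          by_contra h
          exact m.2 ((isUnit_iff_of_surjective_field ρ (fun z => ⟨lift z, hlift z⟩) _).mpr h))⟩
        map_add' := fun _ _ => rfl
        map_smul' := fun _ _ => rfl }
    have : LinearMap.range L = maximalIdeal S := by
      ext x
      exact ⟨fun ⟨m, hm⟩ => hm ▸ (hmax _).mpr m.2, fun hx => ⟨⟨x.1, (hmax x).mp hx⟩, rfl⟩⟩
    rw [← this, LinearMap.range_eq_map]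
    exact Module.Finite.fg_top.map L
  obtain ⟨n, hn⟩ : IsNilpotent (maximalIdeal C) := by
    rw [← jacobson_eq_maximalIdeal ⊥ bot_ne_top]
    exact IsArtinianRing.isNilpotent_jacobson_bot
  have hnil : maximalIdeal S ≤ nilradical S := fun x hx => ⟨n, Subtype.ext <| by
    have := Ideal.pow_mem_pow ((hmax x).mp hx) n
    rw [hn] at this
    exact Ideal.mem_bot.mp this⟩
  have hprime : ∀ P : Ideal S, P.IsPrime → P = maximalIdeal S := fun P hP =>
    le_antisymm (le_maximalIdeal hP.ne_top) (hnil.trans (nilradical_le_prime P))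
  haveI : IsNoetherianRing S := IsNoetherianRing.of_prime fun P hP => hprime P hP ▸ hfg
  haveI : Ring.KrullDimLE 0 S := .mk₀ fun P hP => hprime P hP ▸ maximalIdeal.isMaximal S
  exact isArtinianRing_iff_krullDimLE_zero.mpr inferInstance

end Algebra

/-- Evaluation of elements of a ring at a point of its spectrum. -/
noncomputable def evalPt (R : CommRingCat.{u}) (x : Spec R) : R →+* (Spec R).residueField x :=
  ((Scheme.ΓSpecIso R).inv ≫ (Spec R).Γevaluation x).hom

theorem evalPt_naturality {R R' : CommRingCat.{u}} (f : R ⟶ R') (x : Spec R') (r : R) :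
    (Spec.map f).residueFieldMap x (evalPt R (Spec.map f x) r) = evalPt R' x (f r) := by
  change ((Scheme.ΓSpecIso R).inv ≫ (Spec R).Γevaluation _ ≫ (Spec.map f).residueFieldMap x) r = _
  rw [Scheme.Γevaluation_naturality, ← Category.assoc, ← Scheme.ΓSpecIso_inv_naturality]
  rfl

theorem evalPt_surjective (R : CommRingCat.{u}) [IsLocalRing R] {y : Spec R}
    (hy : y = closedPoint R) : Function.Surjective (evalPt R y) := by
  subst hy
  have h : (Scheme.ΓSpecIso R).inv ≫ (Spec R).Γevaluation (closedPoint R) =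
      (stalkClosedPointIso R).inv ≫ (Spec R).residue (closedPoint R) := by
    rw [Scheme.Γevaluation, ← Scheme.germ_residue, ← ΓSpecIso_hom_stalkClosedPointIso_inv]
    simp
  rw [evalPt, h]
  exact (residue_surjective (R := (Spec R).presheaf.stalk (closedPoint R))).comp
    (stalkClosedPointIso R).symm.commRingCatIsoToRingEquiv.surjective

theorem exists_spec_factor {R : CommRingCat.{u}} [IsLocalRing R] {S : Scheme.{u}} {V : S.Opens}
    (hV : IsAffineOpen V) (f : Spec R ⟶ S) (hf : f (closedPoint R) ∈ V) :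
    ∃ η : Γ(S, V) ⟶ R, Spec.map η ≫ hV.fromSpec = f := by
  have hr : Set.range f ⊆ Set.range hV.fromSpec := by
    rw [hV.range_fromSpec]
    rintro _ ⟨x, rfl⟩
    have := Scheme.preimage_eq_top_of_closedPoint_mem f hf
    exact this.ge (Set.mem_univ x)
  exact ⟨Spec.preimage (IsOpenImmersion.lift hV.fromSpec f hr), by
    rw [Spec.map_preimage, IsOpenImmersion.lift_fac]⟩

/-- A formally versal point lifts all maps with finite residue field extensions. -/
theorem exists_lift_of_versalAt {S T : Scheme.{u}} (g : T ⟶ S) {t : T} (hT : VersalAt g t)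
    (C C' : Type u) [CommRing C] [CommRing C'] [IsLocalRing C] [IsLocalRing C'] [IsArtinianRing C]
    [IsArtinianRing C'] (π : C' →+* C) (hπ : Function.Surjective π)
    (a : Spec (CommRingCat.of C) ⟶ T) (b : Spec (CommRingCat.of C') ⟶ S)
    (hat : a (closedPoint C) = t)
    (hfin : (a.residueFieldMap (closedPoint C)).hom.Finite)
    (hcomm : Spec.map (CommRingCat.ofHom π) ≫ b = a ≫ g) :
    ∃ c : Spec (CommRingCat.of C') ⟶ T, Spec.map (CommRingCat.ofHom π) ≫ c = a ∧ c ≫ g = b := by
  haveI hπl : IsLocalHom π := IsLocalHom.of_surjective π hπ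
  obtain ⟨_, ⟨V, hV, rfl⟩, htV, -⟩ := T.isBasis_affineOpens.exists_subset_of_mem_open
    (Set.mem_univ (a (closedPoint C))) isOpen_univ
  obtain ⟨_, ⟨W, hW, rfl⟩, hsW, -⟩ := S.isBasis_affineOpens.exists_subset_of_mem_open
    (Set.mem_univ (b (closedPoint C'))) isOpen_univ
  let pt : Spec (CommRingCat.of C) := closedPoint C
  let ρ := evalPt (.of C) pt
  have hρ : Function.Surjective ρ := evalPt_surjective (.of C) rfl
  let k : Subfield ((Spec (CommRingCat.of C)).residueField pt) :=
    (a.residueFieldMap pt).hom.fieldRange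
  have hk : k.subtype.Finite :=
    RingHom.Finite.of_comp_finite (f := (a.residueFieldMap pt).hom.rangeRestrictField) hfin
  have hρπ : Function.Surjective (ρ.comp π) := hρ.comp hπ
  let C₀ := k.toSubring.comap ρ
  let C₀' := k.toSubring.comap (ρ.comp π)
  haveI : IsLocalRing C₀ := isLocalRing_comap_subfield ρ hρ k
  haveI : IsLocalRing C₀' := isLocalRing_comap_subfield _ hρπ k
  haveI : IsArtinianRing C₀ := isArtinianRing_comap_subfield ρ hρ k hk
  haveI : IsArtinianRing C₀' := isArtinianRing_comap_subfield _ hρπ k hk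
  haveI : IsLocalHom C₀.subtype := ⟨fun x hx => (isUnit_comap_subfield ρ hρ k x).mpr
    ((isUnit_iff_of_surjective_field ρ hρ _).mp hx)⟩
  let π₀ : C₀' →+* C₀ := (π.comp C₀'.subtype).codRestrict C₀ fun x => x.2
  have hπ₀ : Function.Surjective π₀ := fun x => by
    obtain ⟨y, hy⟩ := hπ x.1
    have hy' : y ∈ C₀' := by
      rw [Subring.mem_comap, RingHom.comp_apply, hy]
      exact x.2
    exact ⟨⟨y, hy'⟩, Subtype.ext hy⟩
  let i : CommRingCat.of C₀ ⟶ CommRingCat.of C := CommRingCat.ofHom C₀.subtype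
  let i' : CommRingCat.of C₀' ⟶ CommRingCat.of C' := CommRingCat.ofHom C₀'.subtype
  have hsq : Spec.map (CommRingCat.ofHom π) ≫ Spec.map i' =
      Spec.map i ≫ Spec.map (CommRingCat.ofHom π₀) := by
    rw [← Spec.map_comp, ← Spec.map_comp]
    rfl
  -- factor `a` through `Spec C₀`
  obtain ⟨η, hη⟩ := exists_spec_factor (R := .of C) hV a htV
  have hηC₀ : ∀ r, η r ∈ C₀ := fun r => by
    rw [Subring.mem_comap]
    show evalPt (.of C) pt (η r) ∈ k
    rw [← evalPt_naturality]
    subst hη
    obtain ⟨w, hw⟩ := (ConcreteCategory.bijective_of_isIso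
      (hV.fromSpec.residueFieldMap (Spec.map η pt))).2 (evalPt Γ(T, V) (Spec.map η pt) r)
    refine ⟨w, ?_⟩
    rw [Scheme.residueFieldMap_comp]
    exact congrArg ((Spec.map η).residueFieldMap pt).hom hw
  let η₀ : Γ(T, V) ⟶ CommRingCat.of C₀ := CommRingCat.ofHom (η.hom.codRestrict C₀ hηC₀)
  let a₀ : Spec (CommRingCat.of C₀) ⟶ T := Spec.map η₀ ≫ hV.fromSpec
  have ha₀ : Spec.map i ≫ a₀ = a := by
    rw [← hη, ← Spec.map_comp_assoc]
    rfl
  have hpt : Spec.map i pt = closedPoint C₀ := Spec_closedPoint (f := i)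
  -- factor `b` through `Spec C₀'`
  have hW' : (a₀ ≫ g) (closedPoint C₀) ∈ W := by
    rw [← hpt, ← Scheme.Hom.comp_apply, ← Category.assoc, ha₀, ← hcomm, Scheme.Hom.comp_apply]
    rwa [show Spec.map (CommRingCat.ofHom π) pt = closedPoint C' from
      Spec_closedPoint (f := CommRingCat.ofHom π)]
  obtain ⟨θ, hθ⟩ := exists_spec_factor (R := .of C') hW b hsW
  obtain ⟨θ₀, hθ₀⟩ := exists_spec_factor (R := .of C₀) hW (a₀ ≫ g) hW'
  have hθeq : θ ≫ CommRingCat.ofHom π = θ₀ ≫ i := by
    apply Spec.map_injective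
    rw [← cancel_mono hW.fromSpec, Spec.map_comp, Spec.map_comp, Category.assoc, Category.assoc,
      hθ, hθ₀, hcomm, reassoc_of% ha₀]
  have hθC₀' : ∀ r, θ r ∈ C₀' := fun r => by
    rw [Subring.mem_comap, RingHom.comp_apply]
    rw [show π (θ r) = (θ₀ r).1 from congr($hθeq r)]
    exact (θ₀ r).2
  let b₀ : Spec (CommRingCat.of C₀') ⟶ S :=
    Spec.map (CommRingCat.ofHom (θ.hom.codRestrict C₀' hθC₀')) ≫ hW.fromSpec
  have hb₀ : Spec.map i' ≫ b₀ = b := by
    rw [← hθ, ← Spec.map_comp_assoc]
    rfl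
  have hcomm₀ : Spec.map (CommRingCat.ofHom π₀) ≫ b₀ = a₀ ≫ g := by
    rw [← hθ₀, ← Spec.map_comp_assoc]
    congr 2
    refine CommRingCat.hom_ext (RingHom.ext fun r => Subtype.ext ?_)
    exact congr($hθeq r)
  -- the residue field extension of `a₀` is trivial
  have hres : ∀ y : Spec (CommRingCat.of C₀), y = Spec.map i pt →
      Function.Surjective (a₀.residueFieldMap y).hom := by
    rintro _ rfl z
    obtain ⟨x, rfl⟩ := evalPt_surjective (.of C₀) hpt z
    obtain ⟨w, hw⟩ : ρ x.1 ∈ k := x.2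
    have e : (Spec.map i ≫ a₀).residueFieldMap pt =
        a₀.residueFieldMap (Spec.map i pt) ≫ (Spec.map i).residueFieldMap pt :=
      Scheme.residueFieldMap_comp _ _ _
    have hw' : ∃ w', (Spec.map i ≫ a₀).residueFieldMap pt w' = ρ x.1 := by
      rw [ha₀]
      exact ⟨w, hw⟩
    obtain ⟨w', hw'⟩ := hw'
    refine ⟨w', ((Spec.map i).residueFieldMap pt).hom.injective ?_⟩
    rw [e] at hw'
    exact hw'.trans (evalPt_naturality i pt x).symm
  have hat₀ : a₀ (closedPoint C₀) = t := by
    rw [← hpt, ← Scheme.Hom.comp_apply, ha₀, hat]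
  obtain ⟨c₀, hc₁, hc₂⟩ := hT C₀ C₀' π₀ hπ₀ a₀ b₀ hat₀ (hres _ hpt.symm) hcomm₀
  exact ⟨Spec.map i' ≫ c₀, by rw [reassoc_of% hsq, hc₁, ha₀], by rw [Category.assoc, hc₂, hb₀]⟩

end Groth.Agent.EtStruct
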